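import Mathlib
import Cfsg.Prelude.Def_CaseTheorems
import Cfsg.Agent.InvolCalc.DihedralEightCentralizer
import Cfsg.Agent.InvolCalc.KleinCentralizer
import Cfsg.Agent.SolvStruct.AltAut
import Cfsg.Agent.S0215
import Cfsg.Agent.S0255
import Cfsg.Agent.S1012

/-!
An involution with dihedral centralizer of order eight, in a group that may have subgroups of
index two.
-/

set_option autoImplicit false
set_option linter.unusedSectionVars false

namespace Cfsg.Lib.DihedralEight

open Subgroup Equiv

variable {G : Type*} [Group G] [Finite G]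

theorem le_oddCore {K : Subgroup G} (hK : K.Normal) (hodd : Odd (Nat.card K)) : K ≤ Cfsg.oddCore G :=
  le_sSup ⟨hK, Nat.coprime_two_right.2 hodd⟩

/-- an involution all of whose fixed points in an odd order normalized subgroup are trivial inverts it -/
theorem inverts {v : G} (hv : v * v = 1) {K : Subgroup G} (hn : ∀ x ∈ K, v * x * v⁻¹ ∈ K)
    (hfix : ∀ x ∈ K, v * x = x * v → x = 1) {x : G} (hx : x ∈ K) : v * x * v⁻¹ = x⁻¹ := by
  let φ : K →* K := {
    toFun := fun y => ⟨v * (y : G) * v⁻¹, hn y y.2⟩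
    map_one' := Subtype.ext (by simp)
    map_mul' := fun a b => Subtype.ext (by simp [mul_assoc]) }
  have hfpf : MonoidHom.FixedPointFree φ := fun y hy => Subtype.ext (hfix y y.2 (by
    have e : v * (y : G) * v⁻¹ = y := congrArg Subtype.val hy
    calc v * (y : G) = v * (y : G) * v⁻¹ * v := by group
      _ = y * v := by rw [e]))
  have hinv : Function.Involutive φ := fun y => Subtype.ext (by
    show v * (v * (y : G) * v⁻¹) * v⁻¹ = y
    calc v * (v * (y : G) * v⁻¹) * v⁻¹ = (v * v) * (y : G) * (v * v)⁻¹ := by group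
      _ = y := by rw [hv]; group)
  exact congrArg Subtype.val (congrFun (hfpf.coe_eq_inv_of_involutive hinv) ⟨x, hx⟩)

/-- a four-group whose involutions act without fixed points normalizes no nontrivial such subgroup -/
theorem four_fpf {a b : G} (ha : a * a = 1) (hb : b * b = 1) {K : Subgroup G}
    (hna : ∀ x ∈ K, a * x * a⁻¹ ∈ K) (hnb : ∀ x ∈ K, b * x * b⁻¹ ∈ K)
    (hfa : ∀ x ∈ K, a * x = x * a → x = 1) (hfb : ∀ x ∈ K, b * x = x * b → x = 1)
    (hfab : ∀ x ∈ K, a * b * x = x * (a * b) → x = 1) : K = ⊥ := by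
  refine (eq_bot_iff_forall _).2 fun x hx => hfab x hx ?_
  calc a * b * x = a * (b * x * b⁻¹) * a⁻¹ * (a * b) := by group
    _ = x * (a * b) := by rw [inverts hb hnb hfb hx, inverts ha hna hfa (inv_mem hx), inv_inv]

theorem center_sl3 : Subgroup.center (Matrix.SpecialLinearGroup (Fin 3) (ZMod 2)) = ⊥ := by
  refine (eq_bot_iff_forall _).2 fun A hA => ?_
  obtain ⟨r, hr, hA'⟩ := Matrix.SpecialLinearGroup.mem_center_iff.1 hA
  have key : ∀ x : ZMod 2, x ^ 3 = 1 → x = 1 := by decide
  have hr1 : r = 1 := key r (by rwa [Fintype.card_fin] at hr)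
  exact Subtype.ext (by rw [← hA', hr1, map_one]; rfl)

theorem sl3_iso {F : Type} [Field F] [Fintype F] (hF : Fintype.card F = 7)
    (e : G ≃* Matrix.ProjectiveSpecialLinearGroup (Fin 2) F) :
    Nonempty (G ≃* Matrix.SpecialLinearGroup (Fin 3) (ZMod 2)) := by
  obtain ⟨e'⟩ := Cfsg.Agent.S0255.result (F := F) (K := ZMod 2) hF (ZMod.card 2)
  exact ⟨(e.trans e').trans ((QuotientGroup.quotientMulEquivOfEq center_sl3).trans QuotientGroup.quotientBot)⟩

/-- The data. -/
structure Data (z r u : G) : Prop where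
  hz : orderOf z = 2
  hrz : r * r = z
  hu : orderOf u = 2
  huz : u * z = z * u
  hur : u * r * u = r⁻¹
  hC : Nat.card (centralizer ({z} : Set G)) = 8
  cases : ∀ c ∈ centralizer ({z} : Set G), c = 1 ∨ c = r ∨ c = z ∨ c = r⁻¹ ∨ c = u ∨ c = u * r ∨ c = u * z ∨ c = u * r⁻¹

theorem exists_data {z : G} (hz : orderOf z = 2)
    (e : centralizer ({z} : Set G) ≃* DihedralGroup 4) : ∃ r u, Data z r u := by
  set C := centralizer ({z} : Set G)
  set a : C := ⟨z, mem_centralizer_singleton_iff.2 rfl⟩ with ha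
  have hcen : ∀ c : C, a * c = c * a := fun c => Subtype.ext (mem_centralizer_singleton_iff.1 c.2).symm
  have key : ∀ d : DihedralGroup 4, (∀ x, d * x = x * d) → d = 1 ∨ d = DihedralGroup.r 2 := by decide +kernel
  have hea : e a = DihedralGroup.r 2 := by
    refine (key _ fun x => ?_).resolve_left fun h => ?_
    · obtain ⟨c, rfl⟩ := e.surjective x
      rw [← map_mul, ← map_mul, hcen]
    · have : (a : G) = 1 := congrArg Subtype.val (e.injective (h.trans (map_one e).symm))
      rw [show z = 1 from this, orderOf_one] at hz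
      omega
  set R := e.symm (DihedralGroup.r 1) with hR
  set U := e.symm (DihedralGroup.sr 0) with hU
  have hRR : R * R = a := e.injective (by rw [map_mul, hR, MulEquiv.apply_symm_apply, hea]; decide +kernel)
  refine ⟨R, U, hz, congrArg Subtype.val hRR, ?_, ?_, ?_, ?_, fun c hc => ?_⟩
  · rw [Subgroup.orderOf_coe, hU, MulEquiv.orderOf_eq, DihedralGroup.orderOf_sr]
  · exact congrArg Subtype.val (hcen U).symm
  · have : U * R * U = R⁻¹ := e.injective (by
      rw [map_mul, map_mul, map_inv, hR, hU, MulEquiv.apply_symm_apply, MulEquiv.apply_symm_apply]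
      decide +kernel)
    exact congrArg Subtype.val this
  · rw [Nat.card_congr e.toEquiv, Nat.card_eq_fintype_card]; decide +kernel
  · have hlist : ∀ d : DihedralGroup 4, d = 1 ∨ d = DihedralGroup.r 1 ∨ d = DihedralGroup.r 2 ∨
        d = (DihedralGroup.r 1)⁻¹ ∨ d = DihedralGroup.sr 0 ∨ d = DihedralGroup.sr 0 * DihedralGroup.r 1 ∨
        d = DihedralGroup.sr 0 * DihedralGroup.r 2 ∨ d = DihedralGroup.sr 0 * (DihedralGroup.r 1)⁻¹ := by
      decide +kernel
    have hsy : ∀ d, d = e ⟨c, hc⟩ → c = ((e.symm d : C) : G) := fun d hd => by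
      rw [hd, MulEquiv.symm_apply_apply]
    have ea' : e.symm (DihedralGroup.r 2) = a := by rw [← hea, MulEquiv.symm_apply_apply]
    rcases hlist (e ⟨c, hc⟩) with h | h | h | h | h | h | h | h <;> have hh := hsy _ h.symm
    · left; simpa using hh
    · right; left; exact hh
    · right; right; left; rw [hh, ea']
    · right; right; right; left; rw [hh, map_inv]; rfl
    · right; right; right; right; left; exact hh
    · right; right; right; right; right; left; rw [hh, map_mul]; rfl
    · right; right; right; right; right; right; left; rw [hh, map_mul, ea']; rfl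
    · right; right; right; right; right; right; right; rw [hh, map_mul, map_inv]; rfl

variable {z r u : G}

theorem zz (h : Data z r u) : z * z = 1 := by rw [← pow_two, ← h.hz, pow_orderOf_eq_one]

theorem uu (h : Data z r u) : u * u = 1 := by rw [← pow_two, ← h.hu, pow_orderOf_eq_one]

theorem z_ne (h : Data z r u) : z ≠ 1 := fun e => by
  have := h.hz
  rw [e, orderOf_one] at this
  omega

theorem r_mem (h : Data z r u) : r ∈ centralizer ({z} : Set G) :=
  mem_centralizer_singleton_iff.2 (by rw [← h.hrz]; group)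

theorem u_mem (h : Data z r u) : u ∈ centralizer ({z} : Set G) := mem_centralizer_singleton_iff.2 h.huz

theorem r_conj (h : Data z r u) : r * u * r⁻¹ = u * z := by
  have h1 : r * u = u * r⁻¹ := by
    calc r * u = u * u * r * u := by rw [uu h, one_mul]
      _ = u * (u * r * u) := by group
      _ = u * r⁻¹ := by rw [h.hur]
  calc r * u * r⁻¹ = u * (r⁻¹ * r⁻¹) := by rw [h1]; group
    _ = u * z := by rw [← mul_inv_rev, h.hrz, inv_eq_of_mul_eq_one_left (zz h)]

theorem data_ur (h : Data z r u) : Data z r (u * r) where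
  hz := h.hz
  hrz := h.hrz
  hu := by
    refine orderOf_eq_prime ?_ fun e => ?_
    · rw [pow_two]
      calc u * r * (u * r) = (u * r * u) * r := by group
        _ = 1 := by rw [h.hur]; group
    · have hu' : u = r⁻¹ := eq_inv_of_mul_eq_one_left e
      have := h.hu
      rw [hu', orderOf_inv] at this
      have h2 : r * r = 1 := by rw [← pow_two, ← this, pow_orderOf_eq_one]
      exact z_ne h (h.hrz ▸ h2)
  huz := by
    have hr := mem_centralizer_singleton_iff.1 (r_mem h)
    calc u * r * z = u * (r * z) := by group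
      _ = (u * z) * r := by rw [hr]; group
      _ = z * (u * r) := by rw [h.huz]; group
  hur := by
    calc u * r * r * (u * r) = (u * r * u) * (u * r * u) * r := by
          calc u * r * r * (u * r) = u * r * (u * u) * r * u * r := by rw [uu h]; group
            _ = _ := by group
      _ = r⁻¹ := by rw [h.hur]; group
  hC := h.hC
  cases := fun c hc => by
    have e1 : u * r * r = u * z := by rw [mul_assoc, h.hrz]
    have e2 : u * r * z = u * r⁻¹ := by rw [← h.hrz]; calc
      u * r * (r * r) = u * r⁻¹ * ((r * r) * (r * r)) := by group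
      _ = u * r⁻¹ := by rw [h.hrz, zz h, mul_one]
    have e3 : u * r * r⁻¹ = u := by group
    rcases h.cases c hc with e | e | e | e | e | e | e | e
    · exact Or.inl e
    · exact Or.inr (Or.inl e)
    · exact Or.inr (Or.inr (Or.inl e))
    · exact Or.inr (Or.inr (Or.inr (Or.inl e)))
    · exact Or.inr (Or.inr (Or.inr (Or.inr (Or.inr (Or.inr (Or.inr (e.trans e3.symm)))))))
    · exact Or.inr (Or.inr (Or.inr (Or.inr (Or.inl e))))
    · exact Or.inr (Or.inr (Or.inr (Or.inr (Or.inr (Or.inl (e.trans e1.symm))))))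
    · exact Or.inr (Or.inr (Or.inr (Or.inr (Or.inr (Or.inr (Or.inl (e.trans e2.symm)))))))

theorem exists_sylow (h : Data z r u) : ∃ S : Sylow 2 G, (S : Subgroup G) = centralizer ({z} : Set G) := by
  have : Fact (Nat.Prime 2) := ⟨Nat.prime_two⟩
  obtain ⟨S, hS⟩ := (IsPGroup.of_card (p := 2) (n := 3) (by rw [h.hC]; norm_num) :
    IsPGroup 2 (centralizer ({z} : Set G))).exists_le_sylow
  refine ⟨S, le_antisymm (fun s hs => ?_) hS⟩
  have hne : Nontrivial (S : Subgroup G) :=
    (Subgroup.nontrivial_iff_ne_bot _).2 fun e => z_ne h (mem_bot.1 (e ▸ hS (mem_centralizer_singleton_iff.2 rfl)))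
  have := S.isPGroup'.center_nontrivial
  obtain ⟨⟨w, hwc⟩, hw1⟩ := exists_ne (1 : Subgroup.center (S : Subgroup G))
  have hcom : ∀ y : (S : Subgroup G), (y : G) * (w : G) = (w : G) * (y : G) := fun y =>
    congrArg Subtype.val (mem_center_iff.1 hwc y)
  have hzS : z ∈ (S : Subgroup G) := hS (mem_centralizer_singleton_iff.2 rfl)
  have hwC : (w : G) ∈ centralizer ({z} : Set G) := mem_centralizer_singleton_iff.2 (hcom ⟨z, hzS⟩).symm
  have hwz : (w : G) = z := by
    have hwr := hcom ⟨r, hS (r_mem h)⟩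
    have hwu := hcom ⟨u, hS (u_mem h)⟩
    simp only at hwr hwu
    have hne1 : (w : G) ≠ 1 := fun e => hw1 (Subtype.ext (Subtype.ext e))
    have hru : r * u ≠ u * r := fun e => by
      have h1 : u * r * u = r := by rw [← e, mul_assoc, uu h, mul_one]
      rw [h.hur] at h1
      have h2 : r * r = 1 := by nth_rewrite 1 [← h1]; group
      exact z_ne h (h.hrz ▸ h2)
    rcases h.cases _ hwC with e | e | e | e | e | e | e | e
    · exact absurd e hne1
    · exact absurd (by rw [← e]; exact hwu) hru.symm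
    · exact e
    · refine absurd ?_ hru
      rw [e] at hwu
      calc r * u = r * (u * r⁻¹) * r := by group
        _ = u * r := by rw [hwu]; group
    · exact absurd (by rw [← e]; exact hwr) hru
    · refine absurd ?_ hru
      rw [e] at hwr
      calc r * u = r * (u * r) * r⁻¹ := by group
        _ = u * r := by rw [hwr]; group
    · refine absurd ?_ hru
      rw [e] at hwr
      have hr := mem_centralizer_singleton_iff.1 (r_mem h)
      calc r * u = r * (u * z) * z⁻¹ := by group
        _ = u * (z * r) * z⁻¹ := by rw [hwr]; group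
        _ = u * r := by rw [← hr]; group
    · refine absurd ?_ hru
      rw [e] at hwr
      calc r * u = r * (u * r⁻¹) * r := by group
        _ = u * r := by rw [hwr]; group
  exact mem_centralizer_singleton_iff.2 (hwz ▸ hcom ⟨s, hs⟩)

/-- an isolated involution gives the first alternative -/
theorem isolated_case (h : Data z r u)
    (hiso : ∀ g : G, g * z * g⁻¹ ∈ centralizer ({z} : Set G) → g * z * g⁻¹ = z) :
    centralizer ({z} : Set G) ⊔ Cfsg.oddCore G = ⊤ := by
  obtain ⟨S, hS⟩ := exists_sylow h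
  obtain ⟨K, hK, hodd, hcom⟩ := Cfsg.Agent.S0215.result S z h.hz
    (by show z ∈ (S : Subgroup G); rw [hS]; exact mem_centralizer_singleton_iff.2 rfl)
    (fun g hg => hiso g (by rw [← hS]; exact hg))
  refine eq_top_iff.2 fun g _ => ?_
  set v := g * z * g⁻¹ with hv
  -- `z v` lies in `K`, and the dihedral group on two such involutions conjugates one to the other
  have hzv : z * v ∈ K := by
    have := hcom g
    rw [inv_eq_of_mul_eq_one_left (zz h)] at this
    rw [hv, show z * (g * z * g⁻¹) = z * g * z * g⁻¹ by group]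
    exact this
  have hvv : v * v = 1 := by
    rw [hv]
    calc g * z * g⁻¹ * (g * z * g⁻¹) = g * (z * z) * g⁻¹ := by group
      _ = 1 := by rw [zz h]; group
  set d := z * v with hd
  have hdodd : Odd (orderOf d) := by
    refine hodd.of_dvd_nat ?_
    have h1 := orderOf_dvd_natCard (⟨d, hzv⟩ : K)
    rwa [Subgroup.orderOf_mk] at h1
  obtain ⟨i, hi⟩ := hdodd
  set k := d ^ (i + 1) with hk
  have hinv : z * k * z⁻¹ = k⁻¹ := by
    have e1 : z * d * z⁻¹ = d⁻¹ := by
      rw [hd, mul_inv_rev, inv_eq_of_mul_eq_one_left hvv, inv_eq_of_mul_eq_one_left (zz h)]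
      rw [← mul_assoc, zz h, one_mul]
    rw [hk, ← inv_pow, ← e1, ← MulAut.conj_apply, map_pow, MulAut.conj_apply]
  have hkv : k * z * k⁻¹ = v⁻¹⁻¹ * 1 ∨ k⁻¹ * z * k = v := by
    right
    have hk2 : k * k = d := by
      rw [hk, ← pow_add, show i + 1 + (i + 1) = (2 * i + 1) + 1 by omega, pow_succ, ← hi, pow_orderOf_eq_one, one_mul]
    calc k⁻¹ * z * k = (z * k * z⁻¹) * z * k := by rw [hinv]
      _ = z * (k * k) := by group
      _ = v := by rw [hk2, hd, ← mul_assoc, zz h, one_mul]
  have hkv' : k⁻¹ * z * k = v := by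
    rcases hkv with e | e
    · calc k⁻¹ * z * k = k⁻¹ * z * k := rfl
        _ = (z * k * z⁻¹) * z * k := by rw [hinv]
        _ = z * (k * k) := by group
        _ = v := by
          rw [show k * k = d by
            rw [hk, ← pow_add, show i + 1 + (i + 1) = (2 * i + 1) + 1 by omega, pow_succ, ← hi, pow_orderOf_eq_one,
              one_mul], hd, ← mul_assoc, zz h, one_mul]
    · exact e
  have hc : k * g ∈ centralizer ({z} : Set G) := by
    rw [mem_centralizer_singleton_iff]
    calc k * g * z = k * (g * z * g⁻¹) * g := by group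
      _ = k * (k⁻¹ * z * k) * g := by rw [hkv']
      _ = z * (k * g) := by group
  have hkO : k⁻¹ ∈ Cfsg.oddCore G := inv_mem (le_oddCore hK hodd (pow_mem hzv _))
  rw [show g = k⁻¹ * (k * g) by group]
  exact mul_mem ((le_sup_right : Cfsg.oddCore G ≤ _) hkO) ((le_sup_left : centralizer ({z} : Set G) ≤ _) hc)

section FourGroup

variable {H V : Subgroup G}

/-- The four-group inside a normal subgroup of index two. -/
structure Four (z r u : G) (H V : Subgroup G) : Prop where
  data : Data z r u
  hn : H.Normal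
  idx : H.index = 2
  zH : z ∈ H
  uH : u ∈ H
  le : V ≤ H
  card : Nat.card V = 4
  mem : ∀ g, g ∈ V ↔ g = 1 ∨ g = z ∨ g = u ∨ g = u * z
  comm : ∀ a ∈ V, ∀ b ∈ V, a * b = b * a
  conj : ∀ v ∈ V, v ≠ 1 → IsConj z v
  self : ∀ v ∈ V, v ≠ 1 → ∀ x ∈ H, v * x = x * v → x ∈ V
  centV : centralizer (V : Set G) ≤ V
  oddfree : ∀ K : Subgroup G, K ≤ H → Odd (Nat.card K) → (∀ x ∈ K, z * x * z⁻¹ ∈ K) →
    (∀ x ∈ K, u * x * u⁻¹ ∈ K) → K = ⊥

theorem ru_ne (h : Data z r u) : r * u ≠ u * r := fun e => z_ne h (by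
  have h1 : r * u * r⁻¹ = u := by rw [e]; group
  rw [r_conj h] at h1
  exact mul_eq_left.1 h1)

theorem exists_four (h : Data z r u) (hHn : H.Normal) (hH : H.index = 2) (hzH : z ∈ H) (huH : u ∈ H)
    (hzu : IsConj z u) : ∃ V : Subgroup G, Four z r u H V := by
  classical
  have : Fact (Nat.Prime 2) := ⟨Nat.prime_two⟩
  set C := centralizer ({z} : Set G) with hC
  have hrH : r ∉ H := by
    intro hr
    obtain ⟨S, hS⟩ := exists_sylow h
    have hle : (S : Subgroup G) ≤ H := by
      rw [hS]
      intro c hc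
      rcases h.cases c hc with e | e | e | e | e | e | e | e <;> rw [e]
      exacts [one_mem H, hr, hzH, inv_mem hr, huH, mul_mem huH hr, mul_mem huH hzH, mul_mem huH (inv_mem hr)]
    have hd := index_dvd_of_le hle
    rw [hH] at hd
    exact S.not_dvd_index hd
  let V : Subgroup G := {
    carrier := {g | g = 1 ∨ g = z ∨ g = u ∨ g = u * z}
    one_mem' := Or.inl rfl
    mul_mem' := by
      have e1 : z * (u * z) = u := by rw [← mul_assoc, ← h.huz, mul_assoc, zz h, mul_one]
      have e2 : u * (u * z) = z := by rw [← mul_assoc, uu h, one_mul]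
      have e3 : u * z * u = z := by rw [h.huz, mul_assoc, uu h, mul_one]
      have e4 : u * z * z = u := by rw [mul_assoc, zz h, mul_one]
      have e5 : u * z * (u * z) = 1 := by rw [← mul_assoc, e3, zz h]
      rintro a b (rfl | rfl | rfl | rfl) (rfl | rfl | rfl | rfl) <;>
        simp [zz h, uu h, ← h.huz, e1, e2, e3, e4, e5]
    inv_mem' := by
      rintro a (rfl | rfl | rfl | rfl)
      · exact Or.inl inv_one
      · exact Or.inr (Or.inl (inv_eq_of_mul_eq_one_left (zz h)))
      · exact Or.inr (Or.inr (Or.inl (inv_eq_of_mul_eq_one_left (uu h))))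
      · refine Or.inr (Or.inr (Or.inr ?_))
        rw [mul_inv_rev, inv_eq_of_mul_eq_one_left (zz h), inv_eq_of_mul_eq_one_left (uu h), h.huz] }
  have hVmem : ∀ g, g ∈ V ↔ g = 1 ∨ g = z ∨ g = u ∨ g = u * z := fun g => Iff.rfl
  have hzV : z ∈ V := Or.inr (Or.inl rfl)
  have huV : u ∈ V := Or.inr (Or.inr (Or.inl rfl))
  have huzV : u * z ∈ V := Or.inr (Or.inr (Or.inr rfl))
  have hCV : ∀ c ∈ C, c ∈ H → c ∈ V := by
    intro c hc hcH
    rcases h.cases c hc with e | e | e | e | e | e | e | e
    · exact Or.inl e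
    · exact absurd (e ▸ hcH) hrH
    · exact Or.inr (Or.inl e)
    · exact absurd (inv_mem_iff.1 (e ▸ hcH)) hrH
    · exact Or.inr (Or.inr (Or.inl e))
    · refine absurd ?_ hrH
      have := mul_mem (inv_mem huH) (e ▸ hcH)
      simpa using this
    · exact Or.inr (Or.inr (Or.inr e))
    · refine absurd ?_ hrH
      have := inv_mem (mul_mem (inv_mem huH) (e ▸ hcH))
      simpa using this
  have hVH : V ≤ H := by
    rintro g (rfl | rfl | rfl | rfl)
    exacts [one_mem H, hzH, huH, mul_mem huH hzH]
  have hV4 : Nat.card V = 4 := by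
    have hs : ((V : Set G)) = (↑({1, z, u, u * z} : Finset G) : Set G) := by
      ext g
      simp [hVmem]
    have hu1 : u ≠ 1 := fun e => by
      have := h.hu
      rw [e, orderOf_one] at this
      omega
    have huz : u ≠ z := fun e => hrH (by
      exfalso
      have h1 := h.hur
      rw [e] at h1
      have hr := mem_centralizer_singleton_iff.1 (r_mem h)
      rw [← hr, mul_assoc, zz h, mul_one] at h1
      exact z_ne h (h.hrz ▸ (by nth_rewrite 1 [h1]; group)))
    rw [← SetLike.coe_sort_coe, hs, Nat.card_coe_set_eq, Set.ncard_coe_finset]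
    rw [Finset.card_insert_of_notMem, Finset.card_insert_of_notMem, Finset.card_insert_of_notMem,
      Finset.card_singleton]
    · simp only [Finset.mem_singleton]
      exact fun e => z_ne h (left_eq_mul.1 e)
    · simp only [Finset.mem_insert, Finset.mem_singleton, not_or]
      exact ⟨huz.symm, fun e => hu1 (by
        calc u = u * z * z⁻¹ := by group
          _ = 1 := by rw [← e]; group)⟩
    · simp only [Finset.mem_insert, Finset.mem_singleton, not_or]
      exact ⟨(z_ne h).symm, hu1.symm, fun e => huz (by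
        have := eq_inv_of_mul_eq_one_left e.symm
        rw [this, inv_eq_of_mul_eq_one_left (zz h)])⟩
  have hVcomm : ∀ a ∈ V, ∀ b ∈ V, a * b = b * a := by
    have c2 : u * (u * z) = u * z * u := by rw [mul_assoc, h.huz]
    have c3 : z * (u * z) = u * z * z := by rw [← mul_assoc, h.huz]
    rintro a (rfl | rfl | rfl | rfl) b (rfl | rfl | rfl | rfl) <;>
      first
        | simp
        | exact h.huz
        | exact h.huz.symm
        | exact c2
        | exact c2.symm
        | exact c3
        | exact c3.symm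
  -- all involutions of `V` are conjugate to `z`, so centralize only `V` inside `H`
  have hVconj : ∀ v ∈ V, v ≠ 1 → IsConj z v := by
    rintro v (rfl | rfl | rfl | rfl) hv
    · exact absurd rfl hv
    · exact IsConj.refl _
    · exact hzu
    · exact hzu.trans (isConj_iff.2 ⟨r, r_conj h⟩)
  have hself : ∀ v ∈ V, v ≠ 1 → ∀ x ∈ H, v * x = x * v → x ∈ V := by
    intro v hv hv1 x hx hvx
    obtain ⟨g, hg⟩ := isConj_iff.1 (hVconj v hv hv1)
    have hin : ∀ y ∈ H, v * y = y * v → g⁻¹ * y * g ∈ V := by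
      intro y hy hvy
      refine hCV _ (mem_centralizer_singleton_iff.2 ?_) (by simpa using hHn.conj_mem y hy g⁻¹)
      calc g⁻¹ * y * g * z = g⁻¹ * (y * (g * z * g⁻¹)) * g := by group
        _ = g⁻¹ * ((g * z * g⁻¹) * y) * g := by rw [hg, hvy]
        _ = z * (g⁻¹ * y * g) := by group
    let φ : V → V := fun y => ⟨g⁻¹ * (y : G) * g, hin y (hVH y.2) (hVcomm v hv y y.2)⟩
    have hφ : Function.Injective φ := fun a b e => by
      have e' := congrArg Subtype.val e
      exact Subtype.ext (mul_left_cancel (mul_right_cancel e'))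
    obtain ⟨⟨y, hy⟩, hye⟩ := (Finite.injective_iff_bijective.1 hφ).2 ⟨_, hin x hx hvx⟩
    have e' : g⁻¹ * y * g = g⁻¹ * x * g := congrArg Subtype.val hye
    rwa [← mul_left_cancel (mul_right_cancel e')]
  have hfix : ∀ K : Subgroup G, K ≤ H → Odd (Nat.card K) → ∀ v ∈ V, v ≠ 1 → ∀ x ∈ K, v * x = x * v → x = 1 := by
    intro K hKH hodd v hv hv1 x hx hvx
    have hxV := hself v hv hv1 x (hKH hx) hvx
    have hb : V ⊓ K = ⊥ := inf_eq_bot_of_coprime (by
      rw [hV4]; exact Nat.Coprime.pow_left 2 (Nat.coprime_two_left.2 hodd))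
    exact mem_bot.1 (hb ▸ mem_inf.2 ⟨hxV, hx⟩)
  have hu1 : u ≠ 1 := fun e => by
    have := h.hu
    rw [e, orderOf_one] at this
    omega
  have huz1 : u * z ≠ 1 := fun e => by
    have h1 := hV4
    have : u = z := by rw [eq_inv_of_mul_eq_one_left e, inv_eq_of_mul_eq_one_left (zz h)]
    have hle : (V : Set G) ⊆ {1, z} := fun g hg => by
      rcases hg with rfl | rfl | rfl | rfl
      · exact Or.inl rfl
      · exact Or.inr rfl
      · exact Or.inr this
      · exact Or.inl e
    have h2 := Set.ncard_le_ncard hle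
    rw [← Nat.card_coe_set_eq, SetLike.coe_sort_coe, h1] at h2
    have := Set.ncard_insert_le (1 : G) {z}
    rw [Set.ncard_singleton] at this
    omega
  have hno : ∀ K : Subgroup G, K ≤ H → Odd (Nat.card K) → (∀ x ∈ K, z * x * z⁻¹ ∈ K) →
      (∀ x ∈ K, u * x * u⁻¹ ∈ K) → K = ⊥ := by
    intro K hKH hodd hnz hnu
    refine four_fpf (uu h) (zz h) hnu hnz (hfix K hKH hodd u huV hu1) (hfix K hKH hodd z hzV (z_ne h))
      (hfix K hKH hodd (u * z) huzV huz1)
  have hCGV : centralizer (V : Set G) ≤ V := by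
    intro c hc
    rw [mem_centralizer_iff] at hc
    have hcC : c ∈ C := mem_centralizer_singleton_iff.2 (hc z hzV).symm
    refine hCV c hcC ?_
    by_contra hcH'
    -- outside `H` the centralizer of `z` moves `u`
    have hcu : c * u * c⁻¹ = u := by rw [← hc u huV]; group
    rcases h.cases c hcC with e | e | e | e | e | e | e | e <;> rw [e] at hcu hcH'
    · exact hcH' (one_mem H)
    · rw [r_conj h] at hcu; exact z_ne h (mul_eq_left.1 hcu)
    · exact hcH' hzH
    · refine z_ne h (mul_eq_left.1 (show u * z = u from ?_))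
      rw [← r_conj h]
      nth_rewrite 1 [← hcu]
      group
    · exact hcH' huH
    · refine z_ne h (mul_eq_left.1 (show u * z = u from ?_))
      rw [← r_conj h]
      calc r * u * r⁻¹ = u * (u * r * u * (u * r)⁻¹) * u := by
            rw [mul_inv_rev, inv_eq_of_mul_eq_one_left (uu h)]
            simp only [← mul_assoc, uu h, one_mul]
            simp only [mul_assoc, uu h, mul_one]
        _ = u := by rw [hcu, uu h, one_mul]
    · exact hcH' (mul_mem huH hzH)
    · refine z_ne h (mul_eq_left.1 (show u * z = u from ?_))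
      rw [← r_conj h]
      nth_rewrite 1 [← hcu]
      rw [mul_inv_rev, inv_inv, inv_eq_of_mul_eq_one_left (uu h)]
      have e1 : r * (u * r⁻¹) = (r * u * r⁻¹) := by group
      calc r * (u * r⁻¹ * u * (r * u)) * r⁻¹ = (r * u * r⁻¹) * u * (r * u * r⁻¹) := by group
        _ = u * z * u * (u * z) := by rw [r_conj h]
        _ = u := by
          rw [← mul_assoc, mul_assoc (u * z) u u, uu h, mul_one, mul_assoc u z z, zz h, mul_one]
  exact ⟨V, h, hHn, hH, hzH, huH, hVH, hV4, hVmem, hVcomm, hVconj, hself, hCGV, hno⟩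

theorem ord_two (h4 : Four z r u H V) {v : G} (hv : v ∈ V) (hv1 : v ≠ 1) : orderOf v = 2 := by
  obtain ⟨g, rfl⟩ := isConj_iff.1 (h4.conj v hv hv1)
  rw [← MulAut.conj_apply, MulEquiv.orderOf_eq, h4.data.hz]

theorem four_elems (h4 : Four z r u H V) {v w : G} (hv : v ∈ V) (hv1 : v ≠ 1) (hwV : w ∈ V) (hw1 : w ≠ 1)
    (hne : w ≠ v) (x : G) (hx : x ∈ V) : x = 1 ∨ x = v ∨ x = w ∨ x = v * w := by
  classical
  by_contra! hx'
  obtain ⟨x1, x2, x3, x4⟩ := hx'
  let _ := Fintype.ofFinite G
  have hsub5 : ({1, v, w, v * w, x} : Finset G) ⊆ Finset.univ.filter (fun g => g ∈ V) := by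
    intro y hy
    simp only [Finset.mem_insert, Finset.mem_singleton] at hy
    refine Finset.mem_filter.2 ⟨Finset.mem_univ _, ?_⟩
    rcases hy with rfl | rfl | rfl | rfl | rfl
    exacts [one_mem V, hv, hwV, mul_mem hv hwV, hx]
  have hvv : v⁻¹ = v := inv_eq_of_mul_eq_one_left (by rw [← pow_two, ← ord_two h4 hv hv1, pow_orderOf_eq_one])
  have e1 : v * w ≠ 1 := fun e => hne (by rw [← inv_eq_of_mul_eq_one_right e, hvv])
  have := Finset.card_le_card hsub5
  rw [Finset.card_insert_of_notMem (by simp [hv1.symm, hw1.symm, e1.symm, x1.symm]),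
    Finset.card_insert_of_notMem (by simp [hne.symm, hw1, x2.symm]),
    Finset.card_insert_of_notMem (by simp [hv1, x3.symm]),
    Finset.card_insert_of_notMem (by simp [x4.symm]), Finset.card_singleton,
    ← Fintype.card_subtype, ← Nat.card_eq_fintype_card, show Nat.card {g // g ∈ V} = 4 from h4.card] at this
  omega

/-- a normal four-group gives `S₄` -/
theorem klein_case (h4 : Four z r u H V) (hVn : V.Normal) (hzu : IsConj z u)
    (hall : ∀ b ∈ H, orderOf b = 2 → b ∈ V) : Nonempty (G ≃* Perm (Fin 4)) := by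
  classical
  have : Fact (Nat.Prime 2) := ⟨Nat.prime_two⟩
  have : Fact (Nat.Prime 3) := ⟨Nat.prime_three⟩
  have h := h4.data
  let φ : G →* MulAut V := MulAut.conjNormal
  have hker : φ.ker ≤ V := fun x hx => h4.centV (mem_centralizer_iff.2 fun v hv => by
    have := congrArg Subtype.val (DFunLike.congr_fun hx ⟨v, hv⟩)
    simp only [φ, MulAut.conjNormal_apply, MulAut.one_apply] at this
    exact (mul_inv_eq_iff_eq_mul.1 this).symm)
  have h6 : Nat.card (MulAut V) ≤ 6 := by
    let T := {w : V // w ≠ 1}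
    let ψ : MulAut V → Perm T := fun α => Equiv.subtypeEquiv α.toEquiv (fun w => by
      constructor
      · intro hw he
        exact hw (α.injective (he.trans (map_one α).symm))
      · intro he hw
        exact he (by rw [hw]; exact map_one α))
    have hψ : Function.Injective ψ := fun α β e => MulEquiv.ext fun w => by
      by_cases hw : w = 1
      · rw [hw, map_one, map_one]
      · exact congrArg Subtype.val (DFunLike.congr_fun e ⟨w, hw⟩)
    refine le_trans (Nat.card_le_card_of_injective ψ hψ) ?_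
    have hT : Nat.card T + 1 = Nat.card V := by
      rw [← Finite.card_option]
      exact Nat.card_congr (Equiv.optionSubtypeNe (1 : V))
    rw [h4.card] at hT
    rw [Nat.card_perm, show Nat.card T = 3 by omega]
    rfl
  have hle : Nat.card G ≤ 24 := by
    rw [← φ.ker.card_mul_index, index_ker, show (24 : ℕ) = 4 * 6 from rfl, ← h4.card]
    exact Nat.mul_le_mul (card_le_of_le hker)
      ((Nat.card_le_card_of_injective _ φ.range.subtype_injective).trans h6)
  obtain ⟨S, hS⟩ := exists_sylow h
  have hGo := (S : Subgroup G).card_mul_index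
  rw [hS, h.hC] at hGo
  have ho : ¬ 2 ∣ (centralizer ({z} : Set G)).index := hS ▸ S.not_dvd_index
  have hne1 : (centralizer ({z} : Set G)).index ≠ 1 := fun e => by
    obtain ⟨g, hg⟩ := isConj_iff.1 hzu
    have hgz := mem_centralizer_singleton_iff.1 ((index_eq_one.1 e).symm ▸ mem_top g : g ∈ centralizer ({z} : Set G))
    have huz : u = z := by rw [← hg, hgz]; group
    have h1 := r_conj h
    rw [huz, zz h, mem_centralizer_singleton_iff.1 (r_mem h)] at h1
    exact z_ne h (by simpa using h1)
  have h24 : Nat.card G = 24 := by omega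
  refine Cfsg.Agent.S1012.result h24 fun g hg => ?_
  set a := g ^ 2 with ha
  set b := g ^ 3 with hb
  have ha3 : orderOf a = 3 := by rw [ha, orderOf_pow_of_dvd two_ne_zero (by rw [hg]; norm_num), hg]
  have hb2 : orderOf b = 2 := by rw [hb, orderOf_pow_of_dvd three_ne_zero (by rw [hg]; norm_num), hg]
  have hab : a * b = b * a := by rw [ha, hb, ← pow_add, ← pow_add]
  -- the element of order three centralizes no involution of `V`
  have hfree : ∀ v ∈ V, v ≠ 1 → a * v ≠ v * a := fun v hv hv1 e => by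
    obtain ⟨c, hc⟩ := isConj_iff.1 (h4.conj v hv hv1)
    have hmem : c⁻¹ * a * c ∈ centralizer ({z} : Set G) := by
      rw [mem_centralizer_singleton_iff]
      calc c⁻¹ * a * c * z = c⁻¹ * (a * (c * z * c⁻¹)) * c := by group
        _ = c⁻¹ * ((c * z * c⁻¹) * a) * c := by rw [hc, e]
        _ = z * (c⁻¹ * a * c) := by group
    have hd := orderOf_dvd_natCard (⟨_, hmem⟩ : centralizer ({z} : Set G))
    rw [Subgroup.orderOf_mk, h.hC, show c⁻¹ * a * c = MulAut.conj c⁻¹ a by simp, MulEquiv.orderOf_eq, ha3] at hd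
    norm_num at hd
  have hbV : b ∉ V := fun hbV => hfree b hbV (fun e => by rw [e, orderOf_one] at hb2; omega) hab
  have hbH : b ∉ H := fun hbH => hbV (hall b hbH hb2)
  -- a nontrivial fixed point of `b` on `V`
  obtain ⟨v, hv, hv1, hvb⟩ : ∃ v ∈ V, v ≠ 1 ∧ b * v = v * b := by
    have hzV : z ∈ V := (h4.mem z).2 (Or.inr (Or.inl rfl))
    have hbb : b * b = 1 := by rw [← pow_two, ← hb2, pow_orderOf_eq_one]
    set w := b * z * b⁻¹ with hw
    have hwV : w ∈ V := hVn.conj_mem z hzV b
    by_cases he : z * w = 1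
    · refine ⟨z, hzV, z_ne h, ?_⟩
      have hwz : w = z := by rw [← inv_eq_of_mul_eq_one_right he, inv_eq_of_mul_eq_one_left (zz h)]
      exact mul_inv_eq_iff_eq_mul.1 hwz
    · refine ⟨z * w, mul_mem hzV hwV, he, mul_inv_eq_iff_eq_mul.1 ?_⟩
      rw [h4.comm z hzV w hwV]
      calc b * (w * z) * b⁻¹ = (b * b) * z * (b * b)⁻¹ * (b * z * b⁻¹) := by rw [hw]; group
        _ = w * z := by rw [hbb, ← hw, ← h4.comm z hzV w hwV]; group
  -- its images under `a` are also fixed, so `b` centralizes `V`
  set w := a * v * a⁻¹ with hw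
  have hwV : w ∈ V := hVn.conj_mem v hv a
  have hwb : b * w = w * b := by
    calc b * w = a * (b * v) * a⁻¹ := by rw [hw, ← mul_assoc, ← mul_assoc, ← hab]; group
      _ = a * v * (b * a⁻¹) := by rw [hvb]; group
      _ = w * b := by
        have : b * a⁻¹ = a⁻¹ * b := (Commute.inv_left hab).eq.symm
        rw [this, hw]; group
  have hne : w ≠ v := fun e => hfree v hv hv1 (mul_inv_eq_iff_eq_mul.1 e)
  have hw1 : w ≠ 1 := fun e => hv1 (conj_eq_one_iff.1 e)
  refine hbV (h4.centV (mem_centralizer_iff.2 fun x hx => ?_))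
  have hfour := four_elems h4 hv hv1 hwV hw1 hne x hx
  rcases hfour with rfl | rfl | rfl | rfl
  · simp
  · exact hvb.symm
  · exact hwb.symm
  · calc v * w * b = v * (w * b) := by group
      _ = (v * b) * w := by rw [← hwb]; group
      _ = b * (v * w) := by rw [← hvb]; group

theorem four_case (h : Data z r u) (hHn : H.Normal) (hH : H.index = 2) (hzH : z ∈ H) (huH : u ∈ H)
    (hzu : IsConj z u) :
    Nonempty (G ≃* Perm (Fin 4)) ∨ Nonempty (G ≃* Perm (Fin 5)) := by
  classical
  have : Fact (Nat.Prime 2) := ⟨Nat.prime_two⟩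
  obtain ⟨V, h4⟩ := exists_four h hHn hH hzH huH hzu
  have hzV : z ∈ V := (h4.mem z).2 (Or.inr (Or.inl rfl))
  have huV : u ∈ V := (h4.mem u).2 (Or.inr (Or.inr (Or.inl rfl)))
  have hV4 := h4.card
  set K := closure {x : G | x ∈ H ∧ orderOf x = 2} with hK
  have hKn : K.Normal := by
    refine ⟨fun n hn g => ?_⟩
    have hmap : K.map (MulAut.conj g).toMonoidHom ≤ K := by
      rw [hK, MonoidHom.map_closure]
      refine closure_mono ?_
      rintro _ ⟨x, ⟨hxH, hx2⟩, rfl⟩
      exact ⟨hHn.conj_mem x hxH g, by rw [MulEquiv.coe_toMonoidHom, MulEquiv.orderOf_eq, hx2]⟩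
    exact hmap (mem_map_of_mem (MulAut.conj g).toMonoidHom hn)
  have hKH : K ≤ H := by
    rw [hK, closure_le]
    exact fun x hx => hx.1
  have hVK : V ≤ K := fun v hv => by
    by_cases hv1 : v = 1
    · rw [hv1]; exact one_mem K
    · exact subset_closure ⟨h4.le hv, ord_two h4 hv hv1⟩
  -- the odd part of `|G|`
  obtain ⟨o, ho, hGo⟩ : ∃ o, Odd o ∧ Nat.card G = 8 * o := by
    obtain ⟨S, hS⟩ := exists_sylow h
    refine ⟨(S : Subgroup G).index, ?_, ?_⟩
    · rw [← Nat.not_even_iff_odd, even_iff_two_dvd]; exact S.not_dvd_index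
    · rw [← (S : Subgroup G).card_mul_index, hS, h.hC]
  have hcH : Nat.card H = 4 * o := by
    have := H.card_mul_index
    rw [hH, hGo] at this
    omega
  set VK := V.subgroupOf K with hVKdef
  have hVKcard : Nat.card VK = 4 := by rw [hVKdef, Nat.card_congr (subgroupOfEquivOfLe hVK).toEquiv, hV4]
  obtain ⟨P, hP⟩ : ∃ P : Sylow 2 K, (P : Subgroup K) = VK := by
    obtain ⟨P, hP⟩ := (IsPGroup.of_card (p := 2) (n := 2) (by rw [hVKcard]; norm_num) : IsPGroup 2 VK).exists_le_sylow
    refine ⟨P, (eq_of_le_of_card_ge hP ?_).symm⟩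
    obtain ⟨n, hn⟩ := P.isPGroup'.exists_card_eq
    have hd := (card_subgroup_dvd_card (P : Subgroup K)).trans (card_dvd_of_le hKH)
    rw [hn, hcH] at hd
    have h2 := ((Nat.coprime_two_left.2 ho).pow_left n).dvd_of_dvd_mul_right hd
    rw [hn, hVKcard]
    exact Nat.le_of_dvd (by norm_num) h2
  by_cases hNV : normalizer ((P : Subgroup K) : Set K) ≤ (P : Subgroup K)
  · -- `K` is the four-group
    left
    have hNC : normalizer ((P : Subgroup K) : Set K) ≤ centralizer ((P : Subgroup K) : Set K) := fun x hx => by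
      rw [mem_centralizer_iff]
      intro y hy
      have h1 : (x : G) ∈ V := mem_subgroupOf.1 (show x ∈ VK by rw [← hP]; exact hNV hx)
      have h2 : (y : G) ∈ V := mem_subgroupOf.1 (show y ∈ VK by rw [← hP]; exact hy)
      exact Subtype.ext (h4.comm _ h2 _ h1)
    have hcomp := MonoidHom.ker_transferSylow_isComplement' P hNC
    obtain ⟨W, hWn, hWc⟩ : ∃ W : Subgroup K, W.Normal ∧ Nat.card W * 4 = Nat.card K := by
      refine ⟨_, MonoidHom.normal_ker (MonoidHom.transferSylow P hNC), ?_⟩
      have := hcomp.card_mul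
      rwa [show Nat.card (P : Subgroup K) = 4 from (congrArg (fun X : Subgroup K => Nat.card X) hP).trans hVKcard] at this
    have hWodd : Odd (Nat.card W) := by
      have hd := card_dvd_of_le hKH
      rw [← hWc, hcH, mul_comm, Nat.mul_dvd_mul_iff_left (by norm_num)] at hd
      exact ho.of_dvd_nat hd
    have hWbot : W.map K.subtype = ⊥ := by
      refine h4.oddfree _ ((map_subtype_le W).trans hKH) (by rwa [card_map_of_injective K.subtype_injective]) ?_ ?_
      all_goals
        rintro _ ⟨x, hx, rfl⟩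
      · exact ⟨⟨z, hVK hzV⟩ * x * ⟨z, hVK hzV⟩⁻¹, hWn.conj_mem x hx _, rfl⟩
      · exact ⟨⟨u, hVK huV⟩ * x * ⟨u, hVK huV⟩⁻¹, hWn.conj_mem x hx _, rfl⟩
    have hKV : K = V := by
      refine (eq_of_le_of_card_ge hVK ?_).symm
      rw [← hWc, ← card_map_of_injective K.subtype_injective, hWbot, card_bot, hV4]
    refine klein_case h4 (hKV ▸ hKn) hzu fun b hbH hb2 => ?_
    rw [← hKV]
    exact subset_closure ⟨hbH, hb2⟩
  · -- `K` is simple
    right
    obtain ⟨k, hkN, hkP⟩ := SetLike.not_le_iff_exists.1 hNV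
    have hkV : (k : G) ∉ V := fun hk => hkP (by rw [hP]; exact mem_subgroupOf.2 hk)
    have hknorm : ∀ v ∈ V, (k : G) * v * (k : G)⁻¹ ∈ V := by
      intro v hv
      have := (mem_normalizer_iff.1 hkN ⟨v, hVK hv⟩).1 (by rw [hP]; exact mem_subgroupOf.2 hv)
      rw [hP] at this
      exact mem_subgroupOf.1 this
    have hmove : ∀ v ∈ V, v ≠ 1 → (k : G) * v * (k : G)⁻¹ ≠ v := fun v hv hv1 e => hkV
      (h4.self v hv hv1 k (hKH k.2) (mul_inv_eq_iff_eq_mul.1 e).symm)
    have hsimp : IsSimpleGroup K := by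
      have : Nontrivial K := ⟨⟨⟨z, hVK hzV⟩, 1, fun e => z_ne h (congrArg Subtype.val e)⟩⟩
      refine ⟨fun N hN => ?_⟩
      by_cases hev : 2 ∣ Nat.card N
      · right
        obtain ⟨⟨a, haN⟩, ha2⟩ := exists_prime_orderOf_dvd_card' 2 hev
        rw [Subgroup.orderOf_mk] at ha2
        have hinto : ∀ b : K, orderOf b = 2 → ∃ g : K, ((g * b * g⁻¹ : K) : G) ∈ V := by
          intro b hb
          obtain ⟨R, hR⟩ := (IsPGroup.of_card (p := 2) (n := 1) (by rw [Nat.card_zpowers, hb, pow_one]) :
            IsPGroup 2 (zpowers b)).exists_le_sylow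
          obtain ⟨g, hg⟩ := MulAction.exists_smul_eq K R P
          refine ⟨g, mem_subgroupOf.1 (show g * b * g⁻¹ ∈ VK from ?_)⟩
          rw [← hP, ← hg, Sylow.coe_subgroup_smul]
          exact Subgroup.mem_pointwise_smul_iff_inv_smul_mem.2 (by
            simp only [MulAut.smul_def, ← map_inv, MulAut.conj_apply, inv_inv]
            rw [show g⁻¹ * (g * b * g⁻¹) * g = b by group]
            exact hR (mem_zpowers b))
        obtain ⟨g, hg⟩ := hinto a ha2
        set v : G := ((g * a * g⁻¹ : K) : G) with hv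
        have hvN : (g * a * g⁻¹ : K) ∈ N := hN.conj_mem a haN g
        have hv1 : v ≠ 1 := fun e => by
          have e' : g * a * g⁻¹ = 1 := Subtype.ext e
          rw [conj_eq_one_iff] at e'
          rw [e', orderOf_one] at ha2
          omega
        have hallV : ∀ w ∈ V, ∀ hw : w ∈ K, (⟨w, hw⟩ : K) ∈ N := by
          set v' : G := (k : G) * v * (k : G)⁻¹ with hv'
          have hv'V := hknorm v hg
          have hv'N : (⟨v', hVK hv'V⟩ : K) ∈ N := by
            have := hN.conj_mem _ hvN k
            exact (show k * (g * a * g⁻¹) * k⁻¹ = (⟨v', hVK hv'V⟩ : K) from Subtype.ext rfl) ▸ this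
          have hv'1 : v' ≠ 1 := fun e => hv1 (conj_eq_one_iff.1 e)
          have hne : v' ≠ v := hmove v hg hv1
          have hprod := mul_mem hvN hv'N
          intro w hw hwK
          have hfour := four_elems h4 hg hv1 hv'V hv'1 hne w hw
          rcases hfour with e | e | e | e
          · rw [show (⟨w, hwK⟩ : K) = 1 from Subtype.ext e]; exact one_mem N
          · rw [show (⟨w, hwK⟩ : K) = g * a * g⁻¹ from Subtype.ext e]; exact hvN
          · rw [show (⟨w, hwK⟩ : K) = ⟨v', hVK hv'V⟩ from Subtype.ext e]; exact hv'N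
          · rw [show (⟨w, hwK⟩ : K) = (g * a * g⁻¹) * ⟨v', hVK hv'V⟩ from Subtype.ext e]; exact hprod
        have hall : ∀ b : K, orderOf b = 2 → b ∈ N := fun b hb => by
          obtain ⟨g', hg'⟩ := hinto b hb
          have := hN.conj_mem _ (hallV _ hg' (g' * b * g'⁻¹).2) g'⁻¹
          rw [show b = g'⁻¹ * (g' * b * g'⁻¹) * g'⁻¹⁻¹ by group]
          exact this
        have hle : K ≤ N.map K.subtype := by
          conv_lhs => rw [hK]
          rw [closure_le]
          intro x hx
          exact ⟨⟨x, subset_closure hx⟩, hall _ (by rw [Subgroup.orderOf_mk]; exact hx.2), rfl⟩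
        refine eq_top_iff.2 fun x _ => ?_
        obtain ⟨y, hy, hye⟩ := hle x.2
        rwa [← Subtype.ext hye]
      · left
        have hb : N.map K.subtype = ⊥ := by
          refine h4.oddfree _ ((map_subtype_le N).trans hKH) ?_ ?_ ?_
          · rw [card_map_of_injective K.subtype_injective]
            exact Nat.odd_iff.2 (Nat.two_dvd_ne_zero.1 hev)
          all_goals rintro _ ⟨x, hx, rfl⟩
          · exact ⟨⟨z, hVK hzV⟩ * x * ⟨z, hVK hzV⟩⁻¹, hN.conj_mem x hx _, rfl⟩
          · exact ⟨⟨u, hVK huV⟩ * x * ⟨u, hVK huV⟩⁻¹, hN.conj_mem x hx _, rfl⟩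
        exact (map_eq_bot_iff_of_injective N K.subtype_injective).1 hb
    have hcz : centralizer ({(⟨z, hVK hzV⟩ : K)} : Set K) = VK := by
      ext x
      rw [mem_centralizer_singleton_iff, hVKdef, mem_subgroupOf]
      constructor
      · exact fun e => h4.self z hzV (z_ne h) x (hKH x.2) (congrArg Subtype.val e).symm
      · exact fun e => Subtype.ext (h4.comm x e z hzV)
    have hexp : Monoid.exponent VK = 2 := by
      refine (Nat.prime_two.eq_one_or_self_of_dvd _ (Monoid.exponent_dvd_of_forall_pow_eq_one fun x => ?_)).resolve_left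
        fun e => ?_
      · have hxV : ((x : K) : G) ∈ V := mem_subgroupOf.1 x.2
        have hgoal : ((x : K) : G) * ((x : K) : G) = 1 := by
          by_cases hx1 : ((x : K) : G) = 1
          · rw [hx1, mul_one]
          · rw [← pow_two, ← ord_two h4 hxV hx1, pow_orderOf_eq_one]
        refine Subtype.ext (Subtype.ext ?_)
        simpa [pow_two] using hgoal
      · have : Subsingleton VK := Monoid.exp_eq_one_iff.1 e
        have := Finite.card_le_one_iff_subsingleton.2 this
        omega
    have hzo : orderOf (⟨z, hVK hzV⟩ : K) = 2 := by rw [Subgroup.orderOf_mk]; exact h.hz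
    obtain ⟨e5⟩ := Cfsg.Lib.KleinCent.simple_case (⟨z, hVK hzV⟩ : K) hzo VK hcz.ge ⟨hVKcard, hexp⟩
      (by rw [hcz, relIndex_self]; norm_num) (by rw [hcz, subgroupOf_self]; infer_instance)
    let Φ : G →* MulAut (alternatingGroup (Fin 5)) := (MulAut.congr e5).toMonoidHom.comp MulAut.conjNormal
    have hΦ : Function.Injective Φ := by
      refine (injective_iff_map_eq_one _).2 fun g hg => ?_
      have hg' : (MulAut.conjNormal g : MulAut K) = 1 :=
        (MulAut.congr e5).injective (hg.trans (map_one _).symm)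
      have hc : ∀ x ∈ K, g * x = x * g := fun x hx => by
        have := congrArg Subtype.val (DFunLike.congr_fun hg' ⟨x, hx⟩)
        rw [MulAut.conjNormal_apply, MulAut.one_apply] at this
        exact mul_inv_eq_iff_eq_mul.1 this
      have hgV : g ∈ V := h4.centV (mem_centralizer_iff.2 fun v hv => (hc v (hVK hv)).symm)
      by_contra hg1
      exact hmove g hgV hg1 (mul_inv_eq_iff_eq_mul.2 (hc k k.2).symm)
    have hbij := Cfsg.Lib.SolvStruct.AltAut.conjNormal_bijective (n := 5) (by norm_num) (by norm_num)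
    let F : G →* Perm (Fin 5) := (MulEquiv.ofBijective _ hbij).symm.toMonoidHom.comp Φ
    have hFinj : Function.Injective F := (MulEquiv.ofBijective _ hbij).symm.injective.comp hΦ
    refine ⟨MulEquiv.ofBijective F (hFinj.bijective_of_nat_card_le ?_)⟩
    have hK60 : Nat.card K = 60 := by
      rw [Nat.card_congr e5.toEquiv, nat_card_alternatingGroup, Nat.card_fin]; rfl
    have h1 : Nat.card K ≤ Nat.card H := card_le_of_le hKH
    have h2 : Nat.card G = 2 * Nat.card H := by rw [← H.card_mul_index, hH, mul_comm]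
    rw [Nat.card_perm, Nat.card_fin, h2, show Nat.factorial 5 = 120 from rfl]
    omega


end FourGroup

theorem main (h : Data z r u) :
    centralizer ({z} : Set G) ⊔ Cfsg.oddCore G = ⊤ ∨ Nonempty (G ≃* Perm (Fin 4)) ∨ Nonempty (G ≃* Perm (Fin 5)) ∨
      Nonempty (G ≃* Matrix.SpecialLinearGroup (Fin 3) (ZMod 2)) ∨ Nonempty (G ≃* alternatingGroup (Fin 6)) := by
  by_cases hidx : ∀ H : Subgroup G, H.index ≠ 2
  · have hs : Cfsg.Lib.DihedralCent.Setup z r u := ⟨hidx, h.hz, h.hC, exists_sylow h, h.hrz, h.hu, h.huz, h.hur⟩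
    rcases Cfsg.Lib.DihedralCent.main hs with e | ⟨F, _, _, hF, ⟨e⟩⟩
    · exact Or.inr (Or.inr (Or.inr (Or.inr e)))
    · exact Or.inr (Or.inr (Or.inr (Or.inl (sl3_iso hF e))))
  push Not at hidx
  obtain ⟨H, hH⟩ := hidx
  by_cases hiso : ∀ g : G, g * z * g⁻¹ ∈ centralizer ({z} : Set G) → g * z * g⁻¹ = z
  · exact Or.inl (isolated_case h hiso)
  push Not at hiso
  obtain ⟨g, hgC, hgne⟩ := hiso
  have hzH : z ∈ H := h.hrz ▸ mul_self_mem_of_index_two hH r
  have hn := normal_of_index_eq_two hH
  have hwH : g * z * g⁻¹ ∈ H := hn.conj_mem z hzH g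
  have hw1 : g * z * g⁻¹ ≠ 1 := fun e => z_ne h (conj_eq_one_iff.1 e)
  have hww : g * z * g⁻¹ * (g * z * g⁻¹) = 1 := by
    calc g * z * g⁻¹ * (g * z * g⁻¹) = g * (z * z) * g⁻¹ := by group
      _ = 1 := by rw [zz h]; group
  have hcases : (u ∈ H ∧ IsConj z u) ∨ (u * r ∈ H ∧ IsConj z (u * r)) := by
    set w := g * z * g⁻¹ with hw
    have hconj : IsConj z w := isConj_iff.2 ⟨g, rfl⟩
    have hrr : r * r ≠ 1 := fun e => z_ne h (h.hrz ▸ e)
    rcases h.cases w hgC with e | e | e | e | e | e | e | e
    · exact absurd e hw1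
    · exact absurd (by rw [e] at hww; exact hww) hrr
    · exact absurd e hgne
    · refine absurd ?_ hrr
      rw [e, ← mul_inv_rev] at hww
      exact inv_eq_one.1 hww
    · exact Or.inl ⟨e ▸ hwH, e ▸ hconj⟩
    · exact Or.inr ⟨e ▸ hwH, e ▸ hconj⟩
    · refine Or.inl ⟨?_, ?_⟩
      · have := mul_mem (e ▸ hwH) (inv_mem hzH)
        simpa using this
      · exact (e ▸ hconj : IsConj z (u * z)).trans (isConj_iff.2 ⟨r, r_conj h⟩).symm
    · refine Or.inr ⟨?_, ?_⟩
      · have := mul_mem (e ▸ hwH) hzH
        rw [← h.hrz] at this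
        simpa [mul_assoc] using this
      · refine (e ▸ hconj : IsConj z (u * r⁻¹)).trans (isConj_iff.2 ⟨r, ?_⟩)
        calc r * (u * r⁻¹) * r⁻¹ = (r * u * r⁻¹) * r⁻¹ := by group
          _ = u * r := by rw [r_conj h, ← h.hrz]; group
  rcases hcases with ⟨hu, hc⟩ | ⟨hu, hc⟩
  · rcases four_case h hn hH hzH hu hc with e | e
    · exact Or.inr (Or.inl e)
    · exact Or.inr (Or.inr (Or.inl e))
  · rcases four_case (data_ur h) hn hH hzH hu hc with e | e
    · exact Or.inr (Or.inl e)
    · exact Or.inr (Or.inr (Or.inl e))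

end Cfsg.Lib.DihedralEight
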