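import Cfsg.Agent.LocalThree.GramSplit
import Cfsg.Agent.Chars.Sums
import Cfsg.Agent.Chars.Count
import Cfsg.Agent.Chars.Construct
import Cfsg.Agent.Chars.Induced

/-!
Exceptional characters for a self-centralising subgroup of order nine that meets its conjugates
trivially, in the coordinates of a two-dimensional space over the field of three elements.
-/

set_option autoImplicit false
set_option linter.unusedSectionVars false
set_option maxRecDepth 8000

namespace Cfsg.Lib.NineTI

open Subgroup Cfsg.Lib.Chars Cfsg.Lib.GramSplit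
open scoped ComplexConjugate

abbrev V := ZMod 3 × ZMod 3

def dot (w v : V) : ZMod 3 := w.1 * v.1 + w.2 * v.2

/-- A primitive cube root of unity. -/
noncomputable def om : ℂ := (-1 + ((Real.sqrt 3 : ℝ) : ℂ) * Complex.I) / 2

theorem om_sq : om * om + om + 1 = 0 := by
  have h3 : ((Real.sqrt 3 : ℝ) : ℂ) * ((Real.sqrt 3 : ℝ) : ℂ) = 3 := by
    rw [← Complex.ofReal_mul, Real.mul_self_sqrt (by norm_num)]; norm_num
  rw [om]
  linear_combination ((Real.sqrt 3 : ℝ) : ℂ) * ((Real.sqrt 3 : ℝ) : ℂ) / 4 * Complex.I_mul_I - (1 / 4 : ℂ) * h3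

theorem om_cube : om ^ 3 = 1 := by linear_combination (om - 1) * om_sq

theorem conj_om : conj om = om ^ 2 := by
  have e : conj om = (-1 - ((Real.sqrt 3 : ℝ) : ℂ) * Complex.I) / 2 := by
    rw [om]; simp [Complex.conj_I, Complex.conj_ofReal, map_add, map_div₀, Complex.conj_ofNat]; ring
  have h := om_sq
  rw [e]
  rw [om] at h ⊢
  linear_combination -h

noncomputable def ompow (e : ZMod 3) : ℂ := om ^ e.val

theorem ompow_add (a b : ZMod 3) : ompow (a + b) = ompow a * ompow b := by
  rw [ompow, ompow, ompow, ← pow_add, ZMod.val_add, ← pow_eq_pow_mod _ om_cube]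

theorem ompow_zero : ompow 0 = 1 := by simp [ompow]

theorem ompow_pair (e : ZMod 3) : ompow e + ompow (-e) = if e = 0 then 2 else -1 := by
  rcases (show ∀ e : ZMod 3, e = 0 ∨ e = 1 ∨ e = 2 by decide) e with rfl | rfl | rfl
  · simp [ompow_zero]; norm_num
  · rw [if_neg (by decide), show (-(1 : ZMod 3)) = 2 from rfl]
    simp only [ompow, show (1 : ZMod 3).val = 1 from rfl, show (2 : ZMod 3).val = 2 from rfl]
    linear_combination om_sq
  · rw [if_neg (by decide), show (-(2 : ZMod 3)) = 1 from rfl]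
    simp only [ompow, show (1 : ZMod 3).val = 1 from rfl, show (2 : ZMod 3).val = 2 from rfl]
    linear_combination om_sq

theorem conj_ompow (e : ZMod 3) : conj (ompow e) = ompow (-e) := by
  rcases (show ∀ e : ZMod 3, e = 0 ∨ e = 1 ∨ e = 2 by decide) e with rfl | rfl | rfl
  · simp [ompow_zero]
  · rw [ompow, map_pow, conj_om, show (-(1 : ZMod 3)) = 2 from rfl, ompow,
      show (1 : ZMod 3).val = 1 from rfl, show (2 : ZMod 3).val = 2 from rfl, pow_one]
  · rw [ompow, map_pow, conj_om, show (-(2 : ZMod 3)) = 1 from rfl, ompow,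
      show (1 : ZMod 3).val = 1 from rfl, show (2 : ZMod 3).val = 2 from rfl, ← pow_mul]
    linear_combination om * om_cube

/-- Sums against an even function. -/
theorem even_sum (F : V → ℂ) (hF : ∀ v, F (-v) = F v) (w : V) :
    2 * ∑ v, F v * (1 - ompow (dot w v)) = ∑ v, F v * (if dot w v = 0 then 0 else 3) := by
  have h2 : ∑ v, F v * (1 - ompow (dot w v)) = ∑ v, F v * (1 - ompow (-dot w v)) := by
    refine Fintype.sum_equiv (Equiv.neg V) _ _ fun v => ?_
    show _ = F (-v) * _
    rw [hF, show (Equiv.neg V) v = -v from rfl, show -dot w (-v) = dot w v by simp [dot]; ring]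
  rw [two_mul]
  nth_rw 2 [h2]
  rw [← Finset.sum_add_distrib]
  refine Finset.sum_congr rfl fun v _ => ?_
  rw [← mul_add, show (1 : ℂ) - ompow (dot w v) + (1 - ompow (-dot w v)) = 2 - (ompow (dot w v) + ompow (-dot w v)) by ring,
    ompow_pair]
  split_ifs <;> norm_num

universe u

variable {G : Type u} [Group G] [Finite G] {m : ℕ}

/-- The data. -/
structure Setup (S : Subgroup G) (M : Fin m → V → V) where
  el : V → G
  mem : ∀ v, el v ∈ S
  add : ∀ v w, el (v + w) = el v * el w
  inj : Function.Injective el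
  surj : ∀ s ∈ S, ∃ v, el v = s
  r : Fin m → G
  act : ∀ k v, (r k)⁻¹ * el v * r k = el (M k v)
  cover : ∀ g : G, g ∈ normalizer (S : Set G) ↔ ∃ k, (r k)⁻¹ * g ∈ S
  uniq : ∀ k l, (r k)⁻¹ * r l ∈ S → k = l
  cent : ∀ s ∈ S, s ≠ 1 → centralizer ({s} : Set G) = S
  three_mem : ∀ x ∈ normalizer (S : Set G), x * (x * x) = 1 → x ∈ S

/-- The value of the induced function. -/
def fval (M : Fin m → V → V) (w v : V) : ℤ :=
  (m : ℤ) - ((Finset.univ.filter fun k => dot w (M k v) = 0).card : ℤ) + ((Finset.univ.filter fun k => dot w (M k v) = 1).card : ℤ)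

/-- The scalar products, twice nine times. -/
def gramT (M : Fin m → V → V) (w w' : V) : ℤ := ∑ v, fval M w v * (if dot w' v = 0 then 0 else 3)

namespace Setup

variable {S : Subgroup G} {M : Fin m → V → V} (P : Setup S M)

include P

theorem el_zero : P.el 0 = 1 := by
  have := P.add 0 0
  rw [add_zero] at this
  exact right_eq_mul.1 this

theorem el_ne {v : V} (hv : v ≠ 0) : P.el v ≠ 1 := fun e => hv (P.inj (e.trans P.el_zero.symm))

theorem cardS : Nat.card S = 9 := by
  rw [← Nat.card_congr (Equiv.ofBijective (fun v => (⟨P.el v, P.mem v⟩ : S))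
    ⟨fun a b h => P.inj (congrArg Subtype.val h), fun s => by
      obtain ⟨v, hv⟩ := P.surj s s.2
      exact ⟨v, Subtype.ext hv⟩⟩)]
  simp

theorem comm {s t : G} (hs : s ∈ S) (ht : t ∈ S) : s * t = t * s := by
  obtain ⟨v, rfl⟩ := P.surj s hs
  obtain ⟨w, rfl⟩ := P.surj t ht
  rw [← P.add, ← P.add, add_comm]

theorem norm_of {g : G} {v : V} (hv : v ≠ 0) (hg : g⁻¹ * P.el v * g ∈ S) : g ∈ normalizer (S : Set G) := by
  have hne : g⁻¹ * P.el v * g ≠ 1 := fun e => P.el_ne hv (by simpa using (conj_eq_one_iff (a := g⁻¹)).1 (by simpa using e))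
  have hle : S.map (MulAut.conj g⁻¹).toMonoidHom ≤ S := by
    rintro _ ⟨s, hs, rfl⟩
    refine (SetLike.ext_iff.1 (P.cent _ hg hne) _).1 (mem_centralizer_singleton_iff.2 ?_)
    show g⁻¹ * s * g⁻¹⁻¹ * (g⁻¹ * P.el v * g) = g⁻¹ * P.el v * g * (g⁻¹ * s * g⁻¹⁻¹)
    calc _ = g⁻¹ * (s * P.el v) * g := by group
      _ = g⁻¹ * (P.el v * s) * g := by rw [P.comm hs (P.mem v)]
      _ = _ := by group
  have := inv_mem (Subgroup.mem_normalizer_iff_map_conj_eq.2 (Subgroup.eq_of_le_of_card_ge hle (by
    rw [Subgroup.card_map_of_injective (MulAut.conj g⁻¹).injective])))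
  simpa using this

/-- The function to induce. -/
noncomputable def fn (w : V) : S → ℂ := fun s => 1 - ompow (dot w (P.surj s s.2).choose)

theorem fn_el (w v : V) : P.fn w ⟨P.el v, P.mem v⟩ = 1 - ompow (dot w v) := by
  show 1 - ompow (dot w _) = _
  rw [P.inj (P.surj (P.el v) (P.mem v)).choose_spec]

theorem gen_fn (w : V) : Cfsg.IsGeneralizedCharacter S (P.fn w) := by
  have homU : ∀ e : ZMod 3, ompow e * ompow (-e) = 1 := fun e => by rw [← ompow_add, add_neg_cancel, ompow_zero]
  let f : S →* ℂˣ :=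
    { toFun := fun s => ⟨ompow (dot w (P.surj s s.2).choose), ompow (-dot w (P.surj s s.2).choose), homU _,
        by rw [mul_comm]; exact homU _⟩
      map_one' := Units.ext (by
        show ompow (dot w (P.surj (1 : G) S.one_mem).choose) = 1
        rw [show (P.surj (1 : G) S.one_mem).choose = 0 from P.inj ((P.surj (1 : G) S.one_mem).choose_spec.trans P.el_zero.symm)]
        simp [dot, ompow_zero])
      map_mul' := fun s t => Units.ext (by
        show ompow (dot w (P.surj ((s : G) * t) (S.mul_mem s.2 t.2)).choose) = _ * _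
        rw [show (P.surj ((s : G) * t) (S.mul_mem s.2 t.2)).choose = (P.surj s s.2).choose + (P.surj t t.2).choose from
          P.inj (by rw [P.add, (P.surj s s.2).choose_spec, (P.surj t t.2).choose_spec,
            (P.surj ((s : G) * t) (S.mul_mem s.2 t.2)).choose_spec])]
        rw [← ompow_add]; congr 1; simp [dot]; ring) }
  exact IsGeneralizedCharacter.sub (IsCharacter.isGeneralized isCharacter_one) (IsCharacter.isGeneralized (isCharacter_linear f))

theorem sum_S [Fintype S] (F : S → ℂ) : ∑ s, F s = ∑ v : V, F ⟨P.el v, P.mem v⟩ :=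
  (Fintype.sum_bijective (fun v : V => (⟨P.el v, P.mem v⟩ : S))
    ⟨fun a b h => P.inj (congrArg Subtype.val h), fun s => by
      obtain ⟨v, hv⟩ := P.surj s s.2
      exact ⟨v, Subtype.ext hv⟩⟩ _ _ fun _ => rfl).symm

theorem sum_ompow (w v : V)
    (hsym : (Finset.univ.filter fun k => dot w (M k v) = 1).card = (Finset.univ.filter fun k => dot w (M k v) = 2).card) :
    ∑ k, (1 - ompow (dot w (M k v))) = (fval M w v : ℂ) := by
  rw [Finset.sum_sub_distrib, ← Finset.sum_fiberwise Finset.univ (fun k => dot w (M k v)) (fun k => ompow _)]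
  rw [Finset.sum_congr rfl (g := fun e => ((Finset.univ.filter fun k => dot w (M k v) = e).card : ℂ) * ompow e)
    fun e _ => by rw [Finset.sum_congr rfl (g := fun _ => ompow e) fun k hk => by rw [(Finset.mem_filter.1 hk).2],
      Finset.sum_const, nsmul_eq_mul]]
  rw [show (Finset.univ : Finset (ZMod 3)) = {0, 1, 2} by decide, Finset.sum_insert (by decide),
    Finset.sum_insert (by decide), Finset.sum_singleton, ← hsym]
  simp only [fval, ompow, show (0 : ZMod 3).val = 0 from rfl, show (1 : ZMod 3).val = 1 from rfl,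
    show (2 : ZMod 3).val = 2 from rfl, Finset.sum_const, Finset.card_univ, Fintype.card_fin, nsmul_eq_mul, mul_one]
  push_cast
  linear_combination -((Finset.univ.filter fun k => dot w (M k v) = 1).card : ℂ) * om_sq

theorem ind_apply [Fintype G] (w : V) {v : V} (hv : v ≠ 0) :
    Cfsg.indFun S (P.fn w) (P.el v) = ∑ k, (1 - ompow (dot w (M k v))) := by
  classical
  have := Fintype.ofFinite S
  rw [indFun_apply, P.cardS]
  let J : Fin m × S → G := fun p => P.r p.1 * p.2
  have hJ : Function.Injective J := by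
    rintro ⟨k, s⟩ ⟨l, t⟩ h
    have : (P.r k)⁻¹ * P.r l = (s : G) * (t : G)⁻¹ := by
      have h' : P.r k * (s : G) = P.r l * (t : G) := h
      rw [inv_mul_eq_iff_eq_mul, ← mul_assoc, h']; group
    obtain rfl := P.uniq k l (this ▸ S.mul_mem s.2 (S.inv_mem t.2))
    exact Prod.ext rfl (Subtype.ext (mul_left_cancel (show P.r k * (s : G) = P.r k * t from h)))
  rw [← Finset.sum_subset (Finset.subset_univ (Finset.univ.image J)) fun g _ hg => ?_]
  · rw [Finset.sum_image fun a _ b _ h => hJ h, Fintype.sum_prod_type,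
      Finset.sum_congr rfl (g := fun k => (9 : ℂ) * (1 - ompow (dot w (M k v)))) fun k _ => ?_, ← Finset.mul_sum]
    · rw [Nat.cast_ofNat, inv_mul_cancel_left₀ (by norm_num)]
    rw [Finset.sum_congr rfl (g := fun _ => (1 - ompow (dot w (M k v)))) fun s _ => ?_, Finset.sum_const,
      Finset.card_univ, ← Nat.card_eq_fintype_card, P.cardS, nsmul_eq_mul, Nat.cast_ofNat]
    have e : (P.r k * (s : G))⁻¹ * P.el v * (P.r k * (s : G)) = P.el (M k v) := by
      rw [mul_inv_rev, show (s : G)⁻¹ * (P.r k)⁻¹ * P.el v * (P.r k * (s : G)) = (s : G)⁻¹ * ((P.r k)⁻¹ * P.el v * P.r k) * s by group,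
        P.act, mul_assoc, P.comm (P.mem _) s.2, inv_mul_cancel_left]
    show Cfsg.extendByZero S (P.fn w) ((P.r k * (s : G))⁻¹ * P.el v * (P.r k * (s : G))) = _
    rw [e, extendByZero_mem _ (P.mem _), P.fn_el]
  · by_cases hm : g⁻¹ * P.el v * g ∈ S
    · exfalso
      obtain ⟨k, hk⟩ := (P.cover g).1 (P.norm_of hv hm)
      exact hg (Finset.mem_image.2 ⟨(k, ⟨_, hk⟩), Finset.mem_univ _, mul_inv_cancel_left _ _⟩)
    · exact extendByZero_not_mem _ hm

theorem ind_one [Fintype G] (w : V) : Cfsg.indFun S (P.fn w) 1 = 0 := by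
  rw [indFun_one, show (1 : S) = ⟨P.el 0, P.mem 0⟩ from Subtype.ext P.el_zero.symm, P.fn_el]
  simp [dot, ompow_zero]

/-- The multiplicities of the induced functions. -/
theorem exists_mults [Fintype G] {q : ℕ} (W : Fin q → V) (hW : ∀ i, W i ≠ 0)
    (hsym : ∀ i v, (Finset.univ.filter fun k => dot (W i) (M k v) = 1).card =
      (Finset.univ.filter fun k => dot (W i) (M k v) = 2).card)
    (heven : ∀ i v, fval M (W i) (-v) = fval M (W i) v) (hzero : ∀ i, fval M (W i) 0 = 0)
    {k₀ : Fin m} (hk₀ : ∀ v, M k₀ v = -v) :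
    ∃ n : Fin q → Cfsg.IrrCharacter G → ℤ,
      (∀ i j, ∑ χ, 18 * (n i χ * n j χ) = gramT M (W i) (W j)) ∧
      (∀ i, n i ⟨_, isIrrCharacter_one⟩ = 1) ∧
      (∀ i, ∑ χ, n i χ * (deg (χ : G → ℂ) : ℤ) = 0) ∧
      ∀ i χ, (18 : ℂ) * (n i χ : ℂ) = ∑ v, (χ : G → ℂ) (P.el v) * (if dot (W i) v = 0 then 0 else 3) := by
  classical
  have := Fintype.ofFinite S
  have hgen : ∀ i, Cfsg.IsGeneralizedCharacter G (Cfsg.indFun S (P.fn (W i))) :=
    fun i => IsGeneralizedCharacter.indFun (P.gen_fn _)
  choose n hn using fun (i : Fin q) (χ : Cfsg.IrrCharacter G) => IsGeneralizedCharacter.exists_mult (hgen i) χ.2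
  have hval : ∀ i v, Cfsg.indFun S (P.fn (W i)) (P.el v) = (fval M (W i) v : ℂ) := by
    intro i v
    by_cases hv : v = 0
    · subst hv; rw [P.el_zero, P.ind_one, hzero]; simp
    · rw [P.ind_apply (W i) hv, P.sum_ompow _ _ (hsym i v)]
  have hreal : ∀ (χ : Cfsg.IrrCharacter G) v, (χ : G → ℂ) (P.el (-v)) = (χ : G → ℂ) (P.el v) := by
    intro χ v
    rw [← hk₀, ← P.act]
    have := isClassFunction_irr χ (P.el v) (P.r k₀)⁻¹
    rwa [inv_inv] at this
  have hconj : ∀ (χ : Cfsg.IrrCharacter G) v, conj ((χ : G → ℂ) (P.el v)) = (χ : G → ℂ) (P.el v) := by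
    intro χ v
    rw [← IsCharacter.conj_inv (isCharacter_of_irr χ.2), ← show P.el (-v) = (P.el v)⁻¹ from eq_inv_of_mul_eq_one_left (by
      rw [← P.add, neg_add_cancel, P.el_zero]), hreal]
  have hmult : ∀ i χ, (18 : ℂ) * (n i χ : ℂ) =
      ∑ v, (χ : G → ℂ) (P.el v) * (if dot (W i) v = 0 then 0 else 3) := by
    intro i χ
    rw [← hn, frobenius_reciprocity _ _ (isClassFunction_irr χ), classInner_def, P.cardS, P.sum_S,
      ← even_sum (fun v => (χ : G → ℂ) (P.el v)) (fun v => hreal χ v) (W i)]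
    rw [Finset.sum_congr rfl (g := fun v => (χ : G → ℂ) (P.el v) * (1 - ompow (dot (W i) v))) fun v _ => by
      rw [hconj, P.fn_el, mul_comm]]
    push_cast; ring
  refine ⟨n, fun i j => ?_, fun i => ?_, fun i => ?_, hmult⟩
  · apply Int.cast_injective (α := ℂ)
    have hj := classFunction_expand (isClassFunction_indFun S (P.fn (W i)))
    have e1 : Cfsg.classInner (Cfsg.indFun S (P.fn (W j))) (Cfsg.indFun S (P.fn (W i))) =
        ((∑ χ, n i χ * n j χ : ℤ) : ℂ) := by
      conv_lhs => rw [hj]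
      rw [classInner_sum_right]
      push_cast
      refine Finset.sum_congr rfl fun χ _ => ?_
      rw [classInner_smul_right, hn, hn]
      simp
    rw [← Finset.mul_sum, Int.cast_mul, ← e1, frobenius_reciprocity _ _ (isClassFunction_indFun _ _), classInner_def, P.cardS,
      P.sum_S, Finset.sum_congr rfl (g := fun v => (fval M (W i) v : ℂ) * (1 - ompow (dot (W j) v))) fun v _ => by
        rw [P.fn_el, hval, map_intCast, mul_comm]]
    have := even_sum (fun v => (fval M (W i) v : ℂ)) (fun v => by rw [heven]) (W j)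
    simp only [gramT]
    push_cast
    rw [← this]; ring
  · apply Int.cast_injective (α := ℂ)
    have h := hmult i ⟨_, isIrrCharacter_one⟩
    simp only [one_mul] at h
    have e : (∑ v : V, if dot (W i) v = 0 then (0 : ℂ) else 3) = 18 := by
      rw [Finset.sum_ite, Finset.sum_const_zero, zero_add, Finset.sum_const, nsmul_eq_mul,
        (show ∀ w : V, w ≠ 0 → (Finset.univ.filter fun v => ¬ dot w v = 0).card = 6 by decide) _ (hW i)]
      norm_num
    rw [e] at h
    push_cast
    exact mul_left_cancel₀ (show (18 : ℂ) ≠ 0 by norm_num) (by rw [h, mul_one])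
  · apply Int.cast_injective (α := ℂ)
    push_cast
    have := classFunction_expand_apply (isClassFunction_indFun S (P.fn (W i))) 1
    rw [P.ind_one] at this
    rw [this]
    exact Finset.sum_congr rfl fun χ _ => by rw [hn, irr_apply_one_eq_deg]

theorem dvd_irr [Fintype G] (χ : Cfsg.IrrCharacter G) :
    ∃ z : ℤ, (9 : ℂ) * z = ∑ v, (χ : G → ℂ) (P.el v) := by
  classical
  have := Fintype.ofFinite S
  obtain ⟨z, hz⟩ := IsGeneralizedCharacter.exists_mult
    (IsCharacter.isGeneralized (IsCharacter.restrict (isCharacter_of_irr χ.2) S)) isIrrCharacter_one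
  refine ⟨z, ?_⟩
  rw [← hz, classInner_def, P.cardS, P.sum_S]
  simp

/-- The number of cosets. -/
theorem index_mod : (normalizer (S : Set G)).index % 9 = 1 := by
  classical
  have := Fintype.ofFinite (G ⧸ normalizer (S : Set G))
  let X := {q : G ⧸ normalizer (S : Set G) // q ≠ (1 : G)}
  letI : MulAction S X :=
    { smul := fun j q => ⟨(j : G) • q.1, fun e => q.2 (by
        have e2 := congrArg (fun z => (j : G)⁻¹ • z) e
        simp only [inv_smul_smul] at e2
        rw [e2]
        exact (MulAction.Quotient.smul_mk _ (j : G)⁻¹ 1).trans (QuotientGroup.eq.2 (by simpa using Subgroup.le_normalizer j.2)))⟩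
      one_smul := fun q => Subtype.ext (one_smul G q.1)
      mul_smul := fun i j q => Subtype.ext (mul_smul (i : G) (j : G) q.1) }
  have hfree : ∀ q : X, MulAction.stabilizer S q = ⊥ := by
    rintro ⟨q, hq⟩
    obtain ⟨g, rfl⟩ := QuotientGroup.mk_surjective q
    refine eq_bot_iff.2 fun j hj => Subgroup.mem_bot.2 ?_
    by_contra hne
    have hgj : g⁻¹ * (j : G) * g ∈ normalizer (S : Set G) := by
      have e : (((j : G) * g : G) : G ⧸ normalizer (S : Set G)) = (g : G ⧸ normalizer (S : Set G)) :=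
        congrArg Subtype.val (MulAction.mem_stabilizer_iff.1 hj)
      have := QuotientGroup.eq.1 e.symm
      simpa [mul_assoc] using this
    obtain ⟨v, hv⟩ := P.surj j j.2
    have hv0 : v ≠ 0 := fun e => hne (Subtype.ext (by rw [← hv, e, P.el_zero]; rfl))
    obtain ⟨k, hk⟩ := (P.cover _).1 hgj
    have hS : g⁻¹ * (j : G) * g ∈ S := P.three_mem _ hgj (by
      rw [← hv, show g⁻¹ * P.el v * g * (g⁻¹ * P.el v * g * (g⁻¹ * P.el v * g)) = g⁻¹ * (P.el v * (P.el v * P.el v)) * g by group,
        ← P.add, ← P.add, show v + (v + v) = 0 from (show ∀ v : V, v + (v + v) = 0 by decide) v, P.el_zero]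
      group)
    refine hq (QuotientGroup.eq.2 ?_)
    rw [← hv] at hS
    simpa using P.norm_of hv0 hS
  have hcard : Nat.card X = Nat.card (MulAction.orbitRel.Quotient S X) * 9 := by
    rw [Nat.card_congr (MulAction.selfEquivSigmaOrbitsQuotientStabilizer S X), Nat.card_sigma, ← P.cardS]
    rw [Finset.sum_congr rfl (g := fun _ => Nat.card S) fun ω _ => by rw [hfree]; exact Nat.card_congr QuotientGroup.quotientBot.toEquiv]
    simp [Nat.card_eq_fintype_card]
  have hi : (normalizer (S : Set G)).index = Nat.card X + 1 := by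
    rw [Subgroup.index, Nat.card_eq_fintype_card, Nat.card_eq_fintype_card, Fintype.card_subtype_compl]
    have := Fintype.card_pos (α := G ⧸ normalizer (S : Set G))
    simp; omega
  omega

end Setup

end Cfsg.Lib.NineTI
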