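import Mathlib

/-!
Certified enumeration of the ways of writing a small integral Gram matrix as a sum of squares of
integral rows.
-/

set_option autoImplicit false
set_option linter.unusedSectionVars false

namespace Cfsg.Lib.GramSplit

abbrev Row := List ℤ

/-- The entry of a row. -/
def ent (r : Row) (a : ℕ) : ℤ := r.getD a 0

/-- The matrix, given by its rows. -/
abbrev Mat := List (List ℤ)

def get (R : Mat) (a b : ℕ) : ℤ := (R.getD a []).getD b 0

/-- Remove the square of a row. -/
def peel (m : ℕ) (R : Mat) (r : Row) : Mat :=
  (List.range m).map fun a => (List.range m).map fun b => get R a b - ent r a * ent r b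

theorem get_peel {m : ℕ} (R : Mat) (r : Row) {a b : ℕ} (ha : a < m) (hb : b < m) :
    get (peel m R r) a b = get R a b - ent r a * ent r b := by
  simp [get, peel, List.getD_eq_getElem?_getD, ha, hb]

/-- The values tried. -/
def trial : List ℤ := [0, 1, -1, 2, -2]

/-- A further entry is compatible with the inequality of Cauchy and Schwarz. -/
def fits (R : Mat) (i k : ℕ) (p : Row) (v : ℤ) : Bool :=
  decide (v * v ≤ get R k k) && (decide (k ≠ i) || decide (0 < v)) &&
    (List.range k).all fun a => decide ((get R a k - ent p a * v) * (get R a k - ent p a * v) ≤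
      (get R a a - ent p a * ent p a) * (get R k k - v * v))

/-- The value of a test vector at a row. -/
def dot (w r : List ℤ) : ℤ := ((List.range r.length).map fun a => ent w a * ent r a).sum

/-- A row passes the tests of its length. -/
def passes (ts : List (List ℤ × ℤ)) (r : Row) : Bool :=
  ts.all fun t => decide (t.1.length ≠ r.length) || decide (dot t.1 r * dot t.1 r ≤ t.2)

/-- The possible beginnings of a row with positive entry at `i`. -/
def cands (R : Mat) (i : ℕ) (ts : List (List ℤ × ℤ)) : ℕ → List Row
  | 0 => [[]]
  | k + 1 => (cands R i ts k).flatMap fun p =>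
      ((trial.filter (fits R i k p)).map fun v => p ++ [v]).filter (passes ts)

/-- The search trees: a finished branch, a branch with a witness against positivity, a position settled before, a branch without
a possible row, and the alternative whether a row occurs. -/
inductive Cert where
  | done
  | bad (w : List ℤ)
  | known (j : ℕ)
  | last (i : ℕ) (ts : List (List ℤ × ℤ))
  | branch (r : Row) (yes no : Cert)

/-- The sign normal form of a row. -/
def nrm : Row → Row
  | [] => []
  | a :: l => if a = 0 then a :: nrm l else if 0 < a then a :: l else (-a) :: l.map Neg.neg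

def qform (m : ℕ) (R : Mat) (w : List ℤ) : ℤ :=
  ((List.range m).map fun a => if ent w a = 0 then 0 else
    ((List.range m).map fun b => ent w a * ent w b * get R a b).sum).sum

/-- A position of the search: the matrix, the rows found and the rows excluded. -/
abbrev Pos := Mat × List Row × List Row

/-- The verifier, given some positions settled before. -/
def check (m : ℕ) (sols : List (List Row)) (kn : List Pos) : Cert → Mat → List Row → List Row → Bool
  | .done, R, acc, _ => (List.range m).all (fun a => decide (get R a a = 0)) &&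
      sols.any fun l => decide (acc.Perm l)
  | .bad w, R, _, _ => decide (qform m R w < 0)
  | .known j, R, acc, ex => decide (kn[j]? = some (R, acc, ex))
  | .last i ts, R, _, ex => (ts.all fun t => decide (qform m R t.1 ≤ t.2)) && decide (i < m) && decide (0 < get R i i) &&
      (List.range m).all (fun k => decide (get R k k < 9)) &&
      (cands R i ts m).all fun r => ex.any fun e => decide (nrm r = e)
  | .branch r y no, R, acc, ex => decide (r.length = m) &&
      check m sols kn y (peel m R r) (acc ++ [nrm r]) ex && check m sols kn no R acc (nrm r :: ex)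

theorem nrm_neg : ∀ l : Row, nrm (l.map Neg.neg) = nrm l
  | [] => rfl
  | a :: l => by
    have hh : (List.map Neg.neg (List.map Neg.neg l) : Row) = l := by simp
    rcases lt_trichotomy a 0 with h | h | h
    · simp [nrm, h.ne, not_lt_of_gt h]
      intro; omega
    · simp [nrm, h, nrm_neg l]
    · simp [nrm, h, h.ne', hh]
      intro; omega

theorem nrm_sign : ∀ l : Row, nrm l = l ∨ nrm l = l.map Neg.neg
  | [] => Or.inl rfl
  | a :: l => by
    rcases lt_trichotomy a 0 with h | h | h
    · exact Or.inr (by simp [nrm, h.ne, not_lt_of_gt h])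
    · subst h
      rcases nrm_sign l with e | e
      · exact Or.inl (by simp [nrm, e])
      · exact Or.inr (by simp [nrm, e])
    · exact Or.inl (by simp [nrm, h, h.ne'])

variable {ι : Type*} [DecidableEq ι] {m : ℕ}

/-- The column of vectors at a member. -/
def col (m : ℕ) (n : ℕ → ι → ℤ) (x : ι) : Row := (List.range m).map fun a => n a x

theorem ent_col {n : ℕ → ι → ℤ} {x : ι} {a : ℕ} (ha : a < m) : ent (col m n x) a = n a x := by
  simp [ent, col, List.getD_eq_getElem?_getD, ha]

theorem qform_eq {R : Mat} {n : ℕ → ι → ℤ} {s : Finset ι}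
    (h : ∀ a < m, ∀ b < m, get R a b = ∑ x ∈ s, n a x * n b x) (w : List ℤ) :
    qform m R w = ∑ x ∈ s, (∑ a ∈ Finset.range m, ent w a * n a x) ^ 2 := by
  have e1 : ∀ f : ℕ → ℤ, ((List.range m).map f).sum = ∑ a ∈ Finset.range m, f a := fun f => by
    rw [← List.sum_toFinset _ List.nodup_range, List.toFinset_range]
  have e2 : ∀ a, (if ent w a = 0 then 0 else
      ((List.range m).map fun b => ent w a * ent w b * get R a b).sum) =
      ∑ b ∈ Finset.range m, ent w a * ent w b * get R a b := fun a => by
    split_ifs with h0
    · simp [h0]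
    · exact e1 _
  rw [qform, e1, Finset.sum_congr rfl fun a _ => e2 a]
  simp only [sq, Finset.sum_mul, Finset.mul_sum]
  rw [Finset.sum_comm]
  conv_rhs => rw [Finset.sum_comm]; enter [2, y]; rw [Finset.sum_comm]
  refine Finset.sum_congr rfl fun a ha => Finset.sum_congr rfl fun b hb => ?_
  rw [h _ (Finset.mem_range.1 hb) _ (Finset.mem_range.1 ha), Finset.mul_sum]
  exact Finset.sum_congr rfl fun x _ => by ring

theorem qform_nonneg {R : Mat} {n : ℕ → ι → ℤ} {s : Finset ι}
    (h : ∀ a < m, ∀ b < m, get R a b = ∑ x ∈ s, n a x * n b x) (w : List ℤ) : 0 ≤ qform m R w := by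
  rw [qform_eq h w]
  exact Finset.sum_nonneg fun x _ => sq_nonneg _

theorem mem_trial {v : ℤ} (h : v * v < 9) : v ∈ trial := by
  have h1 : v < 3 := by nlinarith
  have h2 : -3 < v := by nlinarith
  simp only [trial, List.mem_cons, List.not_mem_nil, or_false]
  omega

theorem prefix_mem {R : Mat} {n : ℕ → ι → ℤ} {s : Finset ι} {i : ℕ} {x : ι} {σ : ℤ} (hσ : σ * σ = 1)
    (h : ∀ a < m, ∀ b < m, get R a b = ∑ y ∈ s, n a y * n b y) (hx : x ∈ s) (hpos : 0 < σ * n i x)
    (hsmall : ∀ k < m, get R k k < 9) {ts : List (List ℤ × ℤ)} (hts : ∀ t ∈ ts, qform m R t.1 ≤ t.2) :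
    ∀ k ≤ m, ((List.range k).map fun a => σ * n a x) ∈ cands R i ts k := by
  intro k
  induction k with
  | zero => intro _; simp [cands]
  | succ k ih =>
    intro hk
    rw [List.range_succ, List.map_append, cands, List.mem_flatMap]
    refine ⟨_, ih (by omega), List.mem_filter.2 ⟨List.mem_map.2 ⟨σ * n k x, ?_, rfl⟩, ?_⟩⟩
    swap
    · rw [← List.map_append, ← List.range_succ]
      refine List.all_eq_true.2 fun t ht => ?_
      simp only [Bool.or_eq_true, decide_eq_true_eq, List.length_map, List.length_range]
      by_cases hl : t.1.length = k + 1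
      · refine Or.inr (le_trans ?_ (hts t ht))
        have e : dot t.1 ((List.range (k + 1)).map fun a => σ * n a x) =
            σ * ∑ a ∈ Finset.range m, ent t.1 a * n a x := by
          rw [dot, List.length_map, List.length_range, ← List.sum_toFinset _ List.nodup_range,
            List.toFinset_range, Finset.mul_sum, ← Finset.sum_subset (Finset.range_subset_range.2 hk) fun a _ ha => ?_]
          · refine Finset.sum_congr rfl fun a ha => ?_
            have ha' := Finset.mem_range.1 ha
            simp [ent, List.getD_eq_getElem?_getD, ha']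
            ring
          · simp only [Finset.mem_range, not_lt] at ha
            simp [ent, List.getD_eq_getElem?_getD, List.getElem?_eq_none (show t.1.length ≤ a by omega)]
        rw [e, qform_eq h t.1]
        refine le_trans (le_of_eq ?_) (Finset.single_le_sum (fun y _ => sq_nonneg _) hx)
        linear_combination (∑ a ∈ Finset.range m, ent t.1 a * n a x) ^ 2 * hσ
      · exact Or.inl hl
    have hsq : ∀ a b, σ * n a x * (σ * n b x) = n a x * n b x := fun a b => by
      linear_combination (n a x * n b x) * hσ
    have hsplit : ∀ a < m, ∀ b < m, get R a b - n a x * n b x = ∑ y ∈ s.erase x, n a y * n b y := by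
      intro a ha b hb
      rw [h a ha b hb, ← Finset.add_sum_erase _ _ hx]
      ring
    have hle : n k x * n k x ≤ get R k k := by
      have := hsplit k (by omega) k (by omega)
      have : 0 ≤ ∑ y ∈ s.erase x, n k y * n k y := Finset.sum_nonneg fun y _ => mul_self_nonneg _
      linarith
    refine List.mem_filter.2 ⟨mem_trial (by rw [hsq]; exact lt_of_le_of_lt hle (hsmall k (by omega))), ?_⟩
    simp only [fits, Bool.and_eq_true, Bool.or_eq_true, decide_eq_true_eq, List.all_eq_true, List.mem_range]
    refine ⟨⟨by rw [hsq]; exact hle, ?_⟩, fun a ha => ?_⟩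
    · by_cases hki : k = i
      · subst hki; exact Or.inr hpos
      · exact Or.inl hki
    · have e : ent ((List.range k).map fun a => σ * n a x) a = σ * n a x := by
        simp [ent, List.getD_eq_getElem?_getD, ha]
      rw [e, hsq, hsq, hsq, hsplit a (by omega) k (by omega), hsplit a (by omega) a (by omega),
        hsplit k (by omega) k (by omega)]
      have := Finset.sum_mul_sq_le_sq_mul_sq (s.erase x) (fun y => n a y) (fun y => n k y)
      simpa [sq] using this

/-- What the enumeration proves at a position. -/
def Holds (m : ℕ) (sols : List (List Row)) (n : ℕ → ι → ℤ) (p : Pos) : Prop :=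
  ∀ s : Finset ι, (∀ a < m, ∀ b < m, get p.1 a b = ∑ x ∈ s, n a x * n b x) →
    (∀ x ∈ s, nrm (col m n x) ∉ p.2.2) →
    ∃ L : List ι, L.Nodup ∧ (∀ x ∈ L, x ∈ s) ∧ (∀ x ∈ s, x ∉ L → ∀ a < m, n a x = 0) ∧
      ∃ l ∈ sols, (p.2.1 ++ L.map fun x => nrm (col m n x)).Perm l

/-- The enumeration is correct. -/
theorem sound (sols : List (List Row)) (n : ℕ → ι → ℤ) {kn : List Pos} (hkn : ∀ p ∈ kn, Holds m sols n p) :
    ∀ (c : Cert) (R : Mat) (acc ex : List Row), check m sols kn c R acc ex = true → Holds m sols n (R, acc, ex) := by
  intro c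
  induction c with
  | done =>
    intro R acc ex hc s h _
    simp only [check, Bool.and_eq_true, List.all_eq_true, List.mem_range, decide_eq_true_eq, List.any_eq_true] at hc
    obtain ⟨h0, l, hl, hp⟩ := hc
    refine ⟨[], List.nodup_nil, by simp, fun x hx _ a ha => ?_, l, hl, by simpa using hp⟩
    have := h a ha a ha
    rw [h0 a ha] at this
    exact mul_self_eq_zero.1 ((Finset.sum_eq_zero_iff_of_nonneg fun y _ => mul_self_nonneg _).1 this.symm x hx)
  | bad w =>
    intro R acc ex hc s h _
    simp only [check, decide_eq_true_eq] at hc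
    exact absurd (qform_nonneg h w) (not_le.2 hc)
  | known j =>
    intro R acc ex hc
    simp only [check, decide_eq_true_eq] at hc
    exact hkn _ (List.mem_of_getElem? hc)
  | last i ts =>
    intro R acc ex hc s h hex
    simp only [check, Bool.and_eq_true, decide_eq_true_eq, List.all_eq_true, List.mem_range, List.any_eq_true] at hc
    obtain ⟨⟨⟨⟨hts, hi⟩, hp⟩, hsmall⟩, hall⟩ := hc
    exfalso
    rw [h i hi i hi] at hp
    obtain ⟨x, hx, hne⟩ := Finset.exists_ne_zero_of_sum_ne_zero hp.ne'
    obtain ⟨σ, hσ, hpos, hr⟩ : ∃ σ : ℤ, σ * σ = 1 ∧ 0 < σ * n i x ∧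
        nrm ((List.range m).map fun a => σ * n a x) = nrm (col m n x) := by
      rcases lt_or_gt_of_ne (fun e : n i x = 0 => hne (by rw [e, mul_zero])) with g | g
      · refine ⟨-1, rfl, by linarith, ?_⟩
        rw [← nrm_neg]
        simp [col, Function.comp_def]
      · exact ⟨1, rfl, by linarith, by simp [col]⟩
    obtain ⟨e, he, hre⟩ := hall _ (prefix_mem hσ h hx hpos hsmall hts m le_rfl)
    exact hex x hx (hr ▸ hre.symm ▸ he)
  | branch r y no ihy ihn =>
    intro R acc ex hc s h hex
    simp only [check, Bool.and_eq_true, decide_eq_true_eq] at hc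
    obtain ⟨⟨hlen, hy⟩, hn⟩ := hc
    by_cases hq : ∃ x ∈ s, nrm (col m n x) = nrm r
    · obtain ⟨x, hx, hxr⟩ := hq
      have hsq : ∀ a < m, ∀ b < m, ent r a * ent r b = n a x * n b x := by
        intro a ha b hb
        have e1 : ∀ (l : Row), l.length = m → ∀ a < m, ∀ b < m, ent (nrm l) a * ent (nrm l) b = ent l a * ent l b := by
          intro l hl a ha b hb
          rcases nrm_sign l with e | e <;> rw [e]
          simp [ent, List.getD_eq_getElem?_getD, hl, ha, hb]
        have := e1 r hlen a ha b hb
        rw [← hxr, e1 (col m n x) (by simp [col]) a ha b hb, ent_col ha, ent_col hb] at this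
        exact this.symm
      obtain ⟨L, hnd, hLs, hrest, l, hl, hp⟩ := ihy _ _ _ hy (s.erase x) (fun a ha b hb => by
          rw [get_peel _ _ ha hb, h a ha b hb, hsq a ha b hb, ← Finset.add_sum_erase _ _ hx]; ring)
        (fun z hz => hex z (Finset.mem_of_mem_erase hz))
      refine ⟨x :: L, List.nodup_cons.2 ⟨fun hm => (Finset.mem_erase.1 (hLs x hm)).1 rfl, hnd⟩,
        fun z hz => ?_, fun z hz hzL => ?_, l, hl, ?_⟩
      · rcases List.mem_cons.1 hz with rfl | hz
        · exact hx
        · exact Finset.mem_of_mem_erase (hLs z hz)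
      · rw [List.mem_cons, not_or] at hzL
        exact hrest z (Finset.mem_erase.2 ⟨hzL.1, hz⟩) hzL.2
      · rw [List.map_cons, hxr]
        simpa [List.append_assoc] using hp
    · push Not at hq
      exact ihn _ _ _ hn s h (fun z hz hzm => by
        rcases List.mem_cons.1 hzm with e | e
        · exact hq z hz e
        · exact hex z hz e)

/-- From a permutation of images to a permutation with prescribed images. -/
theorem exists_perm_map {α β : Type*} (f : α → β) : ∀ {l : List β} {L : List α}, (L.map f).Perm l →
    ∃ L' : List α, L'.Perm L ∧ L'.map f = l := by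
  intro l
  induction l with
  | nil => intro L h; exact ⟨L, List.Perm.refl _, h.eq_nil⟩
  | cons b l ih =>
    intro L h
    obtain ⟨a, ha, hab⟩ := List.mem_map.1 (h.symm.subset (List.mem_cons_self))
    obtain ⟨L₁, L₂, rfl⟩ := List.append_of_mem ha
    have h' : ((L₁ ++ L₂).map f).Perm l := by
      have := ((List.perm_middle (a := a) (l₁ := L₁) (l₂ := L₂)).map f).symm.trans h
      rw [List.map_cons, hab] at this
      exact this.cons_inv
    obtain ⟨L', hp, he⟩ := ih h'
    exact ⟨a :: L', (hp.cons a).trans List.perm_middle.symm, by rw [List.map_cons, hab, he]⟩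

end Cfsg.Lib.GramSplit
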