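import Cfsg.Agent.LocalThree.NineSix

/-!
The action of the normaliser of a self-centralising Sylow subgroup of order nine in a simple group
with more than one class of elements of order three.
-/

set_option autoImplicit false
set_option linter.unusedSectionVars false

namespace Cfsg.Lib.NineTI

open Subgroup

universe u

variable {G : Type u} [Group G] [Finite G]

theorem normal_sylow_no_three (P : Sylow 3 G) {x : G} (hx : x ∈ normalizer ((P : Subgroup G) : Set G))
    (h3 : x * (x * x) = 1) : x ∈ (P : Subgroup G) := by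
  have : Fact (Nat.Prime 3) := ⟨Nat.prime_three⟩
  have hp : IsPGroup 3 (zpowers x) := by
    intro q
    refine ⟨1, Subtype.ext ?_⟩
    obtain ⟨i, hi⟩ := q.2
    show (q : G) ^ (3 ^ 1) = 1
    rw [← hi, pow_one, ← zpow_natCast, ← zpow_mul, mul_comm, zpow_mul, zpow_natCast,
      show x ^ 3 = 1 by rw [pow_succ', pow_two, h3], one_zpow]
  have hle : zpowers x ≤ normalizer ((P : Subgroup G) : Set G) := zpowers_le.2 hx
  have hsup : IsPGroup 3 ↥(zpowers x ⊔ (P : Subgroup G)) := hp.to_sup_of_normal_right' P.2 hle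
  exact P.3 hsup le_sup_right ▸ Subgroup.mem_sup_left (mem_zpowers x)

theorem order_three_sixty [IsSimpleGroup G] (P : Sylow 3 G) (S : Subgroup G) (hSP : S = P)
    (hcomm : IsMulCommutative S) (hexp : ∀ a ∈ S, a ^ 3 = 1) (hcard : Nat.card S = 9)
    (hclasses : ∃ a b : G, orderOf a = 3 ∧ orderOf b = 3 ∧ ∀ g : G, g * a * g⁻¹ ≠ b)
    (hcent : ∀ s ∈ S, s ≠ 1 → centralizer ({s} : Set G) = S) : Nat.card G = 360 := by
  classical
  have : Fact (Nat.Prime 3) := ⟨Nat.prime_three⟩
  have := Fintype.ofFinite G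
  subst hSP
  have hc : ∀ s ∈ (P : Subgroup G), ∀ t ∈ (P : Subgroup G), s * t = t * s := fun s hs t ht =>
    congrArg Subtype.val (hcomm.is_comm.comm ⟨s, hs⟩ ⟨t, ht⟩)
  obtain ⟨N, hNdef⟩ : ∃ N : Subgroup G, N = normalizer ((P : Subgroup G) : Set G) := ⟨_, rfl⟩
  have hPN : (P : Subgroup G) ≤ N := hNdef ▸ Subgroup.le_normalizer
  have hsyl : ∀ Q : Subgroup G, IsPGroup 3 Q → ∃ g : G, ∀ x ∈ Q, g * x * g⁻¹ ∈ (P : Subgroup G) := by
    intro Q hQ
    obtain ⟨Q', hQ'⟩ := hQ.exists_le_sylow
    obtain ⟨g, hg⟩ := MulAction.exists_smul_eq G Q' P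
    exact ⟨g, fun x hx => by rw [← hg, Sylow.coe_subgroup_smul]; exact ⟨x, hQ' hx, rfl⟩⟩
  have hconjP : ∀ {n s : G}, n ∈ N → s ∈ (P : Subgroup G) → n * s * n⁻¹ ∈ (P : Subgroup G) := fun {n s} hn hs =>
    (mem_normalizer_iff.1 (hNdef ▸ hn) s).1 hs
  -- fixed point freeness
  have hfix : ∀ {n s : G}, s ∈ (P : Subgroup G) → s ≠ 1 → n * s * n⁻¹ = s → n ∈ (P : Subgroup G) := fun {n s} hs h1 h =>
    (SetLike.ext_iff.1 (hcent s hs h1) n).1 (mem_centralizer_singleton_iff.2 (mul_inv_eq_iff_eq_mul.1 h))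
  obtain ⟨k, hk⟩ : ∃ k, k = (P : Subgroup G).relIndex N := ⟨_, rfl⟩
  have hcardN : Nat.card N = 9 * k := by
    rw [hk, Subgroup.relIndex, ← hcard, ← Nat.card_congr (subgroupOfEquivOfLe hPN).toEquiv, card_mul_index]
  -- the free action
  obtain ⟨s₀, hs₀, hs₀1⟩ : ∃ s ∈ (P : Subgroup G), s ≠ 1 := by
    by_contra! h
    have : Nat.card (P : Subgroup G) ≤ 1 := Finite.card_le_one_iff_subsingleton.2
      ⟨fun a b => Subtype.ext ((h a a.2).trans (h b b.2).symm)⟩
    omega
  let X := {s : G // s ∈ (P : Subgroup G) ∧ s ≠ 1}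
  letI : MulAction N X :=
    { smul := fun n s => ⟨(n : G) * s.1 * (n : G)⁻¹, hconjP n.2 s.2.1, fun e => s.2.2 (conj_eq_one_iff.1 e)⟩
      one_smul := fun s => Subtype.ext (show (1 : G) * s.1 * (1 : G)⁻¹ = s.1 by group)
      mul_smul := fun a b s => Subtype.ext (show ((a : G) * b) * s.1 * ((a : G) * b)⁻¹ = (a : G) * ((b : G) * s.1 * (b : G)⁻¹) * (a : G)⁻¹ by group) }
  have hstab : ∀ x : X, MulAction.stabilizer N x = (P : Subgroup G).subgroupOf N := by
    intro x
    ext n
    rw [MulAction.mem_stabilizer_iff, mem_subgroupOf]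
    exact ⟨fun h => hfix x.2.1 x.2.2 (congrArg Subtype.val h),
      fun h => Subtype.ext (show (n : G) * x.1 * (n : G)⁻¹ = x.1 by rw [hc _ h _ x.2.1]; group)⟩
  have horb : ∀ x : X, Nat.card (MulAction.orbit N x) = k := by
    intro x
    rw [Nat.card_congr (MulAction.orbitEquivQuotientStabilizer N x), ← Subgroup.index, hstab x, hk]
    rfl
  have h8 : Nat.card X = 8 := by
    rw [Nat.card_eq_fintype_card, Fintype.card_subtype]
    have e : (Finset.univ.filter fun s : G => s ∈ (P : Subgroup G) ∧ s ≠ 1) =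
        (Finset.univ.filter fun s : G => s ∈ (P : Subgroup G)).erase 1 := by ext; simp; tauto
    rw [e, Finset.card_erase_of_mem (by simp), ← Fintype.card_subtype, ← Nat.card_eq_fintype_card]
    have : Nat.card {x // x ∈ (P : Subgroup G)} = 9 := hcard
    omega
  have hk8 : k ∣ 8 := by
    refine ⟨Nat.card (MulAction.orbitRel.Quotient N X), ?_⟩
    rw [← h8, Nat.card_congr (MulAction.selfEquivSigmaOrbitsQuotientStabilizer N X), Nat.card_sigma,
      Finset.sum_congr rfl (g := fun _ => k) fun ω _ => by rw [hstab, hk]; rfl]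
    simp [Nat.card_eq_fintype_card, mul_comm]
  have hk_ne8 : k ≠ 8 := by
    intro e
    obtain ⟨a, b, ha, hb, hab⟩ := hclasses
    have inP : ∀ {a : G}, orderOf a = 3 → ∃ g : G, ∃ x : X, g * a * g⁻¹ = x.1 := by
      intro a ha
      obtain ⟨g, hg⟩ := hsyl (zpowers a) (IsPGroup.of_card (n := 1) (by rw [Nat.card_zpowers, ha, pow_one]))
      exact ⟨g, ⟨_, hg a (mem_zpowers a), fun h => by rw [conj_eq_one_iff.1 h, orderOf_one] at ha; omega⟩, rfl⟩
    obtain ⟨g, x, hx⟩ := inP ha
    obtain ⟨h, y, hy⟩ := inP hb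
    have htop : MulAction.orbit N x = Set.univ :=
      Set.eq_of_subset_of_ncard_le (Set.subset_univ _) (by
        rw [Set.ncard_univ, h8, ← Nat.card_coe_set_eq, horb, e])
    obtain ⟨n, hn⟩ := (htop.symm ▸ Set.mem_univ y : y ∈ MulAction.orbit N x)
    refine hab (h⁻¹ * n * g) ?_
    have : (n : G) * x.1 * (n : G)⁻¹ = y.1 := congrArg Subtype.val hn
    calc h⁻¹ * n * g * a * (h⁻¹ * n * g)⁻¹ = h⁻¹ * ((n : G) * (g * a * g⁻¹) * (n : G)⁻¹) * h := by group
      _ = h⁻¹ * (h * b * h⁻¹) * h := by rw [hx, this, hy]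
      _ = b := by group
  have hk1 : k ≠ 1 := by
    intro e
    have hle : normalizer ((P : Subgroup G) : Set G) ≤ centralizer ((P : Subgroup G) : Set G) := by
      rw [← hNdef]
      intro n hn
      have hnP : n ∈ (P : Subgroup G) := (Subgroup.relIndex_eq_one.1 (hk.symm.trans e)) hn
      exact mem_centralizer_iff.2 fun s hs => hc s hs n hnP
    have hcompl := MonoidHom.ker_transferSylow_isComplement' P hle
    rcases (MonoidHom.normal_ker (MonoidHom.transferSylow P hle)).eq_bot_or_eq_top with hb | ht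
    · rw [hb, Subgroup.isComplement'_bot_left] at hcompl
      obtain ⟨a, b, ha, hb', hab⟩ := hclasses
      have hcommG : ∀ u v : G, u * v = v * u := fun u v => hc u (hcompl ▸ mem_top u) v (hcompl ▸ mem_top v)
      letI : CommGroup G := { (inferInstance : Group G) with mul_comm := hcommG }
      have hp : (Nat.card G).Prime := IsSimpleGroup.prime_card
      rw [← Subgroup.card_top, ← hcompl, hcard] at hp
      norm_num at hp
    · rw [ht, Subgroup.isComplement'_top_left] at hcompl
      rw [hcompl, Subgroup.card_bot] at hcard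
      omega
  have hk24 : k = 2 ∨ k = 4 := by
    have := Nat.le_of_dvd (by norm_num) hk8
    interval_cases k <;> omega
  -- an involution modulo the subgroup inverts it
  have hinvol : ∀ {n : G}, n ∈ N → n ∉ (P : Subgroup G) → n * n ∈ (P : Subgroup G) →
      ∀ s ∈ (P : Subgroup G), n * s * n⁻¹ = s⁻¹ := by
    intro n hn hnP hn2 s hs
    have hns := hconjP hn hs
    have h2 : n * (n * s * n⁻¹) * n⁻¹ = s := by
      calc _ = n * n * s * (n * n)⁻¹ := by group
        _ = s := by rw [hc _ hn2 _ hs]; group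
    by_contra hne
    refine hnP (hfix (s := (n * s * n⁻¹) * s) (mul_mem hns hs) (fun e => hne (eq_inv_of_mul_eq_one_left e)) ?_)
    calc n * (n * s * n⁻¹ * s) * n⁻¹ = n * (n * s * n⁻¹) * n⁻¹ * (n * s * n⁻¹) := by group
      _ = n * s * n⁻¹ * s := by rw [h2, hc _ hs _ hns]
  have hnum : Nat.card (normalizer ((P : Subgroup G) : Set G)) = 9 * k := hNdef ▸ hcardN
  have hcardG : Nat.card G = 9 * k * (normalizer ((P : Subgroup G) : Set G)).index := by
    rw [← hnum, card_mul_index]
  -- coordinates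
  have hbasis : ∀ a b : G, a ∈ (P : Subgroup G) → b ∈ (P : Subgroup G) → a ≠ 1 → b ∉ zpowers a →
      Function.Injective (fun v : V => a ^ v.1.val * b ^ v.2.val) := by
    intro a b ha hb ha1 hbz v w h
    simp only at h
    have hb3 := hexp b hb
    have ha3 := hexp a ha
    have hoa : orderOf a = 3 := orderOf_eq_prime ha3 ha1
    have e : b ^ ((v.2.val : ℤ) - w.2.val) = a ^ ((w.1.val : ℤ) - v.1.val) := by
      rw [zpow_sub, zpow_sub, zpow_natCast, zpow_natCast, zpow_natCast, zpow_natCast, mul_inv_eq_iff_eq_mul,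
        hc _ (mul_mem (pow_mem ha _) (inv_mem (pow_mem ha _))) _ (pow_mem hb _), ← mul_assoc,
        eq_mul_inv_iff_mul_eq, hc _ (pow_mem hb _) _ (pow_mem ha _), hc _ (pow_mem hb _) _ (pow_mem ha _), h]
    have h2 : v.2 = w.2 := by
      by_contra hne
      refine hbz ?_
      have hmem : b ^ ((v.2.val : ℤ) - w.2.val) ∈ zpowers a := e ▸ zpow_mem (mem_zpowers a) _
      have hb' : b ^ (3 : ℤ) = 1 := by rw [show (3 : ℤ) = ((3 : ℕ) : ℤ) from rfl, zpow_natCast]; exact hb3
      have hd : ((v.2.val : ℤ) - w.2.val) % 3 = 1 ∨ ((v.2.val : ℤ) - w.2.val) % 3 = 2 := by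
        have := ZMod.val_lt v.2; have := ZMod.val_lt w.2
        have : v.2.val ≠ w.2.val := fun q => hne (ZMod.val_injective 3 q)
        omega
      rw [← Int.emod_add_mul_ediv ((v.2.val : ℤ) - w.2.val) 3, zpow_add, zpow_mul, hb', one_zpow, mul_one] at hmem
      rcases hd with d | d <;> rw [d] at hmem
      · simpa using hmem
      · have := inv_mem hmem
        rwa [← zpow_neg, show (-2 : ℤ) = 1 + -3 from rfl, zpow_add, zpow_one, zpow_neg, hb', inv_one, mul_one] at this
    rw [h2] at h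
    have h1 := mul_right_cancel h
    rw [pow_inj_mod, hoa] at h1
    refine Prod.ext (ZMod.val_injective 3 ?_) h2
    have := ZMod.val_lt v.1; have := ZMod.val_lt w.1; omega
  have mkEl : ∀ a b : G, a ∈ (P : Subgroup G) → b ∈ (P : Subgroup G) → a ≠ 1 → b ∉ zpowers a →
      ∃ el : V → G, (∀ v, el v = a ^ v.1.val * b ^ v.2.val) ∧ (∀ v, el v ∈ (P : Subgroup G)) ∧
        (∀ v w, el (v + w) = el v * el w) ∧ Function.Injective el ∧ ∀ s ∈ (P : Subgroup G), ∃ v, el v = s := by
    intro a b ha hb ha1 hbz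
    refine ⟨fun v => a ^ v.1.val * b ^ v.2.val, fun _ => rfl, fun v => mul_mem (pow_mem ha _) (pow_mem hb _),
      fun v w => ?_, hbasis a b ha hb ha1 hbz, ?_⟩
    · simp only [Prod.fst_add, Prod.snd_add, ZMod.val_add, ← pow_eq_pow_mod _ (hexp a ha), ← pow_eq_pow_mod _ (hexp b hb),
        pow_add]
      calc a ^ v.1.val * a ^ w.1.val * (b ^ v.2.val * b ^ w.2.val) = a ^ v.1.val * (a ^ w.1.val * b ^ v.2.val) * b ^ w.2.val := by group
        _ = a ^ v.1.val * (b ^ v.2.val * a ^ w.1.val) * b ^ w.2.val := by rw [hc _ (pow_mem ha _) _ (pow_mem hb _)]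
        _ = _ := by group
    · intro s hs
      have hb' := Function.Injective.bijective_of_nat_card_le
        (f := fun v : V => (⟨a ^ v.1.val * b ^ v.2.val, mul_mem (pow_mem ha _) (pow_mem hb _)⟩ : (P : Subgroup G)))
        (fun v w h => hbasis a b ha hb ha1 hbz (congrArg Subtype.val h))
        (by rw [hcard]; simp)
      obtain ⟨v, hv⟩ := hb'.2 ⟨s, hs⟩
      exact ⟨v, congrArg Subtype.val hv⟩
  have hcoset : ∀ {m : ℕ} (r : Fin m → G), k ≤ m → (∀ i, r i ∈ N) →
      (∀ i j, (r i)⁻¹ * r j ∈ (P : Subgroup G) → i = j) → ∀ g ∈ N, ∃ i, (r i)⁻¹ * g ∈ (P : Subgroup G) := by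
    intro m r hkm hr hu g hg
    have hinj : Function.Injective fun i => (QuotientGroup.mk (⟨r i, hr i⟩ : N) : N ⧸ (P : Subgroup G).subgroupOf N) :=
      fun i j h => hu i j (by simpa [mem_subgroupOf] using QuotientGroup.eq.1 h)
    have hb := hinj.bijective_of_nat_card_le (by
      rw [Nat.card_fin, ← Subgroup.index]; exact le_trans (le_of_eq (by rw [hk]; rfl)) hkm)
    obtain ⟨i, hi⟩ := hb.2 (QuotientGroup.mk (⟨g, hg⟩ : N))
    exact ⟨i, by simpa [mem_subgroupOf] using QuotientGroup.eq.1 hi⟩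
  have hmem_inv : ∀ {n : G}, n⁻¹ ∈ (P : Subgroup G) → n ∈ (P : Subgroup G) := fun h => by simpa using inv_mem h
  obtain ⟨n, hnN, hnP⟩ : ∃ n ∈ N, n ∉ (P : Subgroup G) := by
    by_contra! h
    exact hk1 (hk.trans (Subgroup.relIndex_eq_one.2 h))
  rcases hk24 with rfl | rfl
  · exfalso
    have hn2 : n * n ∈ (P : Subgroup G) := by
      have hidx : ((P : Subgroup G).subgroupOf N).index = 2 := hk.symm
      exact (Subgroup.mul_mem_iff_of_index_two hidx (a := (⟨n, hnN⟩ : N)) (b := ⟨n, hnN⟩)).2 Iff.rfl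
    obtain ⟨b, hb, hbz⟩ : ∃ b ∈ (P : Subgroup G), b ∉ zpowers s₀ := by
      by_contra! h
      have := Subgroup.card_le_of_le (show (P : Subgroup G) ≤ zpowers s₀ from h)
      rw [hcard, Nat.card_zpowers, orderOf_eq_prime (hexp s₀ hs₀) hs₀1] at this
      omega
    obtain ⟨el, hel, hmem, hadd, hinj, hsurj⟩ := mkEl s₀ b hs₀ hb hs₀1 hbz
    have hneg : ∀ v, el (-v) = (el v)⁻¹ := fun v => eq_inv_of_mul_eq_one_left (by
      rw [← hadd, neg_add_cancel, hel]; simp)
    have hr : ∀ i : Fin 2, ![1, n] i ∈ N := by intro i; fin_cases i <;> simp [N.one_mem, hnN]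
    have huniq : ∀ i j : Fin 2, (![1, n] i)⁻¹ * ![1, n] j ∈ (P : Subgroup G) → i = j := by
      intro i j h
      fin_cases i <;> fin_cases j <;> simp at h ⊢
      · exact hnP h
      · exact hnP h
    let St : Setup (P : Subgroup G) actTwo :=
      { el := el, mem := hmem, add := hadd, inj := hinj, surj := hsurj, r := ![1, n]
        act := fun i v => by
          fin_cases i
          · simp [actTwo]
          · show n⁻¹ * el v * n = el (-v)
            rw [hneg]
            have := hinvol hnN hnP hn2 _ (inv_mem (hmem v))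
            rw [inv_inv] at this
            calc n⁻¹ * el v * n = n⁻¹ * (n * (el v)⁻¹ * n⁻¹) * n := by rw [this]
              _ = (el v)⁻¹ := by group
        cover := fun g => ⟨fun hg => hcoset ![1, n] le_rfl hr huniq g (hNdef ▸ hg), fun ⟨i, hi⟩ => by
          rw [← hNdef, show g = ![1, n] i * ((![1, n] i)⁻¹ * g) by group]
          exact mul_mem (hr i) (hPN hi)⟩
        uniq := huniq, cent := hcent, three_mem := fun x hx h => normal_sylow_no_three P hx h }
    exact case_two St hsyl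
  · -- a cyclic normaliser
    obtain ⟨n, hnN, hn2⟩ : ∃ n ∈ N, n * n ∉ (P : Subgroup G) := by
      by_contra! h
      have hall : ∀ g ∈ N, ∃ i : Fin 2, (![1, n] i)⁻¹ * g ∈ (P : Subgroup G) := by
        intro g hg
        by_cases hgP : g ∈ (P : Subgroup G)
        · exact ⟨0, by simpa using hgP⟩
        refine ⟨1, ?_⟩
        show n⁻¹ * g ∈ (P : Subgroup G)
        have e1 := hinvol hnN hnP (h n hnN) s₀ hs₀
        have e2 := hinvol hg hgP (h g hg) s₀ hs₀
        refine hfix hs₀ hs₀1 ?_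
        calc n⁻¹ * g * s₀ * (n⁻¹ * g)⁻¹ = n⁻¹ * (g * s₀ * g⁻¹) * n := by group
          _ = n⁻¹ * (n * s₀ * n⁻¹) * n := by rw [e2, e1]
          _ = s₀ := by group
      have hle : Nat.card (N ⧸ (P : Subgroup G).subgroupOf N) ≤ Nat.card (Fin 2) := by
        refine Nat.card_le_card_of_surjective
          (fun i => (QuotientGroup.mk (⟨![1, n] i, by fin_cases i <;> simp [N.one_mem, hnN]⟩ : N))) ?_
        intro q
        obtain ⟨⟨g, hg⟩, rfl⟩ := QuotientGroup.mk_surjective q
        obtain ⟨i, hi⟩ := hall g hg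
        exact ⟨i, QuotientGroup.eq.2 (by simpa [mem_subgroupOf] using hi)⟩
      rw [← Subgroup.index, show ((P : Subgroup G).subgroupOf N).index = 4 from hk.symm, Nat.card_fin] at hle
      omega
    have hnP' : n ∉ (P : Subgroup G) := fun h => hn2 (mul_mem h h)
    haveI : ((P : Subgroup G).subgroupOf N).Normal :=
      (Subgroup.normal_subgroupOf_iff_le_normalizer hPN).2 (le_of_eq hNdef)
    have h4 : n * n * (n * n) ∈ (P : Subgroup G) := by
      have := Subgroup.pow_index_mem ((P : Subgroup G).subgroupOf N) (⟨n, hnN⟩ : N)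
      rw [show ((P : Subgroup G).subgroupOf N).index = 4 from hk.symm, mem_subgroupOf] at this
      simpa [pow_succ, mul_assoc] using this
    have hn2inv := hinvol (mul_mem hnN hnN) hn2 h4
    -- the second basis vector
    have hb : n * s₀ * n⁻¹ ∈ (P : Subgroup G) := hconjP hnN hs₀
    have hbz : n * s₀ * n⁻¹ ∉ zpowers s₀ := by
      intro h
      obtain ⟨i, hi⟩ := h
      have h3 : s₀ ^ (3 : ℤ) = 1 := by rw [show (3 : ℤ) = ((3 : ℕ) : ℤ) from rfl, zpow_natCast]; exact hexp _ hs₀
      simp only at hi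
      rw [← Int.emod_add_mul_ediv i 3, zpow_add, zpow_mul, h3, one_zpow, mul_one] at hi
      rcases (show i % 3 = 0 ∨ i % 3 = 1 ∨ i % 3 = 2 by omega) with e | e | e <;> rw [e] at hi
      · exact hs₀1 (conj_eq_one_iff.1 (by rw [← hi, zpow_zero]))
      · exact hnP' (hfix hs₀ hs₀1 (by rw [← hi, zpow_one]))
      · have e' : n * s₀ * n⁻¹ = s₀⁻¹ := by
          rw [← hi, show (2 : ℤ) = ((2 : ℕ) : ℤ) from rfl, zpow_natCast]
          exact eq_inv_of_mul_eq_one_left (by rw [← pow_succ]; exact hexp _ hs₀)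
        refine hn2 (hfix hs₀ hs₀1 ?_)
        calc n * n * s₀ * (n * n)⁻¹ = n * (n * s₀ * n⁻¹) * n⁻¹ := by group
          _ = n * s₀⁻¹ * n⁻¹ := by rw [e']
          _ = (n * s₀ * n⁻¹)⁻¹ := by group
          _ = s₀ := by rw [e', inv_inv]
    obtain ⟨el, hel, hmem, hadd, hinj, hsurj⟩ := mkEl s₀ _ hs₀ hb hs₀1 hbz
    have hneg : ∀ v, el (-v) = (el v)⁻¹ := fun v => eq_inv_of_mul_eq_one_left (by
      rw [← hadd, neg_add_cancel, hel]; simp)
    have hrot : ∀ v : V, n * el v * n⁻¹ = el (-v.2, v.1) := by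
      intro v
      have hbn : n * (n * s₀ * n⁻¹) * n⁻¹ = s₀⁻¹ := by rw [← hn2inv s₀ hs₀]; group
      have hs2 : el (-v.2, 0) = (s₀ ^ v.2.val)⁻¹ := by
        rw [show ((-v.2, 0) : V) = -(v.2, 0) from Prod.ext rfl neg_zero.symm, hneg, hel]; simp
      rw [show ((-v.2, v.1) : V) = (-v.2, 0) + (0, v.1) by simp, hadd, hs2, hel (0, v.1), hel v]
      calc n * (s₀ ^ v.1.val * (n * s₀ * n⁻¹) ^ v.2.val) * n⁻¹
          = (n * s₀ ^ v.1.val * n⁻¹) * (n * (n * s₀ * n⁻¹) ^ v.2.val * n⁻¹) := by group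
        _ = (n * s₀ * n⁻¹) ^ v.1.val * (n * (n * s₀ * n⁻¹) * n⁻¹) ^ v.2.val := by
            rw [← conj_pow, ← conj_pow]
        _ = _ := by
            rw [hbn, inv_pow, hc _ (pow_mem hb _) _ (inv_mem (pow_mem hs₀ _))]
            simp
    have hrot' : ∀ v : V, n⁻¹ * el v * n = el (v.2, -v.1) := by
      intro v
      have := hrot (v.2, -v.1)
      simp only [neg_neg] at this
      rw [← this]; group
    obtain ⟨r, hrd⟩ : ∃ r : Fin 4 → G, r = ![1, n⁻¹, n * n, n] := ⟨_, rfl⟩
    have hr : ∀ i, r i ∈ N := by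
      intro i; subst hrd; fin_cases i <;> simp [N.one_mem, hnN, N.inv_mem hnN, N.mul_mem hnN hnN]
    have hn3 : n * (n * n) ∉ (P : Subgroup G) := by
      intro h
      have := mul_mem (inv_mem h) h4
      exact hnP' (by convert this using 1; group)
    have huniq : ∀ i j, (r i)⁻¹ * r j ∈ (P : Subgroup G) → i = j := by
      intro i j h
      subst hrd
      fin_cases i <;> fin_cases j <;> simp at h ⊢
      all_goals first
        | exact hnP' h
        | exact hn2 h
        | exact hn3 h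
        | exact hnP' (hmem_inv h)
        | exact hn2 (by simpa using hmem_inv (by simpa using h))
        | exact hn3 (by simpa [mul_assoc] using h)
        | exact hn3 (hmem_inv (by simpa [mul_assoc] using h))
        | exact hnP' (by simpa [mul_assoc] using h)
        | exact hn2 (by simpa [mul_assoc] using h)
        | exact hnP' (hmem_inv (by simpa [mul_assoc] using h))
    let St : Setup (P : Subgroup G) actFour :=
      { el := el, mem := hmem, add := hadd, inj := hinj, surj := hsurj, r := r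
        act := fun i v => by
          subst hrd
          fin_cases i
          · simp [actFour]
          · show n⁻¹⁻¹ * el v * n⁻¹ = el (-v.2, v.1)
            rw [inv_inv]; exact hrot v
          · show (n * n)⁻¹ * el v * (n * n) = el (-v)
            rw [hneg]
            have := hn2inv _ (inv_mem (hmem v))
            rw [inv_inv] at this
            calc (n * n)⁻¹ * el v * (n * n) = (n * n)⁻¹ * (n * n * (el v)⁻¹ * (n * n)⁻¹) * (n * n) := by rw [this]
              _ = (el v)⁻¹ := by group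
          · exact hrot' v
        cover := fun g => ⟨fun hg => hcoset r le_rfl hr huniq g (hNdef ▸ hg), fun ⟨i, hi⟩ => by
          rw [← hNdef, show g = r i * ((r i)⁻¹ * g) by group]
          exact mul_mem (hr i) (hPN hi)⟩
        uniq := huniq, cent := hcent, three_mem := fun x hx h => normal_sylow_no_three P hx h }
    have hmod := St.index_mod
    refine case_four St hsyl (normalizer ((P : Subgroup G) : Set G)).index ?_ (by omega)
    by_contra hlt
    have h1 : (normalizer ((P : Subgroup G) : Set G)).index = 1 := by omega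
    have hnorm : (P : Subgroup G).Normal := Subgroup.normalizer_eq_top_iff.1 (Subgroup.index_eq_one.1 h1)
    rcases hnorm.eq_bot_or_eq_top with e | e
    · exact hs₀1 (Subgroup.mem_bot.1 (e ▸ hs₀))
    · exact hnP' (e ▸ mem_top n)

end Cfsg.Lib.NineTI
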