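import Cfsg.Agent.LocalThree.EvenTripleValue
import Cfsg.Agent.Chars.Sums
import Cfsg.Agent.Chars.Count
import Cfsg.Agent.Chars.Construct
import Cfsg.Agent.Chars.Perm

/-!
A group with a subgroup isomorphic to the even part of `S₃ × S₃ × S₃` that contains the centralisers of
the nontrivial elements of its normal subgroup of order `27` and is the normaliser of that subgroup.
-/

set_option autoImplicit false
set_option linter.unusedSectionVars false

namespace Cfsg.Lib.EvenTriple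

open Subgroup Cfsg.Lib.Chars
open scoped Pointwise
open scoped ComplexConjugate

abbrev S3 := Equiv.Perm (Fin 3)

abbrev Amb := S3 × S3 × S3

/-- The product of the three signs. -/
def Even3 (k : Amb) : Prop := Equiv.Perm.sign k.1 * Equiv.Perm.sign k.2.1 * Equiv.Perm.sign k.2.2 = 1

instance : DecidablePred Even3 := fun _ => inferInstanceAs (Decidable (_ = _))

/-- The shape of a permutation of three points. -/
def shape (s : S3) : Fin 3 := if s = 1 then 0 else if Equiv.Perm.sign s = -1 then 1 else 2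

/-- The shape of a triple. -/
def ty (k : Amb) : Fin 3 × Fin 3 × Fin 3 := (shape k.1, shape k.2.1, shape k.2.2)

def oneV : Fin 3 → ℤ := fun _ => 1

def sgV : Fin 3 → ℤ := ![1, -1, 1]

def phV : Fin 3 → ℤ := ![2, 0, -1]

def tens (f g h : Fin 3 → ℤ) (t : Fin 3 × Fin 3 × Fin 3) : ℤ := f t.1 * g t.2.1 * h t.2.2

/-- The ten special functions. -/
def vfun : Fin 10 → Fin 3 × Fin 3 × Fin 3 → ℤ :=
  ![tens oneV oneV oneV + tens sgV oneV oneV - tens phV oneV oneV,
    tens oneV oneV oneV + tens oneV sgV oneV - tens oneV phV oneV,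
    tens oneV oneV oneV + tens oneV oneV sgV - tens oneV oneV phV,
    tens oneV sgV oneV + tens oneV oneV sgV - tens phV sgV oneV,
    tens sgV oneV oneV + tens oneV oneV sgV - tens sgV phV oneV,
    tens sgV oneV oneV + tens oneV sgV oneV - tens sgV oneV phV,
    tens phV oneV phV - tens oneV phV phV,
    tens phV phV oneV - tens oneV phV phV,
    tens oneV oneV oneV + tens sgV oneV oneV + tens oneV sgV oneV + tens oneV oneV sgV - tens oneV phV phV,
    tens phV phV phV - tens oneV phV phV - tens oneV phV phV]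

/-- The four classes. -/
def cls : Fin 4 → Fin 3 × Fin 3 × Fin 3 := ![(2, 0, 0), (0, 2, 0), (0, 0, 2), (2, 2, 0)]

def rot : S3 := Equiv.swap 0 1 * Equiv.swap 1 2

def rep : Fin 4 → Amb := ![(rot, 1, 1), (1, rot, 1), (1, 1, rot), (rot, rot, 1)]

def csize : Fin 4 → ℕ := ![54, 54, 54, 27]

theorem rep_even : ∀ a, Even3 (rep a) := by decide +kernel

theorem rep_ty : ∀ a, ty (rep a) = cls a := by decide +kernel

theorem rep_cube : ∀ a, rep a * (rep a * rep a) = 1 ∧ rep a ≠ 1 := by decide +kernel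

theorem ty_conj : ∀ c k : Amb, ty (c * k * c⁻¹) = ty k := by
  have h : ∀ s t : S3, shape (s * t * s⁻¹) = shape t := by decide +kernel
  exact fun c k => Prod.ext (h _ _) (Prod.ext (h _ _) (h _ _))

theorem ty_inv : ∀ k : Amb, ty k⁻¹ = ty k := by
  have h : ∀ s : S3, shape s⁻¹ = shape s := by decide +kernel
  exact fun k => Prod.ext (h _) (Prod.ext (h _) (h _))

theorem rep_cover : ∀ (a : Fin 4) (k : Amb), Even3 k → ty k = cls a → ∃ c : Amb, Even3 c ∧ c * rep a * c⁻¹ = k := by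
  decide +kernel

theorem rep_inv : ∀ a : Fin 4, ∃ c : Amb, Even3 c ∧ c * rep a * c⁻¹ = (rep a)⁻¹ := by decide +kernel

theorem card_even : (Finset.univ.filter fun k : Amb => Even3 k).card = 108 := by decide +kernel

theorem card_cube : (Finset.univ.filter fun k : Amb => Even3 k ∧ k * (k * k) = 1).card = 27 := by decide +kernel

theorem card_cls : ∀ a, (Finset.univ.filter fun k : Amb => Even3 k ∧ ty k = cls a).card * csize a = 108 := by
  decide +kernel

theorem card_cent : ∀ a, (Finset.univ.filter fun k : Amb => Even3 k ∧ k * rep a = rep a * k).card = csize a := by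
  decide +kernel

theorem vfun_bad : ∀ i, ∀ k : Amb, Even3 k → k * k = 1 → vfun i (ty k) = 0 := by decide +kernel

theorem indicator : ∀ a, ∀ k : Amb, Even3 k →
    ∑ i, coef a i * vfun i (ty k) = if ty k = cls a then (csize a : ℤ) else 0 := by decide +kernel

/-- The weights of the shapes. -/
def wt (t : Fin 3 × Fin 3 × Fin 3) : ℕ := (Finset.univ.filter fun k : Amb => Even3 k ∧ ty k = t).card

def wtv : Fin 3 × Fin 3 × Fin 3 → ℕ := fun t =>
  if ((if t.1 = 1 then 1 else 0) + (if t.2.1 = 1 then 1 else 0) + (if t.2.2 = 1 then 1 else 0)) % 2 = 0 then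
    ![1, 3, 2] t.1 * ![1, 3, 2] t.2.1 * ![1, 3, 2] t.2.2 else 0

theorem wt_eq : ∀ t, wt t = wtv t := by unfold wt; decide +kernel

theorem gram_sum : ∀ i j, ∑ t : Fin 3 × Fin 3 × Fin 3, (wtv t : ℤ) * (vfun i t * vfun j t) = 108 * gram i j := by
  decide +kernel

theorem prin_sum : ∀ i, ∑ t : Fin 3 × Fin 3 × Fin 3, (wtv t : ℤ) * vfun i t = 108 * prin i := by decide +kernel

/-- The number of products in the normal subgroup. -/
def cnt (a b c : Fin 4) : ℕ :=
  (Finset.univ.filter fun k : Amb => Even3 k ∧ k * (k * k) = 1 ∧ ty k = cls a ∧ ty (k⁻¹ * rep c) = cls b).card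

theorem cnt_vals : cnt 0 0 2 = 0 ∧ cnt 0 0 1 = 0 ∧ cnt 1 1 0 = 0 ∧ cnt 0 1 2 = 0 ∧ cnt 0 1 3 = 1 := by
  unfold cnt; decide +kernel

universe u

variable {G : Type u} [Group G] [Finite G]

/-- The data. -/
structure Setup (H T : Subgroup G) where
  φ : ↥H →* Amb
  inj : Function.Injective φ
  even : ∀ x, Even3 (φ x)
  surj : ∀ k, Even3 k → ∃ x, φ x = k
  le : T ≤ H
  cardT : Nat.card T = 27
  hN : normalizer (T : Set G) = H
  hC : ∀ t ∈ T, t ≠ 1 → centralizer ({t} : Set G) ≤ H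

theorem gen_shape : Cfsg.IsGeneralizedCharacter S3 (fun s => (oneV (shape s) : ℂ)) ∧
    Cfsg.IsGeneralizedCharacter S3 (fun s => (sgV (shape s) : ℂ)) ∧
    Cfsg.IsGeneralizedCharacter S3 (fun s => (phV (shape s) : ℂ)) := by
  have h1 : Cfsg.IsGeneralizedCharacter S3 (fun _ => (1 : ℂ)) := IsCharacter.isGeneralized isCharacter_one
  refine ⟨?_, ?_, ?_⟩
  · simpa [oneV] using h1
  · have hl := IsCharacter.isGeneralized
      (isCharacter_linear ((Units.map (Int.castRingHom ℂ).toMonoidHom).comp (Equiv.Perm.sign (α := Fin 3))))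
    have e : (fun s : S3 => (sgV (shape s) : ℂ)) =
        fun s => (((Units.map (Int.castRingHom ℂ).toMonoidHom).comp (Equiv.Perm.sign (α := Fin 3)) s : ℂˣ) : ℂ) := by
      funext s
      show _ = (((Equiv.Perm.sign s : ℤˣ) : ℤ) : ℂ)
      exact congrArg _ ((show ∀ s : S3, sgV (shape s) = ((Equiv.Perm.sign s : ℤˣ) : ℤ) by decide +kernel) s)
    rw [e]; exact hl
  · have hp := IsGeneralizedCharacter.sub (IsCharacter.isGeneralized (isCharacter_permChar (G := S3) (Fin 3))) h1
    have e : (fun s : S3 => (phV (shape s) : ℂ)) = permChar S3 (Fin 3) - fun _ => (1 : ℂ) := by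
      funext s
      show _ = (Nat.card (MulAction.fixedBy (Fin 3) s) : ℂ) - 1
      rw [show Nat.card (MulAction.fixedBy (Fin 3) s) = (Finset.univ.filter fun i => s i = i).card by
        rw [← Nat.card_eq_finsetCard]; exact Nat.card_congr (Equiv.subtypeEquivRight fun i => by simp)]
      have h := (show ∀ s : S3, phV (shape s) + 1 = ((Finset.univ.filter fun i => s i = i).card : ℤ) by
        decide +kernel) s
      rw [eq_sub_iff_add_eq]
      exact_mod_cast h
    rw [e]; exact hp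

namespace Setup

variable {H T : Subgroup G} (S : Setup H T)

include S

theorem card_sub (p : Amb → Prop) [DecidablePred p] :
    Nat.card {x : H // p (S.φ x)} = (Finset.univ.filter fun k : Amb => Even3 k ∧ p k).card := by
  rw [← Nat.card_eq_finsetCard]
  refine Nat.card_congr (Equiv.ofBijective (fun x => ⟨S.φ x.1, by simpa using ⟨S.even x.1, x.2⟩⟩) ⟨?_, ?_⟩)
  · intro x y hxy
    exact Subtype.ext (S.inj (congrArg Subtype.val hxy))
  · rintro ⟨k, hk⟩
    simp only [Finset.mem_filter, Finset.mem_univ, true_and] at hk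
    obtain ⟨x, rfl⟩ := S.surj k hk.1
    exact ⟨⟨x, hk.2⟩, rfl⟩

theorem cardH : Nat.card H = 108 := by
  have h := S.card_sub (fun _ => True)
  simp only [and_true] at h
  rw [card_even] at h
  rw [← h]
  exact Nat.card_congr (Equiv.subtypeUnivEquiv fun _ => trivial).symm

theorem cube_of_mem {t : G} (ht : t ∈ T) : t * (t * t) = 1 := by
  have h1 : orderOf t ∣ 27 := by
    rw [← S.cardT, ← Subgroup.orderOf_mk t ht]
    exact orderOf_dvd_natCard _
  have h2 : (⟨t, S.le ht⟩ : H) * (⟨t, S.le ht⟩ * ⟨t, S.le ht⟩) = 1 := by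
    apply S.inj
    simp only [map_mul, map_one]
    have h27 : S.φ ⟨t, S.le ht⟩ ^ 27 = 1 := by
      rw [← map_pow, show (⟨t, S.le ht⟩ : H) ^ 27 = 1 from Subtype.ext (by
        simpa using orderOf_dvd_iff_pow_eq_one.1 h1), map_one]
    exact (show ∀ s : S3, s ^ 27 = 1 → s * (s * s) = 1 by decide +kernel) |> fun hs =>
      Prod.ext (hs _ (congrArg Prod.fst h27)) (Prod.ext (hs _ (congrArg (fun k : Amb => k.2.1) h27))
        (hs _ (congrArg (fun k : Amb => k.2.2) h27)))
  simpa using congrArg Subtype.val h2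

theorem mem_T_iff (x : H) : (x : G) ∈ T ↔ S.φ x * (S.φ x * S.φ x) = 1 := by
  have himp : ∀ x : H, (x : G) ∈ T → S.φ x * (S.φ x * S.φ x) = 1 := fun x hx => by
    rw [← map_mul, ← map_mul, show x * (x * x) = 1 from Subtype.ext (by simpa using S.cube_of_mem hx), map_one]
  refine ⟨himp x, fun hx => ?_⟩
  classical
  by_contra hn
  have h1 := S.card_sub (fun k => k * (k * k) = 1)
  rw [card_cube] at h1
  have h2 : Nat.card {y : H // (y : G) ∈ T} = 27 := by
    rw [← S.cardT]
    exact Nat.card_congr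
      { toFun := fun y => ⟨y.1.1, y.2⟩
        invFun := fun t => ⟨⟨t.1, S.le t.2⟩, t.2⟩
        left_inv := fun _ => rfl
        right_inv := fun _ => rfl }
  have hb := Function.Injective.bijective_of_nat_card_le
    (f := fun y : {y : H // (y : G) ∈ T} => (⟨y.1, himp _ y.2⟩ : {y : H // S.φ y * (S.φ y * S.φ y) = 1}))
    (fun a b h => Subtype.ext (congrArg (fun z => z.1) h)) (by omega)
  obtain ⟨⟨y, hy⟩, he⟩ := hb.2 ⟨x, hx⟩
  exact hn ((congrArg (fun z => (z.1 : G)) he) ▸ hy)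

theorem ti {g : G} {t : G} (ht : t ∈ T) (ht1 : t ≠ 1) (hg : g * t * g⁻¹ ∈ T) : g ∈ H := by
  rw [← S.hN]
  refine Subgroup.mem_normalizer_iff_map_conj_eq.2 ?_
  refine Subgroup.eq_of_le_of_card_ge (fun a ha => ?_) (by
    rw [Subgroup.card_map_of_injective (MulAut.conj g).injective])
  obtain ⟨b, hb, rfl⟩ := ha
  have hcomm : b * t = t * b := by
    have h1 : S.φ ⟨b, S.le hb⟩ * S.φ ⟨t, S.le ht⟩ = S.φ ⟨t, S.le ht⟩ * S.φ ⟨b, S.le hb⟩ := by
      have hb' := (S.mem_T_iff ⟨b, S.le hb⟩).1 hb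
      have ht' := (S.mem_T_iff ⟨t, S.le ht⟩).1 ht
      exact (show ∀ s s' : S3, s * (s * s) = 1 → s' * (s' * s') = 1 → s * s' = s' * s by decide +kernel) |> fun hs =>
        Prod.ext (hs _ _ (congrArg Prod.fst hb') (congrArg Prod.fst ht'))
          (Prod.ext (hs _ _ (congrArg (fun k : Amb => k.2.1) hb') (congrArg (fun k : Amb => k.2.1) ht'))
            (hs _ _ (congrArg (fun k : Amb => k.2.2) hb') (congrArg (fun k : Amb => k.2.2) ht')))
    rw [← map_mul, ← map_mul] at h1
    exact congrArg Subtype.val (S.inj h1)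
  have hne : g * t * g⁻¹ ≠ 1 := fun h => ht1 (by simpa using conj_eq_one_iff.1 h)
  have hbH : g * b * g⁻¹ ∈ H := S.hC _ hg hne (mem_centralizer_singleton_iff.2 (by
    calc g * b * g⁻¹ * (g * t * g⁻¹) = g * (b * t) * g⁻¹ := by group
      _ = g * t * g⁻¹ * (g * b * g⁻¹) := by rw [hcomm]; group))
  show g * b * g⁻¹ ∈ T
  refine (S.mem_T_iff ⟨_, hbH⟩).2 ?_
  rw [← map_mul, ← map_mul, ← map_one S.φ]
  exact congrArg S.φ (Subtype.ext (by
    show g * b * g⁻¹ * (g * b * g⁻¹ * (g * b * g⁻¹)) = 1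
    calc _ = g * (b * (b * b)) * g⁻¹ := by group
      _ = 1 := by rw [S.cube_of_mem hb]; group))

theorem sylow_three : ¬ 3 ∣ T.index := by
  intro h
  have : Fact (Nat.Prime 3) := ⟨Nat.prime_three⟩
  have hd : 3 ^ (3 + 1) ∣ Nat.card G := by
    rw [← T.card_mul_index, S.cardT, pow_succ]
    exact mul_dvd_mul (by norm_num) h
  obtain ⟨K, hK, hTK⟩ := Sylow.exists_subgroup_card_pow_succ hd (H := T) (by rw [S.cardT]; norm_num)
  have hKp : IsPGroup 3 K := IsPGroup.of_card hK
  have hlt : T.subgroupOf K < ⊤ := lt_top_iff_ne_top.2 fun e => by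
    have := congrArg (fun L : Subgroup K => Nat.card L) e
    simp only [Subgroup.card_top] at this
    rw [Nat.card_congr (subgroupOfEquivOfLe hTK).toEquiv, S.cardT, hK] at this
    norm_num at this
  have hnc := (@Group.normalizerCondition_of_isNilpotent K _ hKp.isNilpotent) (T.subgroupOf K) hlt
  obtain ⟨k, hk, hkT⟩ := SetLike.exists_of_lt hnc
  have hkN : (k : G) ∈ H := by
    rw [← S.hN, Subgroup.mem_normalizer_iff]
    intro t
    constructor
    · intro ht
      have := (Subgroup.mem_normalizer_iff.1 hk ⟨t, hTK ht⟩).1 (mem_subgroupOf.2 ht)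
      exact mem_subgroupOf.1 this
    · intro ht
      have htK : t ∈ K := by
        have := K.mul_mem (K.mul_mem (K.inv_mem k.2) (hTK ht)) k.2
        simpa [mul_assoc] using this
      exact mem_subgroupOf.1 ((Subgroup.mem_normalizer_iff.1 hk ⟨t, htK⟩).2 (mem_subgroupOf.2 ht))
  refine hkT (mem_subgroupOf.2 ((S.mem_T_iff ⟨_, hkN⟩).2 ?_))
  have hp : orderOf (k : G) ∣ 3 ^ 4 := by
    rw [Subgroup.orderOf_coe, ← hK]; exact orderOf_dvd_natCard _
  have h81 : S.φ ⟨_, hkN⟩ ^ 81 = 1 := by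
    rw [← map_pow, show (⟨_, hkN⟩ : H) ^ 81 = 1 from Subtype.ext (by
      simpa using orderOf_dvd_iff_pow_eq_one.1 (show orderOf (k : G) ∣ 81 from hp)), map_one]
  exact (show ∀ s : S3, s ^ 81 = 1 → s * (s * s) = 1 by decide +kernel) |> fun hs =>
    Prod.ext (hs _ (congrArg Prod.fst h81)) (Prod.ext (hs _ (congrArg (fun k : Amb => k.2.1) h81))
      (hs _ (congrArg (fun k : Amb => k.2.2) h81)))

theorem exists_conj_mem {p : G} (hp : p * (p * p) = 1) : ∃ g : G, g * p * g⁻¹ ∈ T := by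
  have : Fact (Nat.Prime 3) := ⟨Nat.prime_three⟩
  let P : Sylow 3 G := (IsPGroup.of_card (n := 3) (by rw [S.cardT]; norm_num)).toSylow S.sylow_three
  have hP : (P : Subgroup G) = T := IsPGroup.toSylow_coe _ _
  have h2 : IsPGroup 3 (zpowers p) := by
    intro q
    refine ⟨1, Subtype.ext ?_⟩
    obtain ⟨i, hi⟩ := q.2
    show (q : G) ^ (3 ^ 1) = 1
    rw [← hi, pow_one, ← zpow_natCast, ← zpow_mul, mul_comm, zpow_mul, zpow_natCast,
      show p ^ 3 = 1 by rw [pow_succ', pow_two, hp], one_zpow]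
  obtain ⟨Q, hQ⟩ := h2.exists_le_sylow
  obtain ⟨g, hg⟩ := MulAction.exists_smul_eq G Q P
  refine ⟨g, ?_⟩
  rw [← hP, ← hg, Sylow.coe_subgroup_smul]
  exact ⟨p, hQ (mem_zpowers p), rfl⟩

/-- The representatives in `G`. -/
noncomputable def el (a : Fin 4) : H := (S.surj _ (rep_even a)).choose

theorem el_spec (a : Fin 4) : S.φ (S.el a) = rep a := (S.surj _ (rep_even a)).choose_spec

theorem el_mem (a : Fin 4) : (S.el a : G) ∈ T := (S.mem_T_iff _).2 (by rw [S.el_spec]; exact (rep_cube a).1)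

theorem el_ne (a : Fin 4) : (S.el a : G) ≠ 1 := fun h => (rep_cube a).2 (by
  rw [← S.el_spec, show S.el a = 1 from Subtype.ext h, map_one])

theorem isConj_iff_ty (a : Fin 4) (x : H) (hx : (x : G) ∈ T) :
    IsConj (S.el a : G) x ↔ ty (S.φ x) = cls a := by
  constructor
  · intro h
    obtain ⟨g, hg⟩ := isConj_iff.1 h
    have hgH := S.ti (S.el_mem a) (S.el_ne a) (hg ▸ hx)
    rw [show x = ⟨g, hgH⟩ * S.el a * ⟨g, hgH⟩⁻¹ from Subtype.ext hg.symm, map_mul, map_mul, map_inv, ty_conj,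
      S.el_spec, rep_ty]
  · intro h
    obtain ⟨c, hc, hcx⟩ := rep_cover a _ (S.even x) h
    obtain ⟨y, rfl⟩ := S.surj c hc
    rw [← S.el_spec, ← map_inv, ← map_mul, ← map_mul] at hcx
    exact isConj_iff.2 ⟨y, congrArg Subtype.val (S.inj hcx)⟩

theorem card_centralizer (a : Fin 4) : Nat.card (centralizer ({(S.el a : G)} : Set G)) = csize a := by
  rw [← card_cent a, ← S.card_sub (fun k => k * rep a = rep a * k)]
  refine Nat.card_congr
    { toFun := fun c => ⟨⟨c.1, S.hC _ (S.el_mem a) (S.el_ne a) c.2⟩, ?_⟩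
      invFun := fun x => ⟨x.1.1, mem_centralizer_singleton_iff.2 ?_⟩
      left_inv := fun _ => rfl
      right_inv := fun _ => rfl }
  · rw [← S.el_spec, ← map_mul, ← map_mul]
    exact congrArg S.φ (Subtype.ext (mem_centralizer_singleton_iff.1 c.2))
  · have h2 : S.φ x.1 * S.φ (S.el a) = S.φ (S.el a) * S.φ x.1 := by rw [S.el_spec]; exact x.2
    rw [← map_mul, ← map_mul] at h2
    exact congrArg Subtype.val (S.inj h2)

set_option maxHeartbeats 1000000 in
/-- Products of two conjugates lie in `T` when the three classes are not all the same. -/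
theorem triangle {x y : G} (hx : x * (x * x) = 1) (hy : y * (y * y) = 1) {c : G} (hc : c ∈ T) (hc1 : c ≠ 1)
    (hxy : x * y = c) (hne : ¬ IsConj x c) (hne' : ¬ IsConj x c⁻¹) : x ∈ T ∧ y ∈ T := by
  have : Fact (Nat.Prime 3) := ⟨Nat.prime_three⟩
  have hcc := S.cube_of_mem hc
  have x2 : x⁻¹ = x * x := inv_eq_of_mul_eq_one_right hx
  have y2 : y⁻¹ = y * y := inv_eq_of_mul_eq_one_right hy
  obtain ⟨u, hu⟩ : ∃ u, u = x * y⁻¹ := ⟨_, rfl⟩
  obtain ⟨v, hv⟩ : ∃ v, v = y⁻¹ * x := ⟨_, rfl⟩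
  have hxv : x⁻¹ * u * x = v := by rw [hu, hv]; group
  have h3 : x * y * (x * y * (x * y)) = 1 := by rw [hxy]; exact hcc
  have huv : u * v = v * u := by
    rw [hu, hv]
    calc x * y⁻¹ * (y⁻¹ * x) = x * (y * (y * y))⁻¹ * y * x := by group
      _ = x * y * x := by rw [hy, inv_one, mul_one]
      _ = (y * x * y)⁻¹ := eq_inv_of_mul_eq_one_left (by rw [← h3]; group)
      _ = y⁻¹ * x⁻¹ * y⁻¹ := by group
      _ = y⁻¹ * x * (x * y⁻¹) := by rw [x2]; group
  have hxv' : x⁻¹ * v * x = (u * v)⁻¹ := by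
    rw [hu, hv]
    calc x⁻¹ * (y⁻¹ * x) * x = x⁻¹ * y⁻¹ * (x * x) := by group
      _ = x⁻¹ * y⁻¹ * x⁻¹ := by rw [← x2]
      _ = (x * y * x)⁻¹ := by group
      _ = (x * (y * (y * y))⁻¹ * y * x)⁻¹ := by rw [hy, inv_one, mul_one]
      _ = (x * y⁻¹ * (y⁻¹ * x))⁻¹ := by group
  obtain ⟨A, hA⟩ : ∃ A : Subgroup G, A = closure {u, v} := ⟨_, rfl⟩
  have huA : u ∈ A := hA ▸ subset_closure (Set.mem_insert _ _)
  have hvA : v ∈ A := hA ▸ subset_closure (Set.mem_insert_of_mem _ rfl)
  have hab : ∀ a ∈ A, ∀ b ∈ A, a * b = b * a := by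
    have := Subgroup.isMulCommutative_closure (k := ({u, v} : Set G)) (by
      intro a ha b hb
      rcases ha with rfl | rfl <;> rcases hb with rfl | rfl
      exacts [rfl, huv, huv.symm, rfl])
    intro a ha b hb
    rw [hA] at ha hb
    exact congrArg Subtype.val (this.is_comm.comm ⟨a, ha⟩ ⟨b, hb⟩)
  have hxA : ∀ a ∈ A, x⁻¹ * a * x ∈ A := by
    intro a ha
    have hle : A ≤ A.comap (MulAut.conj x⁻¹).toMonoidHom := by
      conv_lhs => rw [hA]
      refine (Subgroup.closure_le _).2 ?_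
      rintro b (rfl | rfl)
      · show x⁻¹ * b * x⁻¹⁻¹ ∈ A
        rw [inv_inv, hxv]; exact hvA
      · show x⁻¹ * b * x⁻¹⁻¹ ∈ A
        rw [inv_inv, hxv']; exact inv_mem (mul_mem huA hvA)
    simpa using hle ha
  have hxA' : ∀ a ∈ A, x * a * x⁻¹ ∈ A := fun a ha => by
    have := hxA _ (hxA a ha)
    convert this using 1
    calc x * a * x⁻¹ = (x * (x * x)) * (x⁻¹ * (x⁻¹ * a * x) * x) * (x * (x * x))⁻¹ := by group
      _ = x⁻¹ * (x⁻¹ * a * x) * x := by rw [hx]; group
  have hyA : y = u⁻¹ * x := by rw [hu]; group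
  by_cases h3A : 3 ∣ Nat.card A
  · obtain ⟨⟨a, haA⟩, ha⟩ := exists_prime_orderOf_dvd_card' 3 h3A
    rw [Subgroup.orderOf_mk] at ha
    obtain ⟨cj, hcj⟩ : ∃ cj : G → G, ∀ b, cj b = x * b * x⁻¹ := ⟨_, fun _ => rfl⟩
    have good : ∃ p ∈ A, p ≠ 1 ∧ p * (p * p) = 1 ∧ x * p = p * x := by
      have cA : ∀ b ∈ A, cj b ∈ A := fun b hb => by rw [hcj]; exact hxA' b hb
      have cfix : ∀ b, cj b = b → x * b = b * x := fun b hb => mul_inv_eq_iff_eq_mul.1 ((hcj b).symm.trans hb)
      have a3 : a * (a * a) = 1 := by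
        have := pow_orderOf_eq_one a
        rwa [ha, pow_succ', pow_two] at this
      have ccube : ∀ b, b * (b * b) = 1 → cj b * (cj b * cj b) = 1 := fun b hb => by
        rw [hcj]
        calc _ = x * (b * (b * b)) * x⁻¹ := by group
          _ = 1 := by rw [hb]; group
      have dcube : ∀ b ∈ A, b * (b * b) = 1 → (b⁻¹ * cj b) * ((b⁻¹ * cj b) * (b⁻¹ * cj b)) = 1 := by
        intro b hb h
        have hc : Commute b⁻¹ (cj b) := hab _ (inv_mem hb) _ (cA b hb)
        rw [← pow_two, ← pow_succ', hc.mul_pow, inv_pow, pow_succ', pow_two, h, pow_succ', pow_two, ccube b h]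
        simp
      by_cases e1 : cj a = a
      · exact ⟨a, haA, fun e => by rw [e, orderOf_one] at ha; omega, a3, cfix a e1⟩
      obtain ⟨a1, ha1⟩ : ∃ a1, a1 = a⁻¹ * cj a := ⟨_, rfl⟩
      have a1A : a1 ∈ A := ha1 ▸ mul_mem (inv_mem haA) (cA a haA)
      have a1ne : a1 ≠ 1 := fun e => e1 (inv_mul_eq_one.1 (ha1 ▸ e)).symm
      by_cases e2 : cj a1 = a1
      · exact ⟨a1, a1A, a1ne, ha1 ▸ dcube a haA a3, cfix a1 e2⟩
      obtain ⟨a2, ha2⟩ : ∃ a2, a2 = a1⁻¹ * cj a1 := ⟨_, rfl⟩
      refine ⟨a2, ha2 ▸ mul_mem (inv_mem a1A) (cA _ a1A), fun e => e2 (inv_mul_eq_one.1 (ha2 ▸ e)).symm,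
        ha2 ▸ dcube a1 a1A (ha1 ▸ dcube a haA a3), cfix a2 ?_⟩
      have hb : cj a ∈ A := cA a haA
      have hc' : cj (cj a) ∈ A := cA _ hb
      have hmul : ∀ s t, cj (s * t) = cj s * cj t := fun s t => by simp only [hcj]; group
      have hinv : ∀ s, cj s⁻¹ = (cj s)⁻¹ := fun s => by simp only [hcj]; group
      have hper : cj (cj (cj a)) = a := by
        simp only [hcj]
        calc _ = (x * (x * x)) * a * (x * (x * x))⁻¹ := by group
          _ = a := by rw [hx]; group
      have key : a2 = a * cj a * cj (cj a) := by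
        have C1 : Commute (cj a) a := hab _ hb _ haA
        have C2 : Commute (cj a)⁻¹ (cj (cj a)) := (show Commute (cj a) (cj (cj a)) from hab _ hb _ hc').inv_left
        rw [ha2, ha1, hmul, hinv]
        calc (a⁻¹ * cj a)⁻¹ * ((cj a)⁻¹ * cj (cj a)) = (cj a)⁻¹ * a * (cj a)⁻¹ * cj (cj a) := by group
          _ = a * ((cj a)⁻¹ * (cj a)⁻¹) * cj (cj a) := by rw [C1.inv_left.eq]; group
          _ = a * cj a * cj (cj a) := by
            rw [show (cj a)⁻¹ * (cj a)⁻¹ = cj a from by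
              rw [← mul_inv_rev]; exact inv_eq_of_mul_eq_one_left (ccube a a3)]
      rw [key, hmul, hmul, hper]
      rw [hab (cj a * cj (cj a)) (mul_mem hb hc') a haA]
      group
    obtain ⟨p, hpA, hp1, hp3, hpx⟩ := good
    obtain ⟨g, hg⟩ := S.exists_conj_mem hp3
    have hpy : y * p = p * y := by
      rw [hyA, mul_assoc, hpx, ← mul_assoc, hab _ (inv_mem huA) _ hpA, mul_assoc]
    have hgp : g * p * g⁻¹ ≠ 1 := fun e => hp1 (conj_eq_one_iff.1 e)
    have inT : ∀ w : G, w * p = p * w → w * (w * w) = 1 → g * w * g⁻¹ ∈ T := by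
      intro w hw hw3
      have hH : g * w * g⁻¹ ∈ H := S.hC _ hg hgp (mem_centralizer_singleton_iff.2 (by
        calc g * w * g⁻¹ * (g * p * g⁻¹) = g * (w * p) * g⁻¹ := by group
          _ = g * p * g⁻¹ * (g * w * g⁻¹) := by rw [hw]; group))
      refine (S.mem_T_iff ⟨_, hH⟩).2 ?_
      rw [← map_mul, ← map_mul, ← map_one S.φ]
      exact congrArg S.φ (Subtype.ext (by
        show g * w * g⁻¹ * (g * w * g⁻¹ * (g * w * g⁻¹)) = 1
        calc _ = g * (w * (w * w)) * g⁻¹ := by group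
          _ = 1 := by rw [hw3]; group))
    have hx' := inT x hpx hx
    have hy' := inT y hpy hy
    have hgH : g ∈ H := S.ti hc hc1 (by
      rw [show g * c * g⁻¹ = (g * x * g⁻¹) * (g * y * g⁻¹) by rw [← hxy]; group]
      exact mul_mem hx' hy')
    have hn : g ∈ normalizer (T : Set G) := S.hN.symm ▸ hgH
    exact ⟨(mem_normalizer_iff.1 hn x).2 hx', (mem_normalizer_iff.1 hn y).2 hy'⟩
  · exfalso
    obtain ⟨K, hK⟩ : ∃ K : Subgroup G, K = A ⊔ zpowers x := ⟨_, rfl⟩
    have hxn : zpowers x ≤ normalizer (A : Set G) := zpowers_le.2 (mem_normalizer_iff.2 fun a =>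
      ⟨fun ha => hxA' a ha, fun ha => by simpa [mul_assoc] using hxA _ ha⟩)
    have hxo : orderOf x = 3 := orderOf_eq_prime (by rw [pow_succ', pow_two, hx]) (fun e => by
      refine hne (isConj_iff.2 ⟨1, ?_⟩)
      -- `x = 1` makes `c = y` and `y⁻¹` share a coset
      exfalso
      have : u = y⁻¹ := by rw [hu, e, one_mul]
      refine h3A ?_
      have ho : orderOf y = 3 := orderOf_eq_prime (by rw [pow_succ', pow_two, hy]) (fun e' => hc1 (by
        rw [← hxy, e, e', one_mul]))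
      rw [← ho, ← orderOf_inv y, ← this, ← Subgroup.orderOf_mk u huA]
      exact orderOf_dvd_natCard _)
    have hco : (Nat.card A).Coprime 3 := (Nat.Coprime.symm ((Nat.prime_three.coprime_iff_not_dvd).2 h3A))
    have hKcard : Nat.card K = Nat.card A * 3 := by
      refine le_antisymm ?_ (Nat.le_of_dvd Nat.card_pos ?_)
      · rw [← hxo, ← Nat.card_zpowers]
        calc Nat.card K = Nat.card ((A : Set G) * (zpowers x : Set G) : Set G) := by
              rw [hK]
              exact Nat.card_congr (Equiv.setCongr (Subgroup.coe_mul_of_right_le_normalizer_left A _ hxn))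
          _ ≤ _ := Set.natCard_mul_le
      · refine hco.mul_dvd_of_dvd_of_dvd (Subgroup.card_dvd_of_le (hK ▸ le_sup_left)) ?_
        rw [← hxo, ← Subgroup.orderOf_mk x (show x ∈ K from hK ▸ Subgroup.mem_sup_right (mem_zpowers x))]
        exact orderOf_dvd_natCard _
    have hmK : ∀ w ∈ K, w * (w * w) = 1 → w ≠ 1 → ∃ hw : w ∈ K, ¬ 3 ∣ (zpowers (⟨w, hw⟩ : K)).index := by
      intro w hw h3 h1
      refine ⟨hw, fun hd => h3A ?_⟩
      have h := (zpowers (⟨w, hw⟩ : K)).card_mul_index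
      rw [Nat.card_zpowers, Subgroup.orderOf_mk, orderOf_eq_prime (by rw [pow_succ', pow_two, h3]) h1, hKcard] at h
      rwa [show (zpowers (⟨w, hw⟩ : K)).index = Nat.card A by omega] at hd
    have hxK : x ∈ K := hK ▸ Subgroup.mem_sup_right (mem_zpowers x)
    have hcK : c ∈ K := by
      rw [← hxy]
      exact mul_mem hxK (by rw [hyA]; exact mul_mem (inv_mem (hK ▸ Subgroup.mem_sup_left huA)) hxK)
    obtain ⟨_, i1⟩ := hmK x hxK hx (fun e => by rw [e, orderOf_one] at hxo; omega)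
    obtain ⟨_, i2⟩ := hmK c hcK hcc hc1
    have pg : ∀ w : K, (w : G) * (w * w) = 1 → IsPGroup 3 (zpowers w) := by
      intro w hw q
      refine ⟨1, Subtype.ext ?_⟩
      obtain ⟨i, hi⟩ := q.2
      show (q : K) ^ (3 ^ 1) = 1
      rw [← hi, pow_one, ← zpow_natCast, ← zpow_mul, mul_comm, zpow_mul, zpow_natCast,
        show w ^ 3 = 1 from Subtype.ext (by push_cast; rw [pow_succ', pow_two, hw]), one_zpow]
    let P₁ : Sylow 3 K := (pg ⟨x, hxK⟩ hx).toSylow i1
    let P₂ : Sylow 3 K := (pg ⟨c, hcK⟩ hcc).toSylow i2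
    obtain ⟨k, hk⟩ := MulAction.exists_smul_eq K P₁ P₂
    have hm : MulAut.conj k ⟨x, hxK⟩ ∈ zpowers (⟨c, hcK⟩ : K) := by
      rw [← IsPGroup.toSylow_coe (pg ⟨c, hcK⟩ hcc) i2, show (pg ⟨c, hcK⟩ hcc).toSylow i2 = P₂ from rfl, ← hk,
        Sylow.coe_subgroup_smul]
      exact ⟨⟨x, hxK⟩, by rw [IsPGroup.toSylow_coe]; exact mem_zpowers _, rfl⟩
    obtain ⟨i, hi⟩ := hm
    have hi' : c ^ i = (k : G) * x * (k : G)⁻¹ := by simpa using congrArg Subtype.val hi
    have hc3 : c ^ (3 : ℤ) = 1 := by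
      rw [show (3 : ℤ) = ((3 : ℕ) : ℤ) from rfl, zpow_natCast, pow_succ', pow_two, hcc]
    rw [← Int.emod_add_mul_ediv i 3, zpow_add, zpow_mul, hc3, one_zpow, mul_one] at hi'
    rcases (show i % 3 = 0 ∨ i % 3 = 1 ∨ i % 3 = 2 by omega) with e | e | e <;> rw [e] at hi'
    · rw [zpow_zero] at hi'
      rw [conj_eq_one_iff.1 hi'.symm, orderOf_one] at hxo
      omega
    · rw [zpow_one] at hi'
      exact hne (isConj_iff.2 ⟨k, hi'.symm⟩)
    · refine hne' (isConj_iff.2 ⟨k, ?_⟩)
      rw [← hi', show (2 : ℤ) = ((2 : ℕ) : ℤ) from rfl, zpow_natCast, pow_two]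
      exact (inv_eq_of_mul_eq_one_right hcc).symm

theorem pairs (a b c : Fin 4) (hac : cls a ≠ cls c) :
    Nat.card {p : G × G // IsConj (S.el a : G) p.1 ∧ IsConj (S.el b : G) p.2 ∧ p.1 * p.2 = (S.el c : G)} =
      cnt a b c := by
  unfold cnt
  rw [← S.card_sub (fun k => k * (k * k) = 1 ∧ ty k = cls a ∧ ty (k⁻¹ * rep c) = cls b)]
  have hcube : ∀ d {w : G}, IsConj (S.el d : G) w → w * (w * w) = 1 := by
    intro d w hw
    obtain ⟨g, rfl⟩ := isConj_iff.1 hw
    calc _ = g * ((S.el d : G) * ((S.el d : G) * (S.el d : G))) * g⁻¹ := by group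
      _ = 1 := by rw [S.cube_of_mem (S.el_mem d)]; group
  have hmem : ∀ p : {p : G × G // IsConj (S.el a : G) p.1 ∧ IsConj (S.el b : G) p.2 ∧ p.1 * p.2 = (S.el c : G)},
      p.1.1 ∈ T ∧ p.1.2 ∈ T := fun p =>
    S.triangle (hcube a p.2.1) (hcube b p.2.2.1) (S.el_mem c) (S.el_ne c) p.2.2.2
      (fun h => hac (by
        have := (S.isConj_iff_ty a (S.el c) (S.el_mem c)).1 (p.2.1.trans h)
        rwa [S.el_spec, rep_ty, eq_comm] at this))
      (fun h => hac (by
        have hm : ((S.el c)⁻¹ : H).1 ∈ T := inv_mem (S.el_mem c)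
        have := (S.isConj_iff_ty a (S.el c)⁻¹ hm).1 (p.2.1.trans h)
        rwa [map_inv, ty_inv, S.el_spec, rep_ty, eq_comm] at this))
  refine Nat.card_congr
    { toFun := fun p => ⟨⟨p.1.1, S.le (hmem p).1⟩, (S.mem_T_iff _).1 (hmem p).1,
        (S.isConj_iff_ty a ⟨_, S.le (hmem p).1⟩ (hmem p).1).1 p.2.1, ?_⟩
      invFun := fun k => ⟨(k.1.1, (k.1.1)⁻¹ * (S.el c : G)), ?_, ?_, mul_inv_cancel_left _ _⟩
      left_inv := fun p => Subtype.ext (Prod.ext rfl (by
        show (p.1.1)⁻¹ * (S.el c : G) = p.1.2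
        exact inv_mul_eq_iff_eq_mul.2 p.2.2.2.symm))
      right_inv := fun k => rfl }
  · rw [← S.el_spec, ← map_inv, ← map_mul]
    rw [show (⟨p.1.1, S.le (hmem p).1⟩ : H)⁻¹ * S.el c = ⟨p.1.2, S.le (hmem p).2⟩ from Subtype.ext (by
      show (p.1.1)⁻¹ * (S.el c : G) = p.1.2
      exact inv_mul_eq_iff_eq_mul.2 p.2.2.2.symm)]
    exact (S.isConj_iff_ty b ⟨_, S.le (hmem p).2⟩ (hmem p).2).1 p.2.2.1
  · exact (S.isConj_iff_ty a k.1 ((S.mem_T_iff _).2 k.2.1)).2 k.2.2.1
  · have hk : ty ((S.φ k.1)⁻¹ * S.φ (S.el c)) = cls b := by rw [S.el_spec]; exact k.2.2.2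
    rw [← map_inv, ← map_mul] at hk
    exact (S.isConj_iff_ty b (k.1⁻¹ * S.el c) (mul_mem (inv_mem ((S.mem_T_iff _).2 k.2.1)) (S.el_mem c))).2 hk

/-! ### The characters -/

/-- The pull back of a function of the shape. -/
def pull (f : Fin 3 × Fin 3 × Fin 3 → ℤ) : ↥H → ℂ := fun x => (f (ty (S.φ x)) : ℂ)

theorem gen_tens {f g h : Fin 3 → ℤ} (hf : Cfsg.IsGeneralizedCharacter S3 (fun s => (f (shape s) : ℂ)))
    (hg : Cfsg.IsGeneralizedCharacter S3 (fun s => (g (shape s) : ℂ)))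
    (hh : Cfsg.IsGeneralizedCharacter S3 (fun s => (h (shape s) : ℂ))) :
    Cfsg.IsGeneralizedCharacter H (S.pull (tens f g h)) := by
  have := IsGeneralizedCharacter.mul
    (IsGeneralizedCharacter.mul (IsGeneralizedCharacter.comp_hom hf ((MonoidHom.fst S3 (S3 × S3)).comp S.φ))
      (IsGeneralizedCharacter.comp_hom hg
        ((MonoidHom.fst S3 S3).comp ((MonoidHom.snd S3 (S3 × S3)).comp S.φ))))
    (IsGeneralizedCharacter.comp_hom hh ((MonoidHom.snd S3 S3).comp ((MonoidHom.snd S3 (S3 × S3)).comp S.φ)))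
  refine (congrArg (Cfsg.IsGeneralizedCharacter H) ?_).mp this
  funext x
  simp [pull, tens, ty, Pi.mul_apply]

theorem pull_add (f g : Fin 3 × Fin 3 × Fin 3 → ℤ) : S.pull (f + g) = S.pull f + S.pull g := by
  funext x; simp [pull]

theorem pull_sub (f g : Fin 3 × Fin 3 × Fin 3 → ℤ) : S.pull (f - g) = S.pull f - S.pull g := by
  funext x; simp [pull]

theorem gen_vfun (i : Fin 10) : Cfsg.IsGeneralizedCharacter H (S.pull (vfun i)) := by
  obtain ⟨h1, hs, hp⟩ := gen_shape
  fin_cases i <;> simp only [vfun, Matrix.cons_val_zero, Matrix.cons_val_one, Matrix.cons_val, Fin.reduceFinMk] <;>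
    simp only [pull_add, pull_sub] <;>
    repeat (first
      | exact gen_tens S h1 h1 h1 | exact gen_tens S hs h1 h1 | exact gen_tens S h1 hs h1 | exact gen_tens S h1 h1 hs
      | exact gen_tens S hp h1 h1 | exact gen_tens S h1 hp h1 | exact gen_tens S h1 h1 hp | exact gen_tens S hp hs h1
      | exact gen_tens S hs hp h1 | exact gen_tens S hs h1 hp | exact gen_tens S hp h1 hp | exact gen_tens S h1 hp hp
      | exact gen_tens S hp hp h1 | exact gen_tens S hp hp hp
      | refine IsGeneralizedCharacter.sub ?_ ?_ | refine IsGeneralizedCharacter.add ?_ ?_)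

/-- A special function is supported away from the elements of order at most two. -/
theorem pull_eq_zero (i : Fin 10) {x : H} (hx : x * x = 1) : S.pull (vfun i) x = 0 := by
  have := vfun_bad i (S.φ x) (S.even x) (by rw [← map_mul, hx, map_one])
  simp [pull, this]

theorem sq_mem (x : H) : ((x * x : H) : G) ∈ T := (S.mem_T_iff _).2 (by
  rw [map_mul]
  have hs : ∀ s : S3, s * s * (s * s * (s * s)) = 1 := by decide +kernel
  exact Prod.ext (hs _) (Prod.ext (hs _) (hs _)))

/-- Induction does not change a special function on its support. -/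
theorem ind_apply [Fintype G] (i : Fin 10) {x : H} (hx : x * x ≠ 1) :
    Cfsg.indFun H (S.pull (vfun i)) x = S.pull (vfun i) x := by
  classical
  have hcl := isClassFunction_generalized (S.gen_vfun i)
  have hsupp : ∀ g : G, Cfsg.extendByZero H (S.pull (vfun i)) (g⁻¹ * x * g) =
      if g ∈ H then S.pull (vfun i) x else 0 := by
    intro g
    split_ifs with hg
    · rw [extendByZero_mem _ (H.mul_mem (H.mul_mem (H.inv_mem hg) x.2) hg)]
      have := hcl x (⟨g, hg⟩ : H)⁻¹
      rw [inv_inv] at this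
      exact this
    · by_cases hm : g⁻¹ * x * g ∈ H
      · rw [extendByZero_mem _ hm]
        by_contra hne
        have hsq : (⟨g⁻¹ * x * g, hm⟩ : H) * ⟨g⁻¹ * x * g, hm⟩ ≠ 1 := fun e => hne (S.pull_eq_zero i e)
        refine hg (inv_mem_iff.1 (S.ti (S.sq_mem x) (fun e => hx (Subtype.ext e)) ?_))
        have := S.sq_mem ⟨g⁻¹ * x * g, hm⟩
        convert this using 1
        show g⁻¹ * ((x : G) * x) * g⁻¹⁻¹ = g⁻¹ * x * g * (g⁻¹ * x * g)
        group
      · exact extendByZero_not_mem _ hm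
  rw [indFun_apply, Finset.sum_congr rfl fun g _ => hsupp g, Finset.sum_ite, Finset.sum_const_zero, add_zero,
    Finset.sum_const, nsmul_eq_mul, ← Fintype.card_subtype, ← Nat.card_eq_fintype_card, ← mul_assoc,
    show Nat.card {g : G // g ∈ H} = Nat.card H from rfl,
    inv_mul_cancel₀ (Nat.cast_ne_zero.2 Nat.card_pos.ne'), one_mul]

theorem inner_pull [Fintype H] (f g : Fin 3 × Fin 3 × Fin 3 → ℤ) :
    Cfsg.classInner (S.pull f) (S.pull g) = ((∑ t, (wtv t : ℤ) * (f t * g t) : ℤ) : ℂ) / 108 := by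
  classical
  rw [classInner_def, S.cardH, inv_mul_eq_div, ← Finset.sum_fiberwise Finset.univ (fun x : H => ty (S.φ x))]
  congr 1
  push_cast
  refine Finset.sum_congr rfl fun t _ => ?_
  rw [Finset.sum_congr rfl (g := fun _ => (f t : ℂ) * g t) fun x hx => by
    rw [Finset.mem_filter] at hx
    simp [pull, hx.2], Finset.sum_const, nsmul_eq_mul]
  congr 2
  rw [← wt_eq, wt, ← S.card_sub (fun k => ty k = t), Nat.card_eq_fintype_card, Fintype.card_subtype]

/-- The multiplicities. -/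
theorem exists_mults [Fintype G] : ∃ n : Fin 10 → Cfsg.IrrCharacter G → ℤ,
    (∀ (i : Fin 10) (χ : Cfsg.IrrCharacter G), Cfsg.classInner (Cfsg.indFun H (S.pull (vfun i))) (χ : G → ℂ) = (n i χ : ℂ)) ∧
    Vecs n (fun χ => (deg (χ : G → ℂ) : ℤ)) ⟨_, isIrrCharacter_one⟩ := by
  classical
  have := Fintype.ofFinite H
  have hgen : ∀ i, Cfsg.IsGeneralizedCharacter G (Cfsg.indFun H (S.pull (vfun i))) :=
    fun i => IsGeneralizedCharacter.indFun (S.gen_vfun i)
  choose n hn using fun (i : Fin 10) (χ : Cfsg.IrrCharacter G) => IsGeneralizedCharacter.exists_mult (hgen i) χ.2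
  refine ⟨n, hn, ⟨fun i j => ?_, fun i => ?_, fun i => ?_, fun χ => Int.natCast_pos.2 (deg_irr_pos χ), ?_⟩⟩
  · apply Int.cast_injective (α := ℂ)
    have hj := classFunction_expand (isClassFunction_indFun H (S.pull (vfun j)))
    have e1 : Cfsg.classInner (Cfsg.indFun H (S.pull (vfun i))) (Cfsg.indFun H (S.pull (vfun j))) =
        ((∑ χ, n i χ * n j χ : ℤ) : ℂ) := by
      conv_lhs => rw [hj]
      rw [classInner_sum_right]
      push_cast
      refine Finset.sum_congr rfl fun χ _ => ?_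
      rw [classInner_smul_right, hn, hn, mul_comm]
      simp
    rw [← e1, frobenius_reciprocity _ _ (isClassFunction_indFun _ _),
      show Cfsg.classInner (S.pull (vfun i)) (fun h : H => Cfsg.indFun H (S.pull (vfun j)) h) =
        Cfsg.classInner (S.pull (vfun i)) (S.pull (vfun j)) from ?_, S.inner_pull, gram_sum]
    · push_cast; ring
    · rw [classInner_def, classInner_def]
      refine congrArg _ (Finset.sum_congr rfl fun x _ => ?_)
      by_cases hx : x * x = 1
      · rw [S.pull_eq_zero i hx, zero_mul, zero_mul]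
      · rw [S.ind_apply j hx]
  · apply Int.cast_injective (α := ℂ)
    rw [← hn, frobenius_reciprocity _ _ (isClassFunction_irr _)]
    have e : (fun h : H => ((⟨_, isIrrCharacter_one⟩ : Cfsg.IrrCharacter G) : G → ℂ) h) = S.pull (fun _ => 1) := by
      funext h; simp [pull]
    rw [e, S.inner_pull]
    simp only [mul_one]
    rw [prin_sum]
    push_cast; ring
  · apply Int.cast_injective (α := ℂ)
    push_cast
    have := classFunction_expand_apply (isClassFunction_indFun H (S.pull (vfun i))) 1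
    rw [indFun_one, S.pull_eq_zero i (one_mul 1), mul_zero] at this
    rw [this]
    exact Finset.sum_congr rfl fun χ _ => by rw [hn, irr_apply_one_eq_deg]
  · have := irr_apply_one_eq_deg (⟨_, isIrrCharacter_one⟩ : Cfsg.IrrCharacter G)
    have h1 : (deg ((⟨_, isIrrCharacter_one⟩ : Cfsg.IrrCharacter G) : G → ℂ) : ℂ) = 1 := this.symm.trans rfl
    exact_mod_cast h1

theorem value [Fintype G] {n : Fin 10 → Cfsg.IrrCharacter G → ℤ}
    (hn : ∀ (i : Fin 10) (χ : Cfsg.IrrCharacter G), Cfsg.classInner (Cfsg.indFun H (S.pull (vfun i))) (χ : G → ℂ) = (n i χ : ℂ))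
    (χ : Cfsg.IrrCharacter G) (a : Fin 4) : (χ : G → ℂ) (S.el a : G) = (val n a χ : ℂ) := by
  classical
  have := Fintype.ofFinite H
  have hcl := isClassFunction_irr χ
  have h : ((val n a χ : ℤ) : ℂ) = (108 : ℂ)⁻¹ *
      ∑ x : H, ((∑ i, coef a i * vfun i (ty (S.φ x)) : ℤ) : ℂ) * conj ((χ : G → ℂ) x) := by
    simp only [val, Int.cast_sum, Int.cast_mul, Finset.sum_mul, Finset.mul_sum]
    rw [Finset.sum_comm]
    refine Finset.sum_congr rfl fun i _ => ?_
    rw [← hn, frobenius_reciprocity _ _ hcl, classInner_def, S.cardH, Finset.mul_sum, Finset.mul_sum]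
    refine Finset.sum_congr rfl fun x _ => ?_
    show _ = _
    simp only [pull]
    push_cast
    ring
  have h2 : ∀ x : H, ((∑ i, coef a i * vfun i (ty (S.φ x)) : ℤ) : ℂ) * conj ((χ : G → ℂ) x) =
      if ty (S.φ x) = cls a then (csize a : ℂ) * conj ((χ : G → ℂ) (S.el a : G)) else 0 := by
    intro x
    rw [indicator a _ (S.even x)]
    split_ifs with he
    · obtain ⟨c, hc, hcx⟩ := rep_cover a _ (S.even x) he
      obtain ⟨y, rfl⟩ := S.surj c hc
      rw [← S.el_spec, ← map_inv, ← map_mul, ← map_mul] at hcx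
      rw [← S.inj hcx]
      push_cast
      rw [hcl (S.el a : G) (y : G)]
    · simp
  rw [Finset.sum_congr rfl fun x _ => h2 x, Finset.sum_ite, Finset.sum_const_zero, add_zero, Finset.sum_const,
    nsmul_eq_mul, ← Fintype.card_subtype, ← Nat.card_eq_fintype_card, S.card_sub (fun k => ty k = cls a)] at h
  have hc : ((Finset.univ.filter fun k : Amb => Even3 k ∧ ty k = cls a).card : ℂ) * (csize a : ℂ) = 108 := by
    exact_mod_cast card_cls a
  rw [← mul_assoc ((Finset.card _ : ℕ) : ℂ), hc, inv_mul_cancel_left₀ (by norm_num)] at h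
  rw [← Complex.conj_conj ((χ : G → ℂ) (S.el a : G)), ← h, map_intCast]

theorem main : H = ⊤ := by
  classical
  have := Fintype.ofFinite G
  obtain ⟨n, hn, hv⟩ := S.exists_mults
  have eqn : ∀ a b c : Fin 4, cls a ≠ cls c →
      (cnt a b c : ℂ) * ((csize a : ℂ) * csize b) = (Nat.card G : ℂ) *
        msum n (fun χ : Cfsg.IrrCharacter G => (deg (χ : G → ℂ) : ℤ)) a b c := by
    intro a b c hac
    have h := class_mult_formula (G := G) (S.el a : G) (S.el b : G) (S.el c : G)
    rw [S.pairs a b c hac] at h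
    have hcard : ∀ a, (Nat.card {x : G // IsConj (S.el a : G) x} : ℂ) * (csize a : ℂ) = (Nat.card G : ℂ) := by
      intro a
      rw [← S.card_centralizer a]
      exact_mod_cast card_isConj_mul (S.el a : G)
    have hs : ∀ χ : Cfsg.IrrCharacter G, (χ : G → ℂ) (S.el a : G) * (χ : G → ℂ) (S.el b : G) *
        conj ((χ : G → ℂ) (S.el c : G)) / (χ : G → ℂ) 1 =
        (val n a χ : ℂ) * val n b χ * val n c χ / (((deg (χ : G → ℂ) : ℤ)) : ℂ) := by
      intro χ
      rw [S.value hn, S.value hn, S.value hn, map_intCast, irr_apply_one_eq_deg]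
      push_cast
      rfl
    rw [Finset.sum_congr rfl fun χ _ => hs χ] at h
    change (cnt a b c : ℂ) = _ * msum n _ a b c at h
    rw [h]
    have hG0 : (Nat.card G : ℂ) ≠ 0 := Nat.cast_ne_zero.2 Nat.card_pos.ne'
    generalize msum n _ a b c = M
    calc _ = ((Nat.card {x : G // IsConj (S.el a : G) x} : ℂ) * (csize a : ℂ)) *
          ((Nat.card {x : G // IsConj (S.el b : G) x} : ℂ) * (csize b : ℂ)) / (Nat.card G : ℂ) * M := by ring
      _ = _ := by rw [hcard, hcard, mul_div_assoc, div_self hG0, mul_one]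
  obtain ⟨z1, z2, z3, z4, z5⟩ := cnt_vals
  have hG0 : (Nat.card G : ℂ) ≠ 0 := Nat.cast_ne_zero.2 Nat.card_pos.ne'
  have zero : ∀ a b c, cls a ≠ cls c → cnt a b c = 0 →
      msum n (fun χ : Cfsg.IrrCharacter G => (deg (χ : G → ℂ) : ℤ)) a b c = 0 := fun a b c h h0 => by
    have := eqn a b c h
    rw [h0, Nat.cast_zero, zero_mul] at this
    exact (mul_eq_zero.1 this.symm).resolve_left hG0
  have h27 := msum_27 hv (zero 0 0 2 (by decide) z1) (zero 0 0 1 (by decide) z2) (zero 1 1 0 (by decide) z3)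
    (zero 0 1 2 (by decide) z4)
  have h := eqn 0 1 3 (by decide)
  rw [h27, z5] at h
  norm_num [csize] at h
  have hG : Nat.card G = 108 := by
    have : (Nat.card G : ℂ) = 108 := by
      rw [Nat.card_eq_fintype_card]; linear_combination (-1 / 27 : ℂ) * h
    exact_mod_cast this
  exact Subgroup.eq_top_of_card_eq H (S.cardH.trans hG.symm)

end Setup

end Cfsg.Lib.EvenTriple
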