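import Mathlib

/-!
The integral vectors attached to the ten special class functions of the even part of `S₃ × S₃ × S₃`.
-/

set_option autoImplicit false
set_option linter.unusedSectionVars false

namespace Cfsg.Lib.EvenTriple

/-- The scalar products of the ten special functions. -/
def gram : Fin 10 → Fin 10 → ℤ :=
  ![![3, 1, 1, 0, 1, 1, 0, 0, 2, 0],
    ![1, 3, 1, 1, 0, 1, 0, 0, 2, 0],
    ![1, 1, 3, 1, 1, 0, 0, 0, 2, 0],
    ![0, 1, 1, 3, 1, 1, 0, 0, 2, 0],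
    ![1, 0, 1, 1, 3, 1, 0, 0, 2, 0],
    ![1, 1, 0, 1, 1, 3, 0, 0, 2, 0],
    ![0, 0, 0, 0, 0, 0, 2, 1, 1, 2],
    ![0, 0, 0, 0, 0, 0, 1, 2, 1, 2],
    ![2, 2, 2, 2, 2, 2, 1, 1, 5, 2],
    ![0, 0, 0, 0, 0, 0, 2, 2, 2, 6]]

/-- The multiplicities of the principal character. -/
def prin : Fin 10 → ℤ := ![1, 1, 1, 0, 0, 0, 0, 0, 1, 0]

/-- The coefficients of the indicator functions of the classes `a₁`, `a₂`, `a₃`, `a₁a₂`. -/
def coef : Fin 4 → Fin 10 → ℤ :=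
  ![![1, -2, -2, 1, -2, -2, -2, -2, 4, -2],
    ![-2, 1, -2, -2, 1, -2, 4, -2, 4, -2],
    ![-2, -2, 1, -2, -2, 1, -2, 4, 4, -2],
    ![1, 1, -2, 1, 1, -2, -2, 1, 1, 1]]

variable {ι : Type*} [Fintype ι] [DecidableEq ι]

theorem two_units {f : ι → ℤ} (h : ∑ i, f i * f i = 2) :
    ∃ a b, a ≠ b ∧ (f a = 1 ∨ f a = -1) ∧ (f b = 1 ∨ f b = -1) ∧ ∀ i, i ≠ a → i ≠ b → f i = 0 := by
  have hle : ∀ i, f i * f i ≤ 2 := fun i =>
    h ▸ Finset.single_le_sum (f := fun i => f i * f i) (fun j _ => mul_self_nonneg _) (Finset.mem_univ i)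
  have hunit : ∀ i, f i = 0 ∨ f i = 1 ∨ f i = -1 := fun i => by
    have h1 : f i < 2 := by nlinarith [hle i]
    have h2 : -2 < f i := by nlinarith [hle i]
    omega
  have hsq : ∀ i, f i ≠ 0 → f i * f i = 1 := fun i hi => by
    rcases hunit i with e | e | e
    · exact absurd e hi
    · rw [e]; rfl
    · rw [e]; rfl
  have hT : (Finset.univ.filter fun i => f i ≠ 0).card = 2 := by
    have h' := h
    rw [← Finset.sum_filter_of_ne (p := fun i => f i ≠ 0) (fun i _ hi e => hi (by rw [e, mul_zero])),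
      Finset.sum_congr rfl (fun i hi => hsq i (Finset.mem_filter.1 hi).2), Finset.sum_const] at h'
    simp only [nsmul_eq_mul, mul_one] at h'
    exact_mod_cast h'
  obtain ⟨a, b, hab, hE⟩ := Finset.card_eq_two.1 hT
  refine ⟨a, b, hab, (hunit a).resolve_left ?_, (hunit b).resolve_left ?_, fun i h1 h2 => ?_⟩
  · exact (Finset.mem_filter.1 (hE ▸ Finset.mem_insert_self a {b} : a ∈ Finset.univ.filter fun i => f i ≠ 0)).2
  · exact (Finset.mem_filter.1 (hE ▸ by simp : b ∈ Finset.univ.filter fun i => f i ≠ 0)).2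
  · by_contra hne
    have : i ∈ ({a, b} : Finset ι) := hE ▸ Finset.mem_filter.2 ⟨Finset.mem_univ _, hne⟩
    simp only [Finset.mem_insert, Finset.mem_singleton] at this
    tauto

theorem sum_le {f : ι → ℤ} {N : ℤ} (h : ∑ i, f i * f i = N) (l : List ι) (hl : l.Nodup) :
    (l.map fun i => f i * f i).sum ≤ N := by
  rw [← h, ← List.sum_toFinset _ hl]
  exact Finset.sum_le_sum_of_subset_of_nonneg (Finset.subset_univ _) fun i _ _ => mul_self_nonneg _

theorem sum_two {f : ι → ℤ} {a b : ι} (hab : a ≠ b) (h0 : ∀ i, i ≠ a → i ≠ b → f i = 0) (g : ι → ℤ) :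
    ∑ i, f i * g i = f a * g a + f b * g b := by
  refine Finset.sum_eq_add a b hab (fun i _ hi => ?_) (fun h => absurd (Finset.mem_univ _) h)
    (fun h => absurd (Finset.mem_univ _) h)
  rw [h0 i hi.1 hi.2, zero_mul]

/-- The vectors. -/
structure Vecs (n : Fin 10 → ι → ℤ) (d : ι → ℤ) (o : ι) : Prop where
  hgram : ∀ i j, ∑ x, n i x * n j x = gram i j
  hprin : ∀ i, n i o = prin i
  hdeg : ∀ i, ∑ x, n i x * d x = 0
  hpos : ∀ x, 0 < d x
  hone : d o = 1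

/-- The decomposition: signed irreducibles `o, l k, p k, q k, m k`. -/
structure Decomp (n : Fin 10 → ι → ℤ) (d : ι → ℤ) (o : ι) where
  l : Fin 3 → ι
  p : Fin 3 → ι
  q : Fin 3 → ι
  m : Fin 3 → ι
  s : Fin 3 → ℤ
  t : Fin 3 → ℤ
  u : Fin 3 → ℤ
  e : ℤ
  hs : ∀ k, s k * s k = 1
  ht : ∀ k, t k * t k = 1
  hu : ∀ k, u k * u k = 1
  he : e * e = 1
  nd : [o, l 0, l 1, l 2, p 0, p 1, p 2, q 0, q 1, q 2, m 0, m 1, m 2].Nodup
  val_o : ∀ i, n i o = prin i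
  val_l : ∀ i, n i (l 0) = s 0 * ![1, 0, 0, 0, 1, 1, 0, 0, 1, 0] i ∧
    n i (l 1) = s 1 * ![0, 1, 0, 1, 0, 1, 0, 0, 1, 0] i ∧ n i (l 2) = s 2 * ![0, 0, 1, 1, 1, 0, 0, 0, 1, 0] i
  val_p : ∀ i, n i (p 0) = t 0 * ![-1, 0, 0, 0, 0, 0, 0, 0, 0, 0] i ∧
    n i (p 1) = t 1 * ![0, -1, 0, 0, 0, 0, 0, 0, 0, 0] i ∧ n i (p 2) = t 2 * ![0, 0, -1, 0, 0, 0, 0, 0, 0, 0] i
  val_q : ∀ i, n i (q 0) = u 0 * ![0, 0, 0, -1, 0, 0, 0, 0, 0, 0] i ∧
    n i (q 1) = u 1 * ![0, 0, 0, 0, -1, 0, 0, 0, 0, 0] i ∧ n i (q 2) = u 2 * ![0, 0, 0, 0, 0, -1, 0, 0, 0, 0] i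
  val_m : ∀ i, n i (m 0) = e * ![0, 0, 0, 0, 0, 0, -1, -1, -1, -2] i ∧
    n i (m 1) = e * ![0, 0, 0, 0, 0, 0, 1, 0, 0, 0] i ∧ n i (m 2) = e * ![0, 0, 0, 0, 0, 0, 0, 1, 0, 0] i
  rest : ∀ i : Fin 10, i ≠ 9 → ∀ x, x ∉ [o, l 0, l 1, l 2, p 0, p 1, p 2, q 0, q 1, q 2, m 0, m 1, m 2] →
    n i x = 0
  deg_gamma : ∀ k, 1 + s k * d (l k) = t k * d (p k)
  deg_gamma' : u 0 * d (q 0) = s 1 * d (l 1) + s 2 * d (l 2) ∧ u 1 * d (q 1) = s 0 * d (l 0) + s 2 * d (l 2) ∧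
    u 2 * d (q 2) = s 0 * d (l 0) + s 1 * d (l 1)
  deg_omega : e * d (m 0) = 1 + s 0 * d (l 0) + s 1 * d (l 1) + s 2 * d (l 2)
  deg_m : d (m 1) = d (m 0) ∧ d (m 2) = d (m 0)

variable {n : Fin 10 → ι → ℤ} {d : ι → ℤ} {o : ι}

/-- The two norm two differences share a member. -/
theorem exists_star3 (h : Vecs n d o) : ∃ (e : ℤ) (m0 m1 m2 : ι), e * e = 1 ∧
    [o, m0, m1, m2].Nodup ∧ d m1 = d m0 ∧ d m2 = d m0 ∧
    (n 6 m0 = -e ∧ n 6 m1 = e ∧ ∀ x, x ≠ m0 → x ≠ m1 → n 6 x = 0) ∧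
    (n 7 m0 = -e ∧ n 7 m2 = e ∧ ∀ x, x ≠ m0 → x ≠ m2 → n 7 x = 0) := by
  have g66 : ∑ x, n 6 x * n 6 x = 2 := h.hgram 6 6
  have g77 : ∑ x, n 7 x * n 7 x = 2 := h.hgram 7 7
  have g67 : ∑ x, n 6 x * n 7 x = 1 := h.hgram 6 7
  have op : ∀ {i : Fin 10} {a b : ι}, a ≠ b → (n i a = 1 ∨ n i a = -1) → (n i b = 1 ∨ n i b = -1) →
      (∀ x, x ≠ a → x ≠ b → n i x = 0) → n i b = -n i a ∧ d b = d a := by
    intro i a b hab ha hb h0
    have hd := h.hdeg i
    rw [sum_two hab h0] at hd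
    have := h.hpos a
    have := h.hpos b
    rcases ha with e | e <;> rcases hb with e' | e' <;> rw [e, e'] at hd ⊢ <;> refine ⟨?_, ?_⟩ <;> omega
  obtain ⟨a, b, hab, ha, hb, h6⟩ := two_units g66
  obtain ⟨c, c', hcc, hc, hc', h7⟩ := two_units g77
  obtain ⟨hb', hdb⟩ := op hab ha hb h6
  obtain ⟨hc'', hdc⟩ := op hcc hc hc' h7
  rw [sum_two hab h6] at g67
  have hnoto : ∀ {i : Fin 10} {x : ι}, prin i = 0 → (n i x = 1 ∨ n i x = -1) → x ≠ o := by
    intro i x hi hx he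
    rw [he, h.hprin i, hi] at hx
    omega
  -- reduce to `m0` the common member
  have key : ∀ m0 m1 m2 : ι, m0 ≠ m1 → m0 ≠ m2 → m1 ≠ m2 → (n 6 m0 = 1 ∨ n 6 m0 = -1) →
      n 7 m0 = n 6 m0 → n 6 m1 = -n 6 m0 → n 7 m2 = -n 7 m0 → d m1 = d m0 → d m2 = d m0 →
      (∀ x, x ≠ m0 → x ≠ m1 → n 6 x = 0) → (∀ x, x ≠ m0 → x ≠ m2 → n 7 x = 0) →
      ∃ (e : ℤ) (m0 m1 m2 : ι), e * e = 1 ∧
        [o, m0, m1, m2].Nodup ∧ d m1 = d m0 ∧ d m2 = d m0 ∧
        (n 6 m0 = -e ∧ n 6 m1 = e ∧ ∀ x, x ≠ m0 → x ≠ m1 → n 6 x = 0) ∧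
        (n 7 m0 = -e ∧ n 7 m2 = e ∧ ∀ x, x ≠ m0 → x ≠ m2 → n 7 x = 0) := by
    intro m0 m1 m2 n01 n02 n12 hu e7 e6 e7' d1 d2 z6 z7
    refine ⟨-n 6 m0, m0, m1, m2, ?_, ?_, d1, d2, ⟨(neg_neg _).symm, e6, z6⟩,
      ⟨by rw [e7, neg_neg], by rw [e7', e7], z7⟩⟩
    · rcases hu with e | e <;> rw [e] <;> rfl
    · have o0 : m0 ≠ o := hnoto (i := 6) rfl hu
      have o1 : m1 ≠ o := hnoto (i := 6) rfl (by omega)
      have o2 : m2 ≠ o := hnoto (i := 7) rfl (by omega)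
      simp [n01, n02, n12, o0.symm, o1.symm, o2.symm]
  by_cases h1 : a = c ∨ a = c'
  · rcases h1 with e | e
    · subst e
      have hbc : b ≠ c' := fun e => by
        subst e
        rcases ha with x | x <;> rcases hc with y | y <;> rw [hb', hc'', x, y] at g67 <;> omega
      rw [h7 b hab.symm hbc, mul_zero, add_zero] at g67
      exact key a b c' hab hcc hbc ha (by rcases ha with x | x <;> rw [x] at g67 ⊢ <;> omega) hb' hc'' hdb hdc h6 h7
    · subst e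
      have hbc : b ≠ c := fun e => by
        subst e
        rcases ha with x | x <;> rcases hc with y | y <;> rw [hb', hc'', y, x] at g67 <;> omega
      rw [h7 b hbc hab.symm, mul_zero, add_zero] at g67
      exact key a b c hab hcc.symm hbc ha (by rcases ha with x | x <;> rw [x] at g67 ⊢ <;> omega) hb'
        (by omega) hdb hdc.symm h6 (fun x h1 h2 => h7 x h2 h1)
  · push Not at h1
    rw [h7 a h1.1 h1.2, mul_zero, zero_add] at g67
    have h2 : b = c ∨ b = c' := by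
      by_contra hn
      push Not at hn
      rw [h7 b hn.1 hn.2, mul_zero] at g67
      omega
    rcases h2 with e | e
    · subst e
      exact key b a c' hab.symm hcc h1.2 hb (by rcases hb with x | x <;> rw [x] at g67 ⊢ <;> omega) (by omega) hc''
        hdb.symm hdc (fun x h1 h2 => h6 x h2 h1) h7
    · subst e
      exact key b a c hab.symm hcc.symm h1.1 hb (by rcases hb with x | x <;> rw [x] at g67 ⊢ <;> omega) (by omega)
        (by omega) hdb.symm hdc.symm (fun x h1 h2 => h6 x h2 h1) (fun x h1 h2 => h7 x h2 h1)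

theorem unit_of_sq {a : ℤ} (h : a * a ≤ 1) : a = 0 ∨ a = 1 ∨ a = -1 := by
  have h1 : a < 2 := by nlinarith
  have h2 : -2 < a := by nlinarith
  omega

theorem one_le_sq {a : ℤ} (h : a ≠ 0) : 1 ≤ a * a := Int.add_one_le_iff.2 (mul_self_pos.2 h)

theorem sq_eq_one {a : ℤ} (h : a = 1 ∨ a = -1) : a * a = 1 := by rcases h with e | e <;> rw [e] <;> rfl

/-- The common shape of the first three vectors. -/
theorem exists_pair (h : Vecs n d o) {e : ℤ} {m0 m1 m2 : ι} (hnd : [o, m0, m1, m2].Nodup)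
    (hconst : ∀ i, n i m1 = n i m0 + e * gram 6 i ∧ n i m2 = n i m0 + e * gram 7 i) {k : Fin 10}
    (hk : k = 0 ∨ k = 1 ∨ k = 2) :
    n k m0 = 0 ∧ n k m1 = 0 ∧ n k m2 = 0 ∧
      ∃ a b, a ≠ b ∧ a ≠ o ∧ b ≠ o ∧ (n k a = 1 ∨ n k a = -1) ∧ (n k b = 1 ∨ n k b = -1) ∧
        (∀ x, x ≠ o → x ≠ a → x ≠ b → n k x = 0) ∧ n k a * d a + n k b * d b = -1 := by
  have hnd' := hnd
  simp only [List.nodup_cons, List.mem_cons, List.not_mem_nil, or_false, not_or, List.nodup_nil, and_true,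
    not_false_iff] at hnd'
  obtain ⟨⟨o0, o1, o2⟩, ⟨m01, m02⟩, m12⟩ := hnd'
  obtain ⟨g6, g7, gk, pk⟩ : gram 6 k = 0 ∧ gram 7 k = 0 ∧ gram k k = 3 ∧ prin k = 1 := by
    rcases hk with rfl | rfl | rfl <;> exact ⟨rfl, rfl, rfl, rfl⟩
  obtain ⟨c1, c2⟩ := hconst k
  rw [g6, mul_zero, add_zero] at c1
  rw [g7, mul_zero, add_zero] at c2
  have hb := sum_le (h.hgram k k) [o, m0, m1, m2] hnd
  simp only [List.map_cons, List.map_nil, List.sum_cons, List.sum_nil, h.hprin k, pk, c1, c2, gk] at hb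
  have hm : n k m0 = 0 := by
    rcases unit_of_sq (a := n k m0) (by nlinarith) with x | x | x
    · exact x
    all_goals rw [x] at hb; omega
  rw [hm] at c1 c2
  refine ⟨hm, c1, c2, ?_⟩
  let f : ι → ℤ := fun x => if x = o then 0 else n k x
  have hf : ∑ x, f x * f x = 2 := by
    have h1 := h.hgram k k
    rw [← Finset.add_sum_erase _ _ (Finset.mem_univ o), h.hprin, pk, gk] at h1
    rw [← Finset.add_sum_erase _ _ (Finset.mem_univ o)]
    rw [Finset.sum_congr rfl (g := fun x => n k x * n k x) fun x hx => by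
      simp [f, (Finset.mem_erase.1 hx).1]]
    simp only [f, if_pos, mul_zero, zero_add]
    linarith
  obtain ⟨a, b, hab, ha, hb', hz⟩ := two_units hf
  have hao : a ≠ o := fun x => by simp [f, x] at ha
  have hbo : b ≠ o := fun x => by simp [f, x] at hb'
  have hz' : ∀ x, x ≠ o → x ≠ a → x ≠ b → n k x = 0 := fun x h1 h2 h3 => by simpa [f, h1] using hz x h2 h3
  refine ⟨a, b, hab, hao, hbo, by simpa [f, hao] using ha, by simpa [f, hbo] using hb', hz', ?_⟩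
  have h1 := h.hdeg k
  rw [← Finset.add_sum_erase _ _ (Finset.mem_univ o), h.hprin, pk, h.hone,
    Finset.sum_eq_add a b hab (fun x hx hne => by rw [hz' x (Finset.mem_erase.1 hx).1 hne.1 hne.2, zero_mul])
      (fun hx => absurd (Finset.mem_erase.2 ⟨hao, Finset.mem_univ _⟩) hx)
      (fun hx => absurd (Finset.mem_erase.2 ⟨hbo, Finset.mem_univ _⟩) hx)] at h1
  linarith

/-- Two of them have disjoint supports. -/
theorem pairs_disjoint (h : Vecs n d o) {i j : Fin 10} (gij : gram i j = 1) (pi : prin i = 1) (pj : prin j = 1)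
    {a b a' b' : ι} (hab : a ≠ b) (hao : a ≠ o) (hbo : b ≠ o) (hab' : a' ≠ b')
    (ua : n i a = 1 ∨ n i a = -1) (ub : n i b = 1 ∨ n i b = -1) (zi : ∀ x, x ≠ o → x ≠ a → x ≠ b → n i x = 0)
    (ua' : n j a' = 1 ∨ n j a' = -1) (ub' : n j b' = 1 ∨ n j b' = -1)
    (zj : ∀ x, x ≠ o → x ≠ a' → x ≠ b' → n j x = 0)
    (di : n i a * d a + n i b * d b = -1) (dj : n j a' * d a' + n j b' * d b' = -1) :
    n j a = 0 ∧ n j b = 0 := by
  have h1 := h.hgram i j
  rw [← Finset.add_sum_erase _ _ (Finset.mem_univ o), h.hprin, h.hprin, pi, pj, gij,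
    Finset.sum_eq_add a b hab (fun x hx hne => by rw [zi x (Finset.mem_erase.1 hx).1 hne.1 hne.2, zero_mul])
      (fun hx => absurd (Finset.mem_erase.2 ⟨hao, Finset.mem_univ _⟩) hx)
      (fun hx => absurd (Finset.mem_erase.2 ⟨hbo, Finset.mem_univ _⟩) hx)] at h1
  have e1 : n j a = 0 ∨ a = a' ∨ a = b' := by
    by_contra! r
    exact r.1 (zj a hao r.2.1 r.2.2)
  have e2 : n j b = 0 ∨ b = a' ∨ b = b' := by
    by_contra! r
    exact r.1 (zj b hbo r.2.1 r.2.2)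
  by_contra hcon
  have hna : n j a ≠ 0 := fun x => hcon ⟨x, by
    rw [x, mul_zero, zero_add] at h1
    rcases ub with u | u <;> rw [u] at h1 <;> omega⟩
  have hnb : n j b ≠ 0 := fun x => hna (by
    rw [x, mul_zero, add_zero] at h1
    rcases ua with u | u <;> rw [u] at h1 <;> omega)
  have ma : a = a' ∨ a = b' := e1.resolve_left hna
  have mb : b = a' ∨ b = b' := e2.resolve_left hnb
  have pa := h.hpos a
  have pb := h.hpos b
  have dj' : n j a * d a + n j b * d b = -1 := by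
    rcases ma with r | r <;> rcases mb with r' | r'
    · exact absurd (r.trans r'.symm) hab
    · rw [r, r']; exact dj
    · rw [r, r', add_comm]; exact dj
    · exact absurd (r.trans r'.symm) hab
  have wa : n j a = 1 ∨ n j a = -1 := by rcases ma with r | r <;> rw [r] <;> assumption
  have wb : n j b = 1 ∨ n j b = -1 := by rcases mb with r | r <;> rw [r] <;> assumption
  rcases ua with u | u <;> rcases ub with v | v <;> rcases wa with w | w <;> rcases wb with z | z <;>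
    rw [u, v] at di h1 <;> rw [w, z] at dj' h1 <;> omega

theorem sum_delta (f : ι → ℤ) (a : ι) : ∑ x, f x * (if x = a then 1 else 0) = f a := by simp

theorem sum_three {f : ι → ℤ} {a b c : ι} (hab : a ≠ b) (hac : a ≠ c) (hbc : b ≠ c)
    (h0 : ∀ i, i ≠ a → i ≠ b → i ≠ c → f i = 0) (g : ι → ℤ) :
    ∑ i, f i * g i = f a * g a + f b * g b + f c * g c := by
  rw [← Finset.sum_subset (Finset.subset_univ {a, b, c}) fun x _ hx => ?_]
  · rw [Finset.sum_insert (by simp [hab, hac]), Finset.sum_pair hbc]; ring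
  · simp only [Finset.mem_insert, Finset.mem_singleton, not_or] at hx
    rw [h0 x hx.1 hx.2.1 hx.2.2, zero_mul]

theorem unit_mul {s v : ℤ} (hs : s * s = 1) {a : ℤ} (h : s * v = a) : v = s * a := by
  rw [← h, ← mul_assoc, hs, one_mul]

theorem unit_sq {s v : ℤ} (hs : s * s = 1) : s * v * (s * v) = v * v := by
  linear_combination (v * v) * hs

/-- A pair oriented by the vector of norm five. -/
theorem orient {N M : ι → ℤ} {a b : ι} (hab : a ≠ b) (hao : a ≠ o) (hbo : b ≠ o)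
    (ua : N a = 1 ∨ N a = -1) (ub : N b = 1 ∨ N b = -1) (zk : ∀ x, x ≠ o → x ≠ a → x ≠ b → N x = 0)
    (dk : N a * d a + N b * d b = -1) (kk : N a * M a + N b * M b = 1)
    (tk : M a * M a + M b * M b = 1) :
    ∃ l p : ι, (l = a ∧ p = b ∨ l = b ∧ p = a) ∧ N l * N l = 1 ∧ N p * N p = 1 ∧
      (∀ x, x ≠ o → x ≠ l → x ≠ p → N x = 0) ∧ N l * d l + N p * d p = -1 ∧ M l = N l ∧ M p = 0 := by
  rcases unit_of_sq (a := M a) (by nlinarith only [tk, mul_self_nonneg (M b)]) with x | x | x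
  · rw [x, mul_zero, zero_add] at kk
    refine ⟨b, a, Or.inr ⟨rfl, rfl⟩, sq_eq_one ub, sq_eq_one ua, fun y h1 h2 h3 => zk y h1 h3 h2,
      by linarith only [dk], ?_, x⟩
    rcases ub with u | u <;> rw [u] at kk ⊢ <;> omega
  all_goals
    have hb0 : M b = 0 := mul_self_eq_zero.1 (by rw [x] at tk; linarith only [tk])
    rw [hb0, mul_zero, add_zero] at kk
    refine ⟨a, b, Or.inl ⟨rfl, rfl⟩, sq_eq_one ua, sq_eq_one ub, zk, dk, ?_, hb0⟩
    rcases ua with u | u <;> rw [u] at kk ⊢ <;> omega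

/-- The vectors of the first stage as linear forms. -/
structure Six (n : Fin 10 → ι → ℤ) (d : ι → ℤ) (o : ι) where
  l : Fin 3 → ι
  p : Fin 3 → ι
  m : Fin 3 → ι
  s : Fin 3 → ℤ
  t : Fin 3 → ℤ
  e : ℤ
  hs : ∀ k, s k * s k = 1
  ht : ∀ k, t k * t k = 1
  he : e * e = 1
  nd : [o, l 0, l 1, l 2, p 0, p 1, p 2, m 0, m 1, m 2].Nodup
  form6 : ∀ f : ι → ℤ, ∑ x, n 6 x * f x = e * (f (m 1) - f (m 0))
  form7 : ∀ f : ι → ℤ, ∑ x, n 7 x * f x = e * (f (m 2) - f (m 0))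
  form0 : ∀ f : ι → ℤ, ∑ x, n 0 x * f x = f o + s 0 * f (l 0) - t 0 * f (p 0)
  form1 : ∀ f : ι → ℤ, ∑ x, n 1 x * f x = f o + s 1 * f (l 1) - t 1 * f (p 1)
  form2 : ∀ f : ι → ℤ, ∑ x, n 2 x * f x = f o + s 2 * f (l 2) - t 2 * f (p 2)
  form8 : ∀ f : ι → ℤ, ∑ x, n 8 x * f x =
    f o + s 0 * f (l 0) + s 1 * f (l 1) + s 2 * f (l 2) - e * f (m 0)

set_option maxHeartbeats 400000 in
theorem exists_six (h : Vecs n d o) : Nonempty (Six n d o) := by
  obtain ⟨e, m0, m1, m2, he, hnd, -, -, ⟨a0, a1, az⟩, ⟨b0, b2, bz⟩⟩ := exists_star3 h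
  have hnd' := hnd
  simp only [List.nodup_cons, List.mem_cons, List.not_mem_nil, or_false, not_or, List.nodup_nil, and_true,
    not_false_iff] at hnd'
  obtain ⟨⟨o0, o1, o2⟩, ⟨m01, m02⟩, m12⟩ := hnd'
  have hconst : ∀ i, n i m1 = n i m0 + e * gram 6 i ∧ n i m2 = n i m0 + e * gram 7 i := by
    intro i
    have h1 := h.hgram 6 i
    have h2 := h.hgram 7 i
    rw [sum_two m01 az, a0, a1] at h1
    rw [sum_two m02 bz, b0, b2] at h2
    constructor
    · linear_combination e * h1 + (n i m0 - n i m1) * he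
    · linear_combination e * h2 + (n i m0 - n i m2) * he
  obtain ⟨z00, z01, z02, a_0, b_0, ab0, ao0, bo0, ua0, ub0, zz0, dd0⟩ := exists_pair h hnd hconst (Or.inl rfl)
  obtain ⟨z10, z11, z12, a_1, b_1, ab1, ao1, bo1, ua1, ub1, zz1, dd1⟩ :=
    exists_pair h hnd hconst (Or.inr (Or.inl rfl))
  obtain ⟨z20, z21, z22, a_2, b_2, ab2, ao2, bo2, ua2, ub2, zz2, dd2⟩ :=
    exists_pair h hnd hconst (Or.inr (Or.inr rfl))
  obtain ⟨x01, y01⟩ := pairs_disjoint h (show gram 0 1 = 1 from rfl) rfl rfl ab0 ao0 bo0 ab1 ua0 ub0 zz0 ua1 ub1 zz1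
    dd0 dd1
  obtain ⟨x02, y02⟩ := pairs_disjoint h (show gram 0 2 = 1 from rfl) rfl rfl ab0 ao0 bo0 ab2 ua0 ub0 zz0 ua2 ub2 zz2
    dd0 dd2
  obtain ⟨x12, y12⟩ := pairs_disjoint h (show gram 1 2 = 1 from rfl) rfl rfl ab1 ao1 bo1 ab2 ua1 ub1 zz1 ua2 ub2 zz2
    dd1 dd2
  have u0 : ∀ {k : Fin 10} {x : ι}, (n k x = 1 ∨ n k x = -1) → n k x ≠ 0 := fun hx r => by omega
  have hne : ∀ {k : Fin 10} {x y : ι}, (n k x = 1 ∨ n k x = -1) → n k y = 0 → x ≠ y :=
    fun hx hy r => u0 hx (r ▸ hy)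
  have hten : [o, m0, m1, m2, a_0, b_0, a_1, b_1, a_2, b_2].Nodup := by
    simp [o0, o1, o2, m01, m02, m12, ab0, ab1, ab2, ao0.symm, bo0.symm, ao1.symm, bo1.symm, ao2.symm, bo2.symm,
      (hne ua0 z00).symm, (hne ub0 z00).symm, (hne ua1 z10).symm, (hne ub1 z10).symm, (hne ua2 z20).symm,
      (hne ub2 z20).symm, (hne ua0 z01).symm, (hne ub0 z01).symm, (hne ua1 z11).symm, (hne ub1 z11).symm,
      (hne ua2 z21).symm, (hne ub2 z21).symm, (hne ua0 z02).symm, (hne ub0 z02).symm, (hne ua1 z12).symm,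
      (hne ub1 z12).symm, (hne ua2 z22).symm, (hne ub2 z22).symm, (hne ua1 x01).symm, (hne ua1 y01).symm,
      (hne ub1 x01).symm, (hne ub1 y01).symm, (hne ua2 x02).symm, (hne ua2 y02).symm, (hne ub2 x02).symm,
      (hne ub2 y02).symm, (hne ua2 x12).symm, (hne ua2 y12).symm, (hne ub2 x12).symm, (hne ub2 y12).symm]
  obtain ⟨w1, w2⟩ := hconst 8
  rw [show gram 6 8 = 1 from rfl, mul_one] at w1
  rw [show gram 7 8 = 1 from rfl, mul_one] at w2
  have hk8 : ∀ (k : Fin 10) (a b : ι), gram k 8 = 2 → prin k = 1 → a ≠ b → a ≠ o → b ≠ o →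
      (∀ x, x ≠ o → x ≠ a → x ≠ b → n k x = 0) → n k a * n 8 a + n k b * n 8 b = 1 := by
    intro k a b gk pk hab hao hbo zk
    have h1 := h.hgram k 8
    rw [sum_three hao.symm hbo.symm hab zk, h.hprin, h.hprin, pk, gk, show prin 8 = 1 from rfl] at h1
    linarith only [h1]
  have k0 := hk8 0 a_0 b_0 rfl rfl ab0 ao0 bo0 zz0
  have k1 := hk8 1 a_1 b_1 rfl rfl ab1 ao1 bo1 zz1
  have k2 := hk8 2 a_2 b_2 rfl rfl ab2 ao2 bo2 zz2
  have atleast : ∀ {α β x y : ℤ}, α * x + β * y = 1 → 1 ≤ x * x + y * y := by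
    intro α β x y hh
    by_contra hc
    have hx : x = 0 := mul_self_eq_zero.1 (by nlinarith only [hc, mul_self_nonneg x, mul_self_nonneg y])
    have hy : y = 0 := mul_self_eq_zero.1 (by nlinarith only [hc, mul_self_nonneg x, mul_self_nonneg y])
    rw [hx, hy] at hh
    omega
  have t0 := atleast k0
  have t1 := atleast k1
  have t2 := atleast k2
  have h88 := h.hgram 8 8
  rw [← Finset.sum_add_sum_compl [o, m0, m1, m2, a_0, b_0, a_1, b_1, a_2, b_2].toFinset,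
    List.sum_toFinset _ hten] at h88
  simp only [List.map_cons, List.map_nil, List.sum_cons, List.sum_nil, h.hprin 8, show prin 8 = 1 from rfl,
    show gram 8 8 = 5 from rfl, w1, w2] at h88
  obtain ⟨c, hc⟩ : ∃ c, n 8 m0 = e * c := ⟨e * n 8 m0, by rw [← mul_assoc, he, one_mul]⟩
  have ec : ∀ v : ℤ, (e * v + e) * (e * v + e) = (v + 1) * (v + 1) := fun v => by
    linear_combination ((v + 1) * (v + 1)) * he
  rw [hc, unit_sq he, ec] at h88
  obtain ⟨Rest, hRest⟩ : ∃ R : ℤ, ∑ x ∈ ([o, m0, m1, m2, a_0, b_0, a_1, b_1, a_2, b_2].toFinset)ᶜ,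
      n 8 x * n 8 x = R := ⟨_, rfl⟩
  have hRn : 0 ≤ Rest := hRest ▸ Finset.sum_nonneg fun x _ => mul_self_nonneg _
  rw [hRest] at h88
  have hc' : c = -1 := by
    rcases unit_of_sq (a := c) (by
      nlinarith only [h88, t0, t1, t2, hRn, mul_self_nonneg c, mul_self_nonneg (c + 1)]) with x | x | x
    · rw [x] at h88; linarith only [h88, t0, t1, t2, hRn]
    · rw [x] at h88; linarith only [h88, t0, t1, t2, hRn]
    · exact x
  subst hc'
  have T0 : n 8 a_0 * n 8 a_0 + n 8 b_0 * n 8 b_0 = 1 := by linarith only [h88, t0, t1, t2, hRn]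
  have T1 : n 8 a_1 * n 8 a_1 + n 8 b_1 * n 8 b_1 = 1 := by linarith only [h88, t0, t1, t2, hRn]
  have T2 : n 8 a_2 * n 8 a_2 + n 8 b_2 * n 8 b_2 = 1 := by linarith only [h88, t0, t1, t2, hRn]
  have hR0 : Rest = 0 := by linarith only [h88, t0, t1, t2, hRn]
  have h8R : ∀ x, x ∉ [o, m0, m1, m2, a_0, b_0, a_1, b_1, a_2, b_2] → n 8 x = 0 := fun x hx =>
    mul_self_eq_zero.1 ((Finset.sum_eq_zero_iff_of_nonneg fun y _ => mul_self_nonneg _).1 (hRest.trans hR0) x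
      (by simpa using hx))
  have s81 : n 8 m1 = 0 := by rw [w1, hc]; ring
  have s82 : n 8 m2 = 0 := by rw [w2, hc]; ring
  obtain ⟨l0, p0, P0, sl0, sp0, zl0, -, el0, ep0⟩ := orient ab0 ao0 bo0 ua0 ub0 zz0 dd0 k0 T0
  obtain ⟨l1, p1, P1, sl1, sp1, zl1, -, el1, ep1⟩ := orient ab1 ao1 bo1 ua1 ub1 zz1 dd1 k1 T1
  obtain ⟨l2, p2, P2, sl2, sp2, zl2, -, el2, ep2⟩ := orient ab2 ao2 bo2 ua2 ub2 zz2 dd2 k2 T2
  have hperm : List.Perm [o, l0, l1, l2, p0, p1, p2, m0, m1, m2] [o, m0, m1, m2, a_0, b_0, a_1, b_1, a_2, b_2] := by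
    have e0 : List.Perm [l0, p0] [a_0, b_0] := by
      rcases P0 with ⟨r, r'⟩ | ⟨r, r'⟩ <;> rw [r, r']
      exact List.Perm.swap _ _ _
    have e1 : List.Perm [l1, p1] [a_1, b_1] := by
      rcases P1 with ⟨r, r'⟩ | ⟨r, r'⟩ <;> rw [r, r']
      exact List.Perm.swap _ _ _
    have e2 : List.Perm [l2, p2] [a_2, b_2] := by
      rcases P2 with ⟨r, r'⟩ | ⟨r, r'⟩ <;> rw [r, r']
      exact List.Perm.swap _ _ _
    refine List.Perm.trans ?_ ((List.Perm.refl [o, m0, m1, m2]).append ((e0.append e1).append e2))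
    rw [List.perm_iff_count]
    intro x
    simp only [List.cons_append, List.nil_append, List.count_cons, List.count_nil]
    omega
  have hndL := hperm.nodup_iff.2 hten
  have hnd2 := hndL
  simp only [List.nodup_cons, List.mem_cons, List.not_mem_nil, or_false, not_or, List.nodup_nil, and_true,
    not_false_iff] at hnd2
  obtain ⟨⟨ol0, ol1, ol2, op0, op1, op2, -⟩, ⟨-, -, lp0, -⟩, ⟨-, -, lp1, -⟩, ⟨-, -, lp2, -⟩, -⟩ := hnd2
  refine ⟨{ l := ![l0, l1, l2], p := ![p0, p1, p2], m := ![m0, m1, m2], s := ![n 0 l0, n 1 l1, n 2 l2]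
            t := ![-n 0 p0, -n 1 p1, -n 2 p2], e := e, hs := ?_, ht := ?_, he := he, nd := hndL
            form6 := ?_, form7 := ?_, form0 := ?_, form1 := ?_, form2 := ?_, form8 := ?_ }⟩
  · intro k; fin_cases k <;> simp [sl0, sl1, sl2]
  · intro k; fin_cases k <;> simp [sp0, sp1, sp2]
  · intro f
    rw [sum_two m01 az, a0, a1]
    show _ = e * (f m1 - f m0)
    ring
  · intro f
    rw [sum_two m02 bz, b0, b2]
    show _ = e * (f m2 - f m0)
    ring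
  · intro f
    rw [sum_three ol0 op0 lp0 zl0, h.hprin, show prin 0 = 1 from rfl]
    show _ = f o + n 0 l0 * f l0 - -n 0 p0 * f p0
    ring
  · intro f
    rw [sum_three ol1 op1 lp1 zl1, h.hprin, show prin 1 = 1 from rfl]
    show _ = f o + n 1 l1 * f l1 - -n 1 p1 * f p1
    ring
  · intro f
    rw [sum_three ol2 op2 lp2 zl2, h.hprin, show prin 2 = 1 from rfl]
    show _ = f o + n 2 l2 * f l2 - -n 2 p2 * f p2
    ring
  · intro f
    rw [← Finset.sum_add_sum_compl [o, l0, l1, l2, p0, p1, p2, m0, m1, m2].toFinset, List.sum_toFinset _ hndL,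
      Finset.sum_eq_zero (s := _ᶜ) fun x hx => by
        rw [h8R x (fun hm => Finset.mem_compl.1 hx (List.mem_toFinset.2 (hperm.mem_iff.2 hm))), zero_mul]]
    simp only [List.map_cons, List.map_nil, List.sum_cons, List.sum_nil, h.hprin, show prin 8 = 1 from rfl, el0, el1,
      el2, ep0, ep1, ep2, hc, s81, s82]
    show _ = f o + n 0 l0 * f l0 + n 1 l1 * f l1 + n 2 l2 * f l2 - e * f m0
    ring

namespace Six

variable (D : Six n d o)

/-- What the six forms say about a further vector. -/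
theorem row (h : Vecs n d o) (i : Fin 10) :
    n i (D.m 1) = n i (D.m 0) + D.e * gram 6 i ∧ n i (D.m 2) = n i (D.m 0) + D.e * gram 7 i ∧
    gram 0 i = prin i + D.s 0 * n i (D.l 0) - D.t 0 * n i (D.p 0) ∧
    gram 1 i = prin i + D.s 1 * n i (D.l 1) - D.t 1 * n i (D.p 1) ∧
    gram 2 i = prin i + D.s 2 * n i (D.l 2) - D.t 2 * n i (D.p 2) ∧
    gram 8 i = prin i + D.s 0 * n i (D.l 0) + D.s 1 * n i (D.l 1) + D.s 2 * n i (D.l 2) -
      D.e * n i (D.m 0) := by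
  have h6 := (D.form6 (n i)).symm.trans (h.hgram 6 i)
  have h7 := (D.form7 (n i)).symm.trans (h.hgram 7 i)
  refine ⟨?_, ?_, ?_, ?_, ?_, ?_⟩
  · linear_combination D.e * h6 + (n i (D.m 0) - n i (D.m 1)) * D.he
  · linear_combination D.e * h7 + (n i (D.m 0) - n i (D.m 2)) * D.he
  · rw [← h.hgram 0 i, D.form0, h.hprin]
  · rw [← h.hgram 1 i, D.form1, h.hprin]
  · rw [← h.hgram 2 i, D.form2, h.hprin]
  · rw [← h.hgram 8 i, D.form8, h.hprin]

theorem split {M : Type*} [AddCommMonoid M] (f : ι → M) :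
    ∑ x, f x = (f o + (f (D.l 0) + (f (D.l 1) + (f (D.l 2) + (f (D.p 0) + (f (D.p 1) + (f (D.p 2) +
      (f (D.m 0) + (f (D.m 1) + f (D.m 2)))))))))) +
      ∑ x ∈ ([o, D.l 0, D.l 1, D.l 2, D.p 0, D.p 1, D.p 2, D.m 0, D.m 1, D.m 2].toFinset)ᶜ, f x := by
  rw [← Finset.sum_add_sum_compl [o, D.l 0, D.l 1, D.l 2, D.p 0, D.p 1, D.p 2, D.m 0, D.m 1, D.m 2].toFinset f,
    List.sum_toFinset _ D.nd]
  simp [add_zero]

/-- A vector of norm three. -/
theorem gamma' (h : Vecs n d o) (i : Fin 10) (pi : prin i = 0) (gi : gram i i = 3) (g6 : gram 6 i = 0)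
    (g7 : gram 7 i = 0) (g8 : gram 8 i = 2) (gsum : gram 0 i + gram 1 i + gram 2 i = 2)
    (q0 : gram 0 i = 0 ∨ gram 0 i = 1) (q1 : gram 1 i = 0 ∨ gram 1 i = 1) (q2 : gram 2 i = 0 ∨ gram 2 i = 1) :
    ∃ (q : ι) (u : ℤ), u * u = 1 ∧
      q ∉ [o, D.l 0, D.l 1, D.l 2, D.p 0, D.p 1, D.p 2, D.m 0, D.m 1, D.m 2] ∧
      ∀ f : ι → ℤ, ∑ x, n i x * f x = D.s 0 * gram 0 i * f (D.l 0) + D.s 1 * gram 1 i * f (D.l 1) +
        D.s 2 * gram 2 i * f (D.l 2) - u * f q := by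
  obtain ⟨c1, c2, e0, e1, e2, e8⟩ := D.row h i
  rw [g6, mul_zero, add_zero] at c1
  rw [g7, mul_zero, add_zero] at c2
  rw [g8, pi, zero_add] at e8
  rw [pi, zero_add] at e0 e1 e2
  obtain ⟨α, hα⟩ : ∃ α, D.s 0 * n i (D.l 0) = α := ⟨_, rfl⟩
  obtain ⟨β, hβ⟩ : ∃ β, D.s 1 * n i (D.l 1) = β := ⟨_, rfl⟩
  obtain ⟨γ, hγ⟩ : ∃ γ, D.s 2 * n i (D.l 2) = γ := ⟨_, rfl⟩
  obtain ⟨M, hM⟩ : ∃ M, D.e * n i (D.m 0) = M := ⟨_, rfl⟩
  rw [hα] at e0
  rw [hβ] at e1
  rw [hγ] at e2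
  rw [hα, hβ, hγ, hM] at e8
  have r0 := unit_mul (D.hs 0) hα
  have r1 := unit_mul (D.hs 1) hβ
  have r2 := unit_mul (D.hs 2) hγ
  have rm := unit_mul D.he hM
  have r0' := unit_mul (D.ht 0) (show D.t 0 * n i (D.p 0) = α - gram 0 i by linarith only [e0])
  have r1' := unit_mul (D.ht 1) (show D.t 1 * n i (D.p 1) = β - gram 1 i by linarith only [e1])
  have r2' := unit_mul (D.ht 2) (show D.t 2 * n i (D.p 2) = γ - gram 2 i by linarith only [e2])
  have h1 := h.hgram i i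
  rw [D.split, h.hprin, pi, gi, c1, c2, r0, r1, r2, r0', r1', r2', rm, unit_sq D.he, unit_sq (D.hs 0),
    unit_sq (D.hs 1), unit_sq (D.hs 2), unit_sq (D.ht 0), unit_sq (D.ht 1), unit_sq (D.ht 2)] at h1
  obtain ⟨R, hR⟩ : ∃ R, ([o, D.l 0, D.l 1, D.l 2, D.p 0, D.p 1, D.p 2, D.m 0, D.m 1, D.m 2].toFinset)ᶜ = R :=
    ⟨_, rfl⟩
  rw [hR] at h1
  have hRn : 0 ≤ ∑ x ∈ R, n i x * n i x := Finset.sum_nonneg fun x _ => mul_self_nonneg _
  have low : ∀ {g a : ℤ}, (g = 0 ∨ g = 1) → g ≤ a * a + (a - g) * (a - g) := by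
    intro g a hg
    rcases hg with r | r <;> rw [r]
    · nlinarith only [mul_self_nonneg a]
    · rcases le_or_gt a 0 with r' | r' <;> nlinarith only [r', mul_self_nonneg a, mul_self_nonneg (a - 1)]
  have b0 := low (a := α) q0
  have b1 := low (a := β) q1
  have b2 := low (a := γ) q2
  have hM0 : M = 0 := by
    rcases unit_of_sq (a := M) (by nlinarith only [h1, b0, b1, b2, gsum, hRn, mul_self_nonneg M]) with r | r | r
    · exact r
    all_goals rw [r] at h1; linarith only [h1, b0, b1, b2, gsum, hRn]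
  rw [hM0] at e8 h1
  have small : ∀ {g a : ℤ}, (g = 0 ∨ g = 1) → a * a + (a - g) * (a - g) ≤ g + 1 →
      (g = 0 → a = 0) ∧ (a = 0 ∨ a = g) := by
    intro g a hg hb
    rcases hg with r | r <;> subst r
    · have : a = 0 := by
        rcases unit_of_sq (a := a) (by nlinarith only [hb, mul_self_nonneg a]) with r | r | r
        · exact r
        all_goals rw [r] at hb; omega
      exact ⟨fun _ => this, Or.inl this⟩
    · refine ⟨fun r => by omega, ?_⟩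
      have hA : a < 2 := by nlinarith only [hb, mul_self_nonneg a]
      have hB : -1 < a := by nlinarith only [hb, mul_self_nonneg a]
      omega
  obtain ⟨A0, A1⟩ := small (a := α) q0 (by linarith only [h1, b0, b1, b2, gsum, hRn])
  obtain ⟨B0, B1⟩ := small (a := β) q1 (by linarith only [h1, b0, b1, b2, gsum, hRn])
  obtain ⟨C0, C1⟩ := small (a := γ) q2 (by linarith only [h1, b0, b1, b2, gsum, hRn])
  have fin : α = gram 0 i ∧ β = gram 1 i ∧ γ = gram 2 i := by omega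
  obtain ⟨fa, fb, fc⟩ := fin
  rw [fa, sub_self, mul_zero] at r0'
  rw [fb, sub_self, mul_zero] at r1'
  rw [fc, sub_self, mul_zero] at r2'
  rw [fa] at r0 h1
  rw [fb] at r1 h1
  rw [fc] at r2 h1
  rw [hM0, mul_zero] at rm
  have hR1 : ∑ x ∈ R, n i x * n i x = 1 := by
    rcases q0 with u | u <;> rcases q1 with v | v <;> rcases q2 with w | w <;> rw [u, v, w] at gsum h1 <;>
      linarith only [h1, gsum]
  obtain ⟨q, hq, hqne⟩ := Finset.exists_ne_zero_of_sum_ne_zero (by rw [hR1]; exact one_ne_zero)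
  have hq1 : 1 ≤ n i q * n i q := one_le_sq fun r => hqne (by rw [r, mul_zero])
  have hsp := Finset.add_sum_erase R (fun x => n i x * n i x) hq
  rw [hR1] at hsp
  have h0 : 0 ≤ ∑ x ∈ R.erase q, n i x * n i x := Finset.sum_nonneg fun x _ => mul_self_nonneg _
  refine ⟨q, -n i q, by linarith only [hsp, hq1, h0], ?_, fun f => ?_⟩
  · rw [← hR] at hq
    exact fun hm => Finset.mem_compl.1 hq (List.mem_toFinset.2 hm)
  · rw [D.split, hR, Finset.sum_eq_single_of_mem q hq fun x hx hxq => by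
      rw [show n i x = 0 from mul_self_eq_zero.1 ((Finset.sum_eq_zero_iff_of_nonneg fun y _ => mul_self_nonneg _).1
        (show ∑ y ∈ R.erase q, n i y * n i y = 0 by linarith only [hsp, hq1, h0]) x
        (Finset.mem_erase.2 ⟨hxq, hx⟩)), zero_mul],
      h.hprin, pi, c1, c2, r0, r1, r2, r0', r1', r2', rm]
    ring

end Six

set_option maxHeartbeats 600000 in
theorem exists_decomp (h : Vecs n d o) : Nonempty (Decomp n d o) := by
  obtain ⟨D⟩ := exists_six h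
  obtain ⟨q0, u0, hu0, nq0, F3⟩ := D.gamma' h 3 rfl rfl rfl rfl rfl rfl (Or.inl rfl) (Or.inr rfl) (Or.inr rfl)
  obtain ⟨q1, u1, hu1, nq1, F4⟩ := D.gamma' h 4 rfl rfl rfl rfl rfl rfl (Or.inr rfl) (Or.inl rfl) (Or.inr rfl)
  obtain ⟨q2, u2, hu2, nq2, F5⟩ := D.gamma' h 5 rfl rfl rfl rfl rfl rfl (Or.inr rfl) (Or.inr rfl) (Or.inl rfl)
  simp only [show gram 0 3 = 0 from rfl, show gram 1 3 = 1 from rfl, show gram 2 3 = 1 from rfl, mul_one, mul_zero,
    zero_mul, zero_add] at F3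
  simp only [show gram 0 4 = 1 from rfl, show gram 1 4 = 0 from rfl, show gram 2 4 = 1 from rfl, mul_one, mul_zero,
    zero_mul, add_zero] at F4
  simp only [show gram 0 5 = 1 from rfl, show gram 1 5 = 1 from rfl, show gram 2 5 = 0 from rfl, mul_one, mul_zero,
    zero_mul, add_zero] at F5
  have hnd := D.nd
  simp only [List.nodup_cons, List.mem_cons, List.not_mem_nil, or_false, not_or, List.nodup_nil, and_true,
    not_false_iff] at hnd
  obtain ⟨⟨ol0, ol1, ol2, op0, op1, op2, om0, om1, om2⟩, ⟨l01, l02, l0p0, l0p1, l0p2, l0m0, l0m1, l0m2⟩,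
    ⟨l12, l1p0, l1p1, l1p2, l1m0, l1m1, l1m2⟩, ⟨l2p0, l2p1, l2p2, l2m0, l2m1, l2m2⟩,
    ⟨p01, p02, p0m0, p0m1, p0m2⟩, ⟨p12, p1m0, p1m1, p1m2⟩, ⟨p2m0, p2m1, p2m2⟩, ⟨m01, m02⟩, m12⟩ := hnd
  simp only [List.mem_cons, List.not_mem_nil, or_false, not_or] at nq0 nq1 nq2
  obtain ⟨o_q0, a_q0, b_q0, c_q0, d_q0, e_q0, f_q0, i_q0, j_q0, k_q0⟩ := nq0
  obtain ⟨o_q1, a_q1, b_q1, c_q1, d_q1, e_q1, f_q1, i_q1, j_q1, k_q1⟩ := nq1
  obtain ⟨o_q2, a_q2, b_q2, c_q2, d_q2, e_q2, f_q2, i_q2, j_q2, k_q2⟩ := nq2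
  -- the three new members differ
  have g34 := (F3 (n 4)).symm.trans (h.hgram 3 4)
  have g35 := (F3 (n 5)).symm.trans (h.hgram 3 5)
  have g45 := (F4 (n 5)).symm.trans (h.hgram 4 5)
  have pt : ∀ (i : Fin 10) (a : ι), ∑ x, n i x * (if x = a then 1 else 0) = n i a := fun i a => sum_delta _ a
  have v4 : ∀ a, n 4 a = D.s 0 * (if D.l 0 = a then 1 else 0) + D.s 2 * (if D.l 2 = a then 1 else 0) -
      u1 * (if q1 = a then 1 else 0) := fun a => (pt 4 a).symm.trans (F4 _)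
  have v5 : ∀ a, n 5 a = D.s 0 * (if D.l 0 = a then 1 else 0) + D.s 1 * (if D.l 1 = a then 1 else 0) -
      u2 * (if q2 = a then 1 else 0) := fun a => (pt 5 a).symm.trans (F5 _)
  have ne_of : ∀ {u u' : ℤ} {q q' : ι}, u * u = 1 → u' * u' = 1 →
      u * (u' * if q' = q then 1 else 0) = 0 → q ≠ q' := by
    intro u u' q q' hu hu' hh r
    rw [if_pos r.symm, mul_one] at hh
    rcases mul_eq_zero.1 hh with r' | r' <;> simp [r'] at hu hu'
  have q01 : q0 ≠ q1 := by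
    refine ne_of hu0 hu1 ?_
    simp only [v4, l01, l02, l12, Ne.symm l12, Ne.symm a_q0, Ne.symm c_q0, b_q1, c_q1, if_false, if_true,
      show gram 3 4 = 1 from rfl] at g34
    linear_combination g34 - D.hs 2
  have q02 : q0 ≠ q2 := by
    refine ne_of hu0 hu2 ?_
    simp only [v5, l01, l02, l12, Ne.symm a_q0, Ne.symm b_q0, b_q2, c_q2, if_false, if_true,
      show gram 3 5 = 1 from rfl] at g35
    linear_combination g35 - D.hs 1
  have q12 : q1 ≠ q2 := by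
    refine ne_of hu1 hu2 ?_
    simp only [v5, Ne.symm l01, l02, l12, l01, Ne.symm a_q1, Ne.symm b_q1, a_q2, c_q2, if_false, if_true,
      show gram 4 5 = 1 from rfl] at g45
    linear_combination g45 - D.hs 0
  -- norm six
  obtain ⟨c1, c2, e0, e1, e2, e8⟩ := D.row h 9
  have f0 := (F3 (n 9)).symm.trans (h.hgram 3 9)
  have f1 := (F4 (n 9)).symm.trans (h.hgram 4 9)
  have f2 := (F5 (n 9)).symm.trans (h.hgram 5 9)
  rw [show gram 3 9 = 0 from rfl] at f0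
  rw [show gram 4 9 = 0 from rfl] at f1
  rw [show gram 5 9 = 0 from rfl] at f2
  rw [show gram 6 9 = 2 from rfl] at c1
  rw [show gram 7 9 = 2 from rfl] at c2
  rw [show prin 9 = 0 from rfl, zero_add] at e0 e1 e2 e8
  rw [show gram 0 9 = 0 from rfl] at e0
  rw [show gram 1 9 = 0 from rfl] at e1
  rw [show gram 2 9 = 0 from rfl] at e2
  rw [show gram 8 9 = 2 from rfl] at e8
  obtain ⟨α, hα⟩ : ∃ α, D.s 0 * n 9 (D.l 0) = α := ⟨_, rfl⟩
  obtain ⟨β, hβ⟩ : ∃ β, D.s 1 * n 9 (D.l 1) = β := ⟨_, rfl⟩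
  obtain ⟨γ, hγ⟩ : ∃ γ, D.s 2 * n 9 (D.l 2) = γ := ⟨_, rfl⟩
  obtain ⟨M, hM⟩ : ∃ M, D.e * n 9 (D.m 0) = M := ⟨_, rfl⟩
  rw [hα, hβ, hγ, hM] at e8
  have r0 := unit_mul (D.hs 0) hα
  have r1 := unit_mul (D.hs 1) hβ
  have r2 := unit_mul (D.hs 2) hγ
  have rm := unit_mul D.he hM
  have r0' := unit_mul (D.ht 0) (show D.t 0 * n 9 (D.p 0) = α by linarith only [e0, hα])
  have r1' := unit_mul (D.ht 1) (show D.t 1 * n 9 (D.p 1) = β by linarith only [e1, hβ])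
  have r2' := unit_mul (D.ht 2) (show D.t 2 * n 9 (D.p 2) = γ by linarith only [e2, hγ])
  have rq0 := unit_mul hu0 (show u0 * n 9 q0 = β + γ by linarith only [f0, hβ, hγ])
  have rq1 := unit_mul hu1 (show u1 * n 9 q1 = α + γ by linarith only [f1, hα, hγ])
  have rq2 := unit_mul hu2 (show u2 * n 9 q2 = α + β by linarith only [f2, hα, hβ])
  have n99 := h.hgram 9 9
  rw [D.split, h.hprin, show prin 9 = 0 from rfl, show gram 9 9 = 6 from rfl, c1, c2, r0, r1, r2, r0', r1', r2', rm,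
    unit_sq D.he, unit_sq (D.hs 0), unit_sq (D.hs 1), unit_sq (D.hs 2), unit_sq (D.ht 0), unit_sq (D.ht 1),
    unit_sq (D.ht 2), show (D.e * M + D.e * 2) * (D.e * M + D.e * 2) = (M + 2) * (M + 2) by
      linear_combination ((M + 2) * (M + 2)) * D.he] at n99
  have hq9 := Finset.sum_le_sum_of_subset_of_nonneg (f := fun x => n 9 x * n 9 x)
    (show [q0, q1, q2].toFinset ⊆
      ([o, D.l 0, D.l 1, D.l 2, D.p 0, D.p 1, D.p 2, D.m 0, D.m 1, D.m 2].toFinset)ᶜ by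
      intro x hx
      simp only [List.mem_toFinset, List.mem_cons, List.not_mem_nil, or_false] at hx
      rcases hx with rfl | rfl | rfl <;> simp [*]) fun x _ _ => mul_self_nonneg _
  rw [List.sum_toFinset _ (by simp [q01, q02, q12])] at hq9
  simp only [List.map_cons, List.map_nil, List.sum_cons, List.sum_nil, rq0, rq1, rq2, unit_sq hu0, unit_sq hu1,
    unit_sq hu2] at hq9
  have key : M * M + 2 * ((M + 2) * (M + 2)) + 2 * (α * α + β * β + γ * γ) +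
      ((β + γ) * (β + γ) + (α + γ) * (α + γ) + (α + β) * (α + β)) ≤ 6 := by linarith only [n99, hq9]
  have hM2 : M + 2 = α + β + γ := by linarith only [e8]
  obtain ⟨σ, hσ⟩ : ∃ σ, α + β + γ = σ := ⟨_, rfl⟩
  rw [hσ] at hM2
  rw [show M = σ - 2 by linarith only [hM2]] at key
  have hσ0 : σ = 0 := by
    have hS : (β + γ) * (β + γ) + (α + γ) * (α + γ) + (α + β) * (α + β) = α * α + β * β + γ * γ + σ * σ := by
      rw [← hσ]; ring
    rw [hS] at key
    have h4 : 2 * (σ * σ) - 2 * σ ≤ 1 := by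
      linarith only [key, mul_self_nonneg α, mul_self_nonneg β, mul_self_nonneg γ]
    have : σ < 2 := by nlinarith only [h4]
    have : -1 < σ := by nlinarith only [h4]
    have : σ ≠ 1 := fun r => by
      subst r
      have hα0 : α = 0 := mul_self_eq_zero.1 (by
        nlinarith only [key, mul_self_nonneg β, mul_self_nonneg γ, mul_self_nonneg α])
      have hβ0 : β = 0 := mul_self_eq_zero.1 (by
        nlinarith only [key, mul_self_nonneg β, mul_self_nonneg γ, mul_self_nonneg α])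
      have hγ0 : γ = 0 := mul_self_eq_zero.1 (by
        nlinarith only [key, mul_self_nonneg β, mul_self_nonneg γ, mul_self_nonneg α])
      omega
    omega
  subst hσ0
  have hzero : α = 0 ∧ β = 0 ∧ γ = 0 := by
    refine ⟨?_, ?_, ?_⟩ <;> refine mul_self_eq_zero.1 ?_ <;>
      nlinarith only [key, mul_self_nonneg α, mul_self_nonneg β, mul_self_nonneg γ, mul_self_nonneg (β + γ),
        mul_self_nonneg (α + γ), mul_self_nonneg (α + β)]
  obtain ⟨rfl, rfl, rfl⟩ := hzero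
  obtain rfl : M = -2 := by linarith only [hM2]
  simp only [add_zero, mul_zero] at r0 r1 r2 r0' r1' r2' rq0 rq1 rq2
  have g91 : n 9 (D.m 1) = 0 := by rw [c1, rm]; ring
  have g92 : n 9 (D.m 2) = 0 := by rw [c2, rm]; ring
  have v0 := fun a => (pt 0 a).symm.trans (D.form0 _)
  have v1 := fun a => (pt 1 a).symm.trans (D.form1 _)
  have v2 := fun a => (pt 2 a).symm.trans (D.form2 _)
  have v3 := fun a => (pt 3 a).symm.trans (F3 _)
  have v6 := fun a => (pt 6 a).symm.trans (D.form6 _)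
  have v7 := fun a => (pt 7 a).symm.trans (D.form7 _)
  have v8 := fun a => (pt 8 a).symm.trans (D.form8 _)
  have dg := fun i => h.hdeg i
  refine ⟨{
    l := D.l, p := D.p, q := ![q0, q1, q2], m := D.m, s := D.s, t := D.t, u := ![u0, u1, u2], e := D.e
    hs := D.hs, ht := D.ht, hu := ?_, he := D.he, nd := ?_, val_o := h.hprin, val_l := ?_, val_p := ?_, val_q := ?_
    val_m := ?_, rest := ?_, deg_gamma := ?_, deg_gamma' := ?_, deg_omega := ?_, deg_m := ?_ }⟩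
  · intro k; fin_cases k <;> simp [hu0, hu1, hu2]
  · show [o, D.l 0, D.l 1, D.l 2, D.p 0, D.p 1, D.p 2, q0, q1, q2, D.m 0, D.m 1, D.m 2].Nodup
    simp [ol0, ol1, ol2, op0, op1, op2, om0, om1, om2, l01, l02, l0p0, l0p1, l0p2, l0m0, l0m1, l0m2, l12, l1p0, l1p1,
      l1p2, l1m0, l1m1, l1m2, l2p0, l2p1, l2p2, l2m0, l2m1, l2m2, p01, p02, p0m0, p0m1, p0m2, p12, p1m0, p1m1, p1m2,
      p2m0, p2m1, p2m2, m01, m02, m12, q01, q02, q12, Ne.symm o_q0, Ne.symm a_q0, Ne.symm b_q0, Ne.symm c_q0,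
      Ne.symm d_q0, Ne.symm e_q0, Ne.symm f_q0, Ne.symm o_q1, Ne.symm a_q1, Ne.symm b_q1, Ne.symm c_q1, Ne.symm d_q1,
      Ne.symm e_q1, Ne.symm f_q1, Ne.symm o_q2, Ne.symm a_q2, Ne.symm b_q2, Ne.symm c_q2, Ne.symm d_q2, Ne.symm e_q2,
      Ne.symm f_q2, i_q0, j_q0, k_q0, i_q1, j_q1, k_q1, i_q2, j_q2, k_q2]
  · intro i
    fin_cases i <;>
      simp [v0, v1, v2, v3, v4, v5, v6, v7, v8,
        ol0, Ne.symm ol0, l01, Ne.symm l01, l02, Ne.symm l02, l0p0, Ne.symm l0p0, l0p1, Ne.symm l0p1, l0p2,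
        Ne.symm l0p2, l0m0, Ne.symm l0m0, l0m1, Ne.symm l0m1, l0m2, Ne.symm l0m2, a_q0, Ne.symm a_q0, a_q1,
        Ne.symm a_q1, a_q2, Ne.symm a_q2, ol1, Ne.symm ol1, l12, Ne.symm l12, l1p0, Ne.symm l1p0, l1p1,
        Ne.symm l1p1, l1p2, Ne.symm l1p2, l1m0, Ne.symm l1m0, l1m1, Ne.symm l1m1, l1m2, Ne.symm l1m2, b_q0,
        Ne.symm b_q0, b_q1, Ne.symm b_q1, b_q2, Ne.symm b_q2, ol2, Ne.symm ol2, l2p0, Ne.symm l2p0, l2p1,
        Ne.symm l2p1, l2p2, Ne.symm l2p2, l2m0, Ne.symm l2m0, l2m1, Ne.symm l2m1, l2m2, Ne.symm l2m2, c_q0,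
        Ne.symm c_q0, c_q1, Ne.symm c_q1, c_q2, Ne.symm c_q2, r0, r1, r2]
  · intro i
    fin_cases i <;>
      simp [v0, v1, v2, v3, v4, v5, v6, v7, v8,
        op0, Ne.symm op0, l0p0, Ne.symm l0p0, l1p0, Ne.symm l1p0, l2p0, Ne.symm l2p0, p01, Ne.symm p01, p02,
        Ne.symm p02, p0m0, Ne.symm p0m0, p0m1, Ne.symm p0m1, p0m2, Ne.symm p0m2, d_q0, Ne.symm d_q0, d_q1,
        Ne.symm d_q1, d_q2, Ne.symm d_q2, op1, Ne.symm op1, l0p1, Ne.symm l0p1, l1p1, Ne.symm l1p1, l2p1,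
        Ne.symm l2p1, p12, Ne.symm p12, p1m0, Ne.symm p1m0, p1m1, Ne.symm p1m1, p1m2, Ne.symm p1m2, e_q0,
        Ne.symm e_q0, e_q1, Ne.symm e_q1, e_q2, Ne.symm e_q2, op2, Ne.symm op2, l0p2, Ne.symm l0p2, l1p2,
        Ne.symm l1p2, l2p2, Ne.symm l2p2, p2m0, Ne.symm p2m0, p2m1, Ne.symm p2m1, p2m2, Ne.symm p2m2, f_q0,
        Ne.symm f_q0, f_q1, Ne.symm f_q1, f_q2, Ne.symm f_q2, r0', r1', r2']
  · intro i
    fin_cases i <;>
      simp [v0, v1, v2, v3, v4, v5, v6, v7, v8,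
        o_q0, Ne.symm o_q0, a_q0, Ne.symm a_q0, b_q0, Ne.symm b_q0, c_q0, Ne.symm c_q0, d_q0, Ne.symm d_q0,
        e_q0, Ne.symm e_q0, f_q0, Ne.symm f_q0, i_q0, Ne.symm i_q0, j_q0, Ne.symm j_q0, k_q0, Ne.symm k_q0,
        q01, Ne.symm q01, q02, Ne.symm q02, o_q1, Ne.symm o_q1, a_q1, Ne.symm a_q1, b_q1, Ne.symm b_q1, c_q1,
        Ne.symm c_q1, d_q1, Ne.symm d_q1, e_q1, Ne.symm e_q1, f_q1, Ne.symm f_q1, i_q1, Ne.symm i_q1, j_q1,
        Ne.symm j_q1, k_q1, Ne.symm k_q1, q12, Ne.symm q12, o_q2, Ne.symm o_q2, a_q2, Ne.symm a_q2, b_q2,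
        Ne.symm b_q2, c_q2, Ne.symm c_q2, d_q2, Ne.symm d_q2, e_q2, Ne.symm e_q2, f_q2, Ne.symm f_q2, i_q2,
        Ne.symm i_q2, j_q2, Ne.symm j_q2, k_q2, Ne.symm k_q2, rq0, rq1, rq2]
  · intro i
    fin_cases i <;>
      simp [v0, v1, v2, v3, v4, v5, v6, v7, v8,
        om0, Ne.symm om0, l0m0, Ne.symm l0m0, l1m0, Ne.symm l1m0, l2m0, Ne.symm l2m0, p0m0, Ne.symm p0m0, p1m0,
        Ne.symm p1m0, p2m0, Ne.symm p2m0, m01, Ne.symm m01, m02, Ne.symm m02, i_q0, Ne.symm i_q0, i_q1,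
        Ne.symm i_q1, i_q2, Ne.symm i_q2, om1, Ne.symm om1, l0m1, Ne.symm l0m1, l1m1, Ne.symm l1m1, l2m1,
        Ne.symm l2m1, p0m1, Ne.symm p0m1, p1m1, Ne.symm p1m1, p2m1, Ne.symm p2m1, m12, Ne.symm m12, j_q0,
        Ne.symm j_q0, j_q1, Ne.symm j_q1, j_q2, Ne.symm j_q2, om2, Ne.symm om2, l0m2, Ne.symm l0m2, l1m2,
        Ne.symm l1m2, l2m2, Ne.symm l2m2, p0m2, Ne.symm p0m2, p1m2, Ne.symm p1m2, p2m2, Ne.symm p2m2, k_q0,
        Ne.symm k_q0, k_q1, Ne.symm k_q1, k_q2, Ne.symm k_q2, g91, g92, rm]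
  · intro i hi x hx
    simp only [Matrix.cons_val_zero, Matrix.cons_val_one, Matrix.cons_val, List.mem_cons, List.not_mem_nil, or_false,
      not_or] at hx
    obtain ⟨xo, xl0, xl1, xl2, xp0, xp1, xp2, xq0, xq1, xq2, xm0, xm1, xm2⟩ := hx
    fin_cases i <;> simp [v0, v1, v2, v3, v4, v5, v6, v7, v8, Ne.symm xo, Ne.symm xl0, Ne.symm xl1, Ne.symm xl2,
      Ne.symm xp0, Ne.symm xp1, Ne.symm xp2, Ne.symm xq0, Ne.symm xq1, Ne.symm xq2, Ne.symm xm0, Ne.symm xm1,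
      Ne.symm xm2] at hi ⊢
  · intro k
    fin_cases k
    · have := (D.form0 d).symm.trans (dg 0); rw [h.hone] at this; simp; linarith only [this]
    · have := (D.form1 d).symm.trans (dg 1); rw [h.hone] at this; simp; linarith only [this]
    · have := (D.form2 d).symm.trans (dg 2); rw [h.hone] at this; simp; linarith only [this]
  · have d3 := (F3 d).symm.trans (dg 3)
    have d4 := (F4 d).symm.trans (dg 4)
    have d5 := (F5 d).symm.trans (dg 5)
    refine ⟨?_, ?_, ?_⟩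
    · show u0 * d q0 = _; linarith only [d3]
    · show u1 * d q1 = _; linarith only [d4]
    · show u2 * d q2 = _; linarith only [d5]
  · have := (D.form8 d).symm.trans (dg 8)
    rw [h.hone] at this
    linarith only [this]
  · have d6 := (D.form6 d).symm.trans (dg 6)
    have d7 := (D.form7 d).symm.trans (dg 7)
    constructor
    · linear_combination D.e * d6 + (d (D.m 0) - d (D.m 1)) * D.he
    · linear_combination D.e * d7 + (d (D.m 0) - d (D.m 2)) * D.he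

end Cfsg.Lib.EvenTriple
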