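import Cfsg.Agent.LocalThree.EvenTriple

/-!
The even part of `S₃ × S₃ × S₃` as a group of permutations of nine points.
-/

set_option autoImplicit false

namespace Cfsg.Lib.EvenTriple

/-- The action on three blocks of three points. -/
def toNine : Amb →* Equiv.Perm (Fin 9) where
  toFun k := (finProdFinEquiv : Fin 3 × Fin 3 ≃ Fin 9).permCongr (Equiv.prodCongrRight fun a => ![k.1, k.2.1, k.2.2] a)
  map_one' := by decide +kernel
  map_mul' k l := by
    ext p
    obtain ⟨⟨a, b⟩, rfl⟩ := (finProdFinEquiv : Fin 3 × Fin 3 ≃ Fin 9).surjective p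
    fin_cases a <;> simp [Equiv.permCongr_apply]

/-- The product of the signs. -/
def sgn3 : Amb →* ℤˣ :=
  (Equiv.Perm.sign.comp (MonoidHom.fst S3 (S3 × S3))) *
    (Equiv.Perm.sign.comp ((MonoidHom.fst S3 S3).comp (MonoidHom.snd S3 (S3 × S3)))) *
    (Equiv.Perm.sign.comp ((MonoidHom.snd S3 S3).comp (MonoidHom.snd S3 (S3 × S3))))

theorem even_iff (k : Amb) : k ∈ sgn3.ker ↔ Even3 k := Iff.rfl

def genOne : Amb := (Equiv.swap 0 1, Equiv.swap 0 1, 1)

def genTwo : Amb := (Equiv.swap 0 1, 1, Equiv.swap 0 1)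

theorem even_gen : ∀ k : Amb, Even3 k → ∃ i j l : Fin 3, ∃ m n : Fin 2,
    k = rep 0 ^ (i : ℕ) * rep 1 ^ (j : ℕ) * rep 2 ^ (l : ℕ) * genOne ^ (m : ℕ) * genTwo ^ (n : ℕ) := by
  decide +kernel

theorem toNine_injective : Function.Injective toNine := by
  rw [injective_iff_map_eq_one]
  decide +kernel

theorem closure_eq :
    Subgroup.closure ({Equiv.swap (0 : Fin 9) 1 * Equiv.swap 1 2, Equiv.swap (3 : Fin 9) 4 * Equiv.swap 4 5,
      Equiv.swap (6 : Fin 9) 7 * Equiv.swap 7 8, Equiv.swap (0 : Fin 9) 1 * Equiv.swap 3 4,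
      Equiv.swap (0 : Fin 9) 1 * Equiv.swap 6 7} : Set (Equiv.Perm (Fin 9))) = sgn3.ker.map toNine := by
  have h1 : toNine (rep 0) = Equiv.swap (0 : Fin 9) 1 * Equiv.swap 1 2 := by decide +kernel
  have h2 : toNine (rep 1) = Equiv.swap (3 : Fin 9) 4 * Equiv.swap 4 5 := by decide +kernel
  have h3 : toNine (rep 2) = Equiv.swap (6 : Fin 9) 7 * Equiv.swap 7 8 := by decide +kernel
  have h4 : toNine genOne = Equiv.swap (0 : Fin 9) 1 * Equiv.swap 3 4 := by decide +kernel
  have h5 : toNine genTwo = Equiv.swap (0 : Fin 9) 1 * Equiv.swap 6 7 := by decide +kernel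
  apply le_antisymm
  · rw [Subgroup.closure_le]
    intro g hg
    simp only [Set.mem_insert_iff, Set.mem_singleton_iff] at hg
    rcases hg with rfl | rfl | rfl | rfl | rfl
    exacts [⟨_, (even_iff _).2 (rep_even 0), h1⟩, ⟨_, (even_iff _).2 (rep_even 1), h2⟩,
      ⟨_, (even_iff _).2 (rep_even 2), h3⟩, ⟨_, (even_iff genOne).2 (by decide +kernel), h4⟩,
      ⟨_, (even_iff genTwo).2 (by decide +kernel), h5⟩]
  · rintro _ ⟨k, hk, rfl⟩
    obtain ⟨i, j, l, m, n, rfl⟩ := even_gen k ((even_iff k).1 hk)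
    simp only [map_mul, map_pow, h1, h2, h3, h4, h5]
    refine mul_mem (mul_mem (mul_mem (mul_mem ?_ ?_) ?_) ?_) ?_ <;>
      refine pow_mem (Subgroup.subset_closure ?_) _ <;> simp

theorem exists_setup {G : Type*} [Group G] [Finite G] (H T : Subgroup G)
    (hH : Nonempty (↥H ≃* ↥(Subgroup.closure ({Equiv.swap (0 : Fin 9) 1 * Equiv.swap 1 2,
      Equiv.swap (3 : Fin 9) 4 * Equiv.swap 4 5, Equiv.swap (6 : Fin 9) 7 * Equiv.swap 7 8,
      Equiv.swap (0 : Fin 9) 1 * Equiv.swap 3 4, Equiv.swap (0 : Fin 9) 1 * Equiv.swap 6 7} :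
      Set (Equiv.Perm (Fin 9))))))
    (hTH : T ≤ H) (hT : Nat.card T = 27) (hN : Subgroup.normalizer (T : Set G) = H)
    (hC : ∀ t ∈ T, t ≠ 1 → Subgroup.centralizer ({t} : Set G) ≤ H) : Nonempty (Setup H T) := by
  obtain ⟨e⟩ := hH
  let e' : ↥H ≃* ↥sgn3.ker := (e.trans (MulEquiv.subgroupCongr closure_eq)).trans
    (sgn3.ker.equivMapOfInjective toNine toNine_injective).symm
  exact ⟨{ φ := sgn3.ker.subtype.comp e'.toMonoidHom
           inj := Subtype.val_injective.comp e'.injective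
           even := fun x => (even_iff _).1 (e' x).2
           surj := fun k hk => ⟨e'.symm ⟨k, (even_iff k).2 hk⟩, by simp⟩
           le := hTH, cardT := hT, hN := hN, hC := hC }⟩

end Cfsg.Lib.EvenTriple
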