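import Cfsg.Agent.LocalThree.EvenTripleComb

/-!
The class multiplication sums of the decomposition.
-/

set_option autoImplicit false
set_option linter.unusedSectionVars false

namespace Cfsg.Lib.EvenTriple

variable {ι : Type*} [Fintype ι] [DecidableEq ι] {n : Fin 10 → ι → ℤ} {d : ι → ℤ} {o : ι}

/-- The value at the class `a`. -/
def val (n : Fin 10 → ι → ℤ) (a : Fin 4) (x : ι) : ℤ := ∑ i, coef a i * n i x

/-- The class multiplication sum. -/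
noncomputable def msum (n : Fin 10 → ι → ℤ) (d : ι → ℤ) (a b c : Fin 4) : ℂ :=
  ∑ x, (val n a x : ℂ) * val n b x * val n c x / d x

namespace Decomp

variable (D : Decomp n d o)

/-- The values at the members. -/
theorem vals (a : Fin 4) : val n a o = 1 ∧
    val n a (D.l 0) = D.s 0 ∧ val n a (D.l 1) = D.s 1 ∧ val n a (D.l 2) = D.s 2 ∧
    val n a (D.p 0) = D.t 0 * ![-1, 2, 2, -1] a ∧ val n a (D.p 1) = D.t 1 * ![2, -1, 2, -1] a ∧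
    val n a (D.p 2) = D.t 2 * ![2, 2, -1, 2] a ∧
    val n a (D.q 0) = D.u 0 * ![-1, 2, 2, -1] a ∧ val n a (D.q 1) = D.u 1 * ![2, -1, 2, -1] a ∧
    val n a (D.q 2) = D.u 2 * ![2, 2, -1, 2] a ∧
    val n a (D.m 0) = D.e * ![4, -2, -2, -2] a ∧ val n a (D.m 1) = D.e * ![-2, 4, -2, -2] a ∧
    val n a (D.m 2) = D.e * ![-2, -2, 4, 1] a := by
  simp only [val, Fin.sum_univ_succ, Fin.sum_univ_zero]
  simp only [D.val_o, D.val_l, D.val_p, D.val_q, D.val_m]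
  fin_cases a <;> simp [coef, prin] <;> (and_intros <;> ring)

/-- The contribution of the remaining members. -/
noncomputable def restSum : ℂ :=
  ∑ x ∈ ([o, D.l 0, D.l 1, D.l 2, D.p 0, D.p 1, D.p 2, D.q 0, D.q 1, D.q 2, D.m 0, D.m 1, D.m 2].toFinset)ᶜ,
    (n 9 x : ℂ) * n 9 x * n 9 x / d x

theorem unit_inv {v : ℤ} (hv : v * v = 1) (c c' c'' : ℤ) (dd : ℤ) :
    ((v * c : ℤ) : ℂ) * (v * c' : ℤ) * (v * c'' : ℤ) / dd = ((c * c' * c'' : ℤ) : ℂ) / (v * dd : ℤ) := by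
  rcases mul_self_eq_one_iff.1 hv with r | r <;> subst r
  · simp
  · simp [div_neg, neg_div]

/-- The sum in terms of the signed degrees. -/
theorem msum_eq (h : Vecs n d o) (a b c : Fin 4) : msum n d a b c =
    1 + 1 / ((D.s 0 * d (D.l 0) : ℤ) : ℂ) + 1 / ((D.s 1 * d (D.l 1) : ℤ) : ℂ) + 1 / ((D.s 2 * d (D.l 2) : ℤ) : ℂ) +
      ((![-1, 2, 2, -1] a * ![-1, 2, 2, -1] b * ![-1, 2, 2, -1] c : ℤ) : ℂ) *
        (1 / ((D.t 0 * d (D.p 0) : ℤ) : ℂ) + 1 / ((D.u 0 * d (D.q 0) : ℤ) : ℂ)) +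
      ((![2, -1, 2, -1] a * ![2, -1, 2, -1] b * ![2, -1, 2, -1] c : ℤ) : ℂ) *
        (1 / ((D.t 1 * d (D.p 1) : ℤ) : ℂ) + 1 / ((D.u 1 * d (D.q 1) : ℤ) : ℂ)) +
      ((![2, 2, -1, 2] a * ![2, 2, -1, 2] b * ![2, 2, -1, 2] c : ℤ) : ℂ) *
        (1 / ((D.t 2 * d (D.p 2) : ℤ) : ℂ) + 1 / ((D.u 2 * d (D.q 2) : ℤ) : ℂ)) +
      ((![4, -2, -2, -2] a * ![4, -2, -2, -2] b * ![4, -2, -2, -2] c +
        ![-2, 4, -2, -2] a * ![-2, 4, -2, -2] b * ![-2, 4, -2, -2] c +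
        ![-2, -2, 4, 1] a * ![-2, -2, 4, 1] b * ![-2, -2, 4, 1] c : ℤ) : ℂ) / ((D.e * d (D.m 0) : ℤ) : ℂ) +
      ((coef a 9 * coef b 9 * coef c 9 : ℤ) : ℂ) * D.restSum := by
  unfold msum restSum
  rw [← Finset.sum_add_sum_compl
      [o, D.l 0, D.l 1, D.l 2, D.p 0, D.p 1, D.p 2, D.q 0, D.q 1, D.q 2, D.m 0, D.m 1, D.m 2].toFinset,
    List.sum_toFinset _ D.nd, Finset.mul_sum]
  congr 1
  · obtain ⟨ao, al0, al1, al2, ap0, ap1, ap2, aq0, aq1, aq2, am0, am1, am2⟩ := D.vals a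
    obtain ⟨bo, bl0, bl1, bl2, bp0, bp1, bp2, bq0, bq1, bq2, bm0, bm1, bm2⟩ := D.vals b
    obtain ⟨co, cl0, cl1, cl2, cp0, cp1, cp2, cq0, cq1, cq2, cm0, cm1, cm2⟩ := D.vals c
    simp only [List.map_cons, List.map_nil, List.sum_cons, List.sum_nil]
    rw [ap0, ap1, ap2, aq0, aq1, aq2, am0, am1, am2, bp0, bp1, bp2, bq0, bq1, bq2, bm0, bm1, bm2,
      cp0, cp1, cp2, cq0, cq1, cq2, cm0, cm1, cm2, unit_inv (D.ht 0), unit_inv (D.ht 1), unit_inv (D.ht 2),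
      unit_inv (D.hu 0), unit_inv (D.hu 1), unit_inv (D.hu 2), unit_inv D.he, unit_inv D.he, unit_inv D.he,
      D.deg_m.1, D.deg_m.2, ao, bo, co, h.hone, al0, al1, al2, bl0, bl1, bl2, cl0, cl1, cl2]
    have e1 : ∀ {v : ℤ}, v * v = 1 → ∀ dd : ℤ, (v : ℂ) * v * v / dd = 1 / ((v * dd : ℤ) : ℂ) := by
      intro v hv dd
      simpa using unit_inv hv 1 1 1 dd
    rw [e1 (D.hs 0), e1 (D.hs 1), e1 (D.hs 2)]
    push_cast
    ring
  · refine Finset.sum_congr rfl fun x hx => ?_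
    rw [Finset.mem_compl, List.mem_toFinset] at hx
    have hval : ∀ a, val n a x = coef a 9 * n 9 x := fun a => by
      simp only [val]
      exact Finset.sum_eq_single_of_mem 9 (Finset.mem_univ _) fun i _ hi => by rw [D.rest i hi x hx, mul_zero]
    rw [hval a, hval b, hval c]
    push_cast
    ring

end Decomp

/-- The conclusion of the counting. -/
theorem msum_27 (h : Vecs n d o) (h1 : msum n d 0 0 2 = 0) (h2 : msum n d 0 0 1 = 0) (h3 : msum n d 1 1 0 = 0)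
    (h4 : msum n d 0 1 2 = 0) : msum n d 0 1 3 = 27 := by
  obtain ⟨D⟩ := exists_decomp h
  rw [D.msum_eq h] at h1 h2 h3 h4 ⊢
  obtain ⟨g0, g1, g2⟩ := D.deg_gamma'
  obtain ⟨L, hL⟩ : ∃ L : Fin 3 → ℤ, ∀ k, D.s k * d (D.l k) = L k := ⟨_, fun _ => rfl⟩
  obtain ⟨P, hP⟩ : ∃ P : Fin 3 → ℤ, ∀ k, D.t k * d (D.p k) = P k := ⟨_, fun _ => rfl⟩
  obtain ⟨Q, hQ⟩ : ∃ Q : Fin 3 → ℤ, ∀ k, D.u k * d (D.q k) = Q k := ⟨_, fun _ => rfl⟩
  obtain ⟨T, hT⟩ : ∃ T : ℤ, D.e * d (D.m 0) = T := ⟨_, rfl⟩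
  have nz : ∀ {v : ℤ} (x : ι), v * v = 1 → v * d x ≠ 0 := fun x hv => mul_ne_zero
    (fun r => by rw [r] at hv; simp at hv) (h.hpos x).ne'
  have L0 : ∀ k, L k ≠ 0 := fun k => hL k ▸ nz _ (D.hs k)
  have P0 : ∀ k, P k ≠ 0 := fun k => hP k ▸ nz _ (D.ht k)
  have Q0 : ∀ k, Q k ≠ 0 := fun k => hQ k ▸ nz _ (D.hu k)
  have T0 : T ≠ 0 := hT ▸ nz _ D.he
  have eP : ∀ k, P k = 1 + L k := fun k => by rw [← hP, ← hL]; exact (D.deg_gamma k).symm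
  have eT : T = 1 + L 0 + L 1 + L 2 := by rw [← hT, ← hL, ← hL, ← hL]; exact D.deg_omega
  have eQ : Q 0 = L 1 + L 2 ∧ Q 1 = L 0 + L 2 ∧ Q 2 = L 0 + L 1 := by
    simp only [← hQ, ← hL]; exact ⟨g0, g1, g2⟩
  simp only [hL, hP, hQ, hT, coef, Matrix.cons_val_zero, Matrix.cons_val_one, Matrix.cons_val] at h1 h2 h3 h4 ⊢
  push_cast at h1 h2 h3 h4 ⊢
  obtain ⟨u, hu⟩ : ∃ u : Fin 3 → ℂ, ∀ k, 1 / (P k : ℂ) + 1 / (Q k : ℂ) = u k := ⟨_, fun _ => rfl⟩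
  simp only [hu] at h1 h2 h3 h4 ⊢
  have e12 : u 1 = u 2 := by linear_combination (1 / 12 : ℂ) * h1 - (1 / 12 : ℂ) * h2
  have e01 : u 0 = u 1 := by linear_combination (1 / 6 : ℂ) * h2 - (1 / 6 : ℂ) * h3
  have e0T : u 0 = 4 / (T : ℂ) := by
    linear_combination (1 / 18 : ℂ) * h1 - (1 / 18 : ℂ) * h4 + (2 / 3 : ℂ) * e01
  have hsum : ∀ k, P k + Q k = T := by
    intro k; obtain ⟨a, b, c⟩ := eQ
    fin_cases k <;> simp [eP, eT, a, b, c] <;> ring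
  have huk : ∀ k, u k = 4 / (T : ℂ) := by
    intro k; fin_cases k
    exacts [e0T, e01 ▸ e0T, e12 ▸ e01 ▸ e0T]
  have hPQ : ∀ k, P k = Q k := by
    intro k
    have := huk k
    rw [← hu k] at this
    have hp : (P k : ℂ) ≠ 0 := Int.cast_ne_zero.2 (P0 k)
    have hq : (Q k : ℂ) ≠ 0 := Int.cast_ne_zero.2 (Q0 k)
    have ht : (T : ℂ) ≠ 0 := Int.cast_ne_zero.2 T0
    field_simp at this
    have hz : (Q k + P k) * T = 4 * (P k * Q k) := by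
      apply Int.cast_injective (α := ℂ); push_cast; linear_combination this
    rw [← hsum k] at hz
    nlinarith only [hz, mul_self_nonneg (P k - Q k)]
  obtain ⟨a, b, c⟩ := eQ
  have p0 := hPQ 0; have p1 := hPQ 1; have p2 := hPQ 2
  rw [eP, a] at p0
  rw [eP, b] at p1
  rw [eP, c] at p2
  have hL1 : L 0 = 1 ∧ L 1 = 1 ∧ L 2 = 1 := by omega
  obtain ⟨l0, l1, l2⟩ := hL1
  have hT4 : T = 4 := by omega
  rw [huk 0, huk 1, huk 2, l0, l1, l2, hT4] at h4 ⊢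
  push_cast at h4 ⊢
  linear_combination (-1 / 2 : ℂ) * h4

end Cfsg.Lib.EvenTriple
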