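import Cfsg.Agent.LocalThree.MonomialCert
import Cfsg.Agent.LocalThree.MonomialTables

/-!
The class multiplication equations of the special functions of the monomial group of order `648`
leave only a group of that order.
-/

set_option autoImplicit false
set_option linter.unusedSectionVars false
set_option maxRecDepth 8000

namespace Cfsg.Lib.Monomial

open GramSplit

/-- The scalar products of the special functions. -/
def gram (i j : ℕ) : ℤ := get gramRest i j + ent prin i * ent prin j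

/-- The value of a row at one of the three classes. -/
def vr (a : Fin 3) (r : Row) : ℤ :=
  ((List.range 9).map fun i => (coefTab.getD a []).getD i 0 * ent r i).sum

theorem vr_prin : ∀ a : Fin 3, vr a prin = 1 := by decide +kernel

variable {ι : Type*} [Fintype ι] [DecidableEq ι]

/-- The value at a member. -/
def val (n : ℕ → ι → ℤ) (a : Fin 3) (x : ι) : ℤ := vr a (col 9 n x)

/-- The class multiplication sum. -/
noncomputable def msum (n : ℕ → ι → ℤ) (d : ι → ℤ) (a b c : Fin 3) : ℂ :=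
  ∑ x, (val n a x : ℂ) * val n b x * val n c x / d x

/-- The vectors. -/
structure Vecs (n : ℕ → ι → ℤ) (d : ι → ℤ) (o : ι) : Prop where
  hgram : ∀ i < 9, ∀ j < 9, ∑ x, n i x * n j x = gram i j
  hprin : ∀ i < 9, n i o = ent prin i
  hdeg : ∀ i < 9, ∑ x, n i x * d x = 0
  hpos : ∀ x, 0 < d x
  hone : d o = 1

theorem vr_neg (a : Fin 3) (r : Row) : vr a (r.map Neg.neg) = -vr a r := by
  have : ∀ i, ent (r.map Neg.neg) i = -ent r i := fun i => by
    simp only [ent, List.getD_eq_getElem?_getD, List.getElem?_map]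
    cases r[i]? <;> simp
  simp only [vr, this, mul_neg]
  induction List.range 9 with
  | nil => simp
  | cons b l ih => simp only [List.map_cons, List.sum_cons, ih]; ring

/-- The rows with their signed degrees. -/
theorem exists_split {n : ℕ → ι → ℤ} {d : ι → ℤ} {o : ι} (h : Vecs n d o) :
    ∃ D : List (Row × ℤ), D.map Prod.fst ∈ sols ∧ (∀ p ∈ D, p.2 ≠ 0) ∧
      (∀ i < 9, ent prin i + (D.map fun p => ent p.1 i * p.2).sum = 0) ∧
      1 + (D.map fun p => p.2 * p.2).sum ≤ ∑ x, d x * d x ∧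
      ∀ a b c, msum n d a b c = 1 + (D.map fun p => ((vr a p.1 * vr b p.1 * vr c p.1 : ℤ) : ℂ) / (p.2 : ℂ)).sum := by
  obtain ⟨L, hnd, hLs, hrest, l, hl, hp⟩ := decompose n (Finset.univ.erase o)
    (fun i hi j hj => by
      have e := h.hgram i hi j hj
      rw [← Finset.add_sum_erase _ _ (Finset.mem_univ o), h.hprin i hi, h.hprin j hj, gram] at e
      linarith only [e])
    (fun x _ => List.not_mem_nil)
  obtain ⟨L', hL', hmap⟩ := exists_perm_map (fun x => nrm (col 9 n x)) (by simpa using hp)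
  obtain ⟨sg, hsg⟩ : ∃ sg : ι → ℤ, ∀ x, sg x * sg x = 1 ∧ ∀ i < 9, n i x = sg x * ent (nrm (col 9 n x)) i := by
    refine ⟨fun x => if nrm (col 9 n x) = col 9 n x then 1 else -1, fun x => ⟨by dsimp only; split_ifs <;> rfl, fun i hi => ?_⟩⟩
    simp only
    split_ifs with he
    · rw [he, ent_col hi, one_mul]
    · rw [(nrm_sign _).resolve_left he]
      have e : ent ((col 9 n x).map Neg.neg) i = -ent (col 9 n x) i := by
        simp [ent, col, List.getD_eq_getElem?_getD, hi]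
      rw [e, ent_col hi]; ring
  have hvr : ∀ a x, val n a x = sg x * vr a (nrm (col 9 n x)) := by
    intro a x
    simp only [val, vr]
    rw [← List.sum_map_mul_left]
    refine congrArg List.sum (List.map_congr_left fun i hi => ?_)
    rw [ent_col (List.mem_range.1 hi), (hsg x).2 i (List.mem_range.1 hi)]
    ring
  have hnd' : L'.Nodup := hL'.nodup_iff.2 hnd
  have hmem : ∀ x, x ∈ L' ↔ x ∈ L := fun x => hL'.mem_iff
  have hoL : o ∉ L' := fun hm => (Finset.mem_erase.1 (hLs o ((hmem o).1 hm))).1 rfl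
  have hzero : ∀ x, x ≠ o → x ∉ L' → ∀ i < 9, n i x = 0 := fun x hx hxL i hi =>
    hrest x (Finset.mem_erase.2 ⟨hx, Finset.mem_univ _⟩) (fun hm => hxL ((hmem x).2 hm)) i hi
  have split : ∀ {M : Type} [AddCommMonoid M] (f : ι → M), (∀ x, x ≠ o → x ∉ L' → f x = 0) →
      ∑ x, f x = f o + (L'.map f).sum := by
    intro M _ f hf
    rw [← List.sum_toFinset _ hnd', ← Finset.sum_subset (Finset.subset_univ (insert o L'.toFinset)) fun x _ hx => ?_]
    · rw [Finset.sum_insert (by simpa using hoL)]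
    · simp only [Finset.mem_insert, List.mem_toFinset, not_or] at hx
      exact hf x hx.1 hx.2
  refine ⟨L'.map fun x => (nrm (col 9 n x), sg x * d x), ?_, ?_, fun i hi => ?_, ?_, fun a b c => ?_⟩
  · rw [List.map_map]; exact (show L'.map _ = l from hmap) ▸ hl
  · intro p hp
    obtain ⟨x, _, rfl⟩ := List.mem_map.1 hp
    exact mul_ne_zero (fun e => by have := (hsg x).1; simp [e] at this) (h.hpos x).ne'
  · have e := h.hdeg i hi
    rw [split _ fun x h1 h2 => by rw [hzero x h1 h2 i hi, zero_mul], h.hprin i hi, h.hone, mul_one] at e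
    rw [List.map_map, ← e]
    congr 2
    refine List.map_congr_left fun x _ => ?_
    rw [Function.comp_apply, (hsg x).2 i hi]
    ring
  · rw [List.map_map, ← List.sum_toFinset _ hnd']
    have e1 : d o * d o = 1 := by rw [h.hone]; rfl
    have h2 := Finset.sum_le_sum_of_subset_of_nonneg (f := fun x => d x * d x)
      (Finset.subset_univ (insert o L'.toFinset)) fun x _ _ => mul_self_nonneg _
    rw [Finset.sum_insert (by simpa using hoL), e1] at h2
    refine le_trans (le_of_eq (congrArg (1 + ·) (Finset.sum_congr rfl fun x _ => ?_))) h2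
    show sg x * d x * (sg x * d x) = _
    linear_combination (d x * d x) * (hsg x).1
  · have vo : ∀ a, val n a o = 1 := fun a => by
      rw [← vr_prin a, val, vr, vr]
      refine congrArg List.sum (List.map_congr_left fun i hi => ?_)
      rw [ent_col (List.mem_range.1 hi), h.hprin i (List.mem_range.1 hi)]
    rw [msum, split _ fun x h1 h2 => by
      have : val n a x = 0 := by
        simp only [val, vr]
        refine List.sum_eq_zero fun z hz => ?_
        obtain ⟨i, hi, rfl⟩ := List.mem_map.1 hz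
        rw [ent_col (List.mem_range.1 hi), hzero x h1 h2 i (List.mem_range.1 hi), mul_zero]
      simp [this], vo, vo, vo, h.hone, List.map_map]
    simp only [Int.cast_one, mul_one, div_one]
    congr 2
    refine List.map_congr_left fun x _ => ?_
    rw [Function.comp_apply, hvr a, hvr b, hvr c]
    rcases mul_self_eq_one_iff.1 (hsg x).1 with e | e <;> simp [e, div_neg, neg_div]

/-- No solution in a range. -/
theorem no_small : ∀ s : Fin 54, ∀ t : Fin 243, (0 : ℤ) < s → (0 : ℤ) < t →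
    ¬((-((2 * (t : ℤ) - s) * (2 * (s : ℤ) - t))) % (24 * (t : ℤ)) = 0 ∧
      28 ≤ (-((2 * (t : ℤ) - s) * (2 * (s : ℤ) - t))) / (24 * (t : ℤ)) ∧
      (-((2 * (t : ℤ) - s) * (2 * (s : ℤ) - t))) / (24 * (t : ℤ)) % 27 = 1) := by
  decide +kernel

theorem arith {k x0 x12 x2 x4 : ℤ} (hk : 28 ≤ k) (hk27 : k % 27 = 1) (n2 : x2 ≠ 0) (n4 : x4 ≠ 0)
    (n0 : x0 ≠ 0) (n12 : x12 ≠ 0) (hs : x2 + x4 = x0 + 2 * x12)
    (e1 : 8 * k * (x12 + 2 * x0) = -3 * (x0 * x12)) (e3 : 6 * k * (x2 + x4) = -(x2 * x4))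
    (q1 : x0 * x0 + x12 * x12 ≤ 648 * k) (q3 : x2 * x2 + x4 * x4 ≤ 648 * k) : False := by
  obtain ⟨s, hsd⟩ : ∃ s, x2 + x4 = s := ⟨_, rfl⟩
  obtain ⟨t, htd⟩ : ∃ t, x12 + 2 * x0 = t := ⟨_, rfl⟩
  rw [hsd] at e3 hs
  rw [htd] at e1
  have hs0 : s ≠ 0 := fun e => by subst e; simp [n2, n4] at e3
  have ht0 : t ≠ 0 := fun e => by subst e; simp [n0, n12] at e1
  have hspos : 0 < s := by
    by_contra hc
    have hsn : s < 0 := lt_of_le_of_ne (not_lt.1 hc) hs0
    have d1 : 0 ≤ s * (s + 24 * k) := by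
      have e : s * (s + 24 * k) = (x2 - x4) * (x2 - x4) := by subst hsd; linear_combination 4 * e3
      rw [e]; exact mul_self_nonneg _
    have d2 : s + 24 * k ≤ 0 := by nlinarith only [d1, hsn]
    have d3 : s * (s + 12 * k) ≤ 648 * k := by
      have e : s * (s + 12 * k) = x2 * x2 + x4 * x4 := by subst hsd; linear_combination 2 * e3
      rw [e]; exact q3
    nlinarith only [d2, d3, hk, mul_nonneg (by linarith only [d2, hk] : (0:ℤ) ≤ -s - 24 * k) (by linarith only [hk] : (0:ℤ) ≤ k)]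
  have htpos : 0 < t := by
    by_contra hc
    have htn : t < 0 := lt_of_le_of_ne (not_lt.1 hc) ht0
    have d1 : 0 ≤ t * (3 * t + 64 * k) := by
      have e : t * (3 * t + 64 * k) = 3 * ((2 * x0 - x12) * (2 * x0 - x12)) := by
        subst htd; linear_combination 8 * e1
      rw [e]; exact mul_nonneg (by norm_num) (mul_self_nonneg _)
    have d2 : 3 * t + 64 * k ≤ 0 := by nlinarith only [d1, htn]
    have d3 : t * (3 * t + 32 * k) ≤ 12 * (648 * k) := by
      have e : t * (3 * t + 32 * k) = 3 * (4 * (x0 * x0) + x12 * x12) := by subst htd; linear_combination 4 * e1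
      rw [e]; nlinarith only [q1, mul_self_nonneg x12]
    nlinarith only [d2, d3, hk, mul_nonneg (by linarith only [d2] : (0:ℤ) ≤ -3 * t - 64 * k) (by linarith only [hk] : (0:ℤ) ≤ k)]
  have hs54 : s < 54 := by
    have e : s * (s + 12 * k) = x2 * x2 + x4 * x4 := by subst hsd; linear_combination 2 * e3
    nlinarith only [e, q3, hspos, hk]
  have ht243 : t < 243 := by
    have e : t * (3 * t + 32 * k) = 3 * (4 * (x0 * x0) + x12 * x12) := by subst htd; linear_combination 4 * e1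
    nlinarith only [e, q1, htpos, hk, mul_self_nonneg x12]
  have key : -((2 * t - s) * (2 * s - t)) = 24 * t * k := by
    subst htd
    rw [hs]
    linear_combination -3 * e1
  have := no_small ⟨s.toNat, by omega⟩ ⟨t.toNat, by omega⟩
  simp only [Int.toNat_of_nonneg hspos.le, Int.toNat_of_nonneg htpos.le] at this
  refine this hspos htpos ?_
  rw [key, Int.mul_ediv_cancel_left _ (by omega : (24 * t : ℤ) ≠ 0)]
  exact ⟨Int.mul_emod_right _ _, hk, hk27⟩

set_option maxHeartbeats 1000000 in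
/-- The conclusion of the counting. -/
theorem card_eq {n : ℕ → ι → ℤ} {d : ι → ℤ} {o : ι} (h : Vecs n d o) (k : ℕ) (hk : k % 27 = 1)
    (hsq : ∑ x, d x * d x = 648 * (k : ℤ))
    (eq : ∀ a b c : Fin 3, ∀ N : ℕ,
      ((a, b, c), N) ∈ ([((0, 0, 1), 23328), ((0, 0, 2), 0), ((0, 1, 1), 11664), ((0, 1, 2), 17496),
        ((0, 2, 2), 26244), ((1, 1, 2), 17496), ((1, 2, 2), 13122)] : List ((Fin 3 × Fin 3 × Fin 3) × ℕ)) →
      (N : ℂ) = 648 * (k : ℂ) * msum n d a b c) : k = 1 := by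
  obtain ⟨D, hD, hne, hdeg, hle, hms⟩ := exists_split h
  rw [hsq] at hle
  have hk0 : (k : ℂ) ≠ 0 := Nat.cast_ne_zero.2 (by omega)
  have E1 := eq 0 0 1 23328 (by simp); have E2 := eq 0 0 2 0 (by simp); have E3 := eq 0 1 1 11664 (by simp)
  have E4 := eq 0 1 2 17496 (by simp); have E5 := eq 0 2 2 26244 (by simp)
  have E6 := eq 1 1 2 17496 (by simp); have E7 := eq 1 2 2 13122 (by simp)
  rw [hms] at E1 E2 E3 E4 E5 E6 E7
  have g : ∀ i : Fin 9, ent prin i + (D.map fun p => ent p.1 i * p.2).sum = 0 := fun i => hdeg i i.2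
  have g0 := g 0; have g1 := g 1; have g2 := g 2; have g3 := g 3; have g4 := g 4; have g5 := g 5
  have g6 := g 6; have g7 := g 7; have g8 := g 8
  simp only [sols, List.mem_cons, List.not_mem_nil, or_false] at hD
  rcases hD with hD | hD | hD | hD
  · simp only [sol0, List.map_eq_cons_iff, List.map_eq_nil_iff] at hD
    obtain ⟨⟨r0, x0⟩, _, rfl, rfl, ⟨r1, x1⟩, _, rfl, rfl, ⟨r2, x2⟩, _, rfl, rfl, ⟨r3, x3⟩, _, rfl, rfl, ⟨r4, x4⟩, _,
      rfl, rfl, ⟨r5, x5⟩, _, rfl, rfl, ⟨r6, x6⟩, _, rfl, rfl, ⟨r7, x7⟩, _, rfl, rfl, ⟨r8, x8⟩, _, rfl, rfl, ⟨r9, x9⟩, _,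
      rfl, rfl, ⟨r10, x10⟩, _, rfl, rfl, ⟨r11, x11⟩, _, rfl, rfl, ⟨r12, x12⟩, _, rfl, rfl, rfl⟩ := hD
    simp [ent, prin, List.getD_eq_getElem?_getD] at g0 g1 g2 g3 g4 g5 g6 g7 g8
    simp [vr, ent, coefTab, List.range_succ, List.getD_eq_getElem?_getD] at E1 E2 E3 E4 E5 E6 E7
    simp only [List.forall_mem_cons] at hne
    obtain ⟨n0, n1, n2, n3, n4, n5, n6, n7, n8, n9, n10, n11, n12, -⟩ := hne
    simp only [List.map_cons, List.map_nil, List.sum_cons, List.sum_nil] at hle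
    by_contra hk1
    have hk28 : (28 : ℤ) ≤ k := by omega
    have hx11 : x11 = -x12 := by omega
    subst hx11
    have c0 : (x0 : ℂ) ≠ 0 := Int.cast_ne_zero.2 n0
    have c2 : (x2 : ℂ) ≠ 0 := Int.cast_ne_zero.2 n2
    have c4 : (x4 : ℂ) ≠ 0 := Int.cast_ne_zero.2 n4
    have c12 : (x12 : ℂ) ≠ 0 := Int.cast_ne_zero.2 n12
    have t1 : (k : ℂ) * (1 / (x0 : ℂ) + 2 / (x12 : ℂ)) = -3 / 8 := by
      push_cast [div_neg] at E1 E4 ⊢
      linear_combination (-(1 : ℂ) / 648) * ((-1 / 24 : ℂ) * E1 + (1 / 24 : ℂ) * E4)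
    have t3 : (k : ℂ) * (1 / (x2 : ℂ) + 1 / (x4 : ℂ)) = -1 / 6 := by
      push_cast [div_neg] at E1 E4 E6 ⊢
      linear_combination (-(1 : ℂ) / 648) * ((-1 / 54 : ℂ) * E1 + (1 / 18 : ℂ) * E4 + (-1 / 27 : ℂ) * E6)
    field_simp at t1 t3
    refine arith hk28 (by omega) n2 n4 n0 n12 (by omega) ?_ ?_ ?_ ?_
    · apply Int.cast_injective (α := ℂ); push_cast; linear_combination t1
    · apply Int.cast_injective (α := ℂ); push_cast; linear_combination t3
    · linarith only [hle, mul_self_nonneg x1, mul_self_nonneg x2, mul_self_nonneg x3, mul_self_nonneg x4,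
        mul_self_nonneg x5, mul_self_nonneg x6, mul_self_nonneg x7, mul_self_nonneg x8, mul_self_nonneg x9,
        mul_self_nonneg x10, mul_self_nonneg x12]
    · linarith only [hle, mul_self_nonneg x0, mul_self_nonneg x1, mul_self_nonneg x3,
        mul_self_nonneg x5, mul_self_nonneg x6, mul_self_nonneg x7, mul_self_nonneg x8, mul_self_nonneg x9,
        mul_self_nonneg x10, mul_self_nonneg x12]
  · simp only [sol1, List.map_eq_cons_iff, List.map_eq_nil_iff] at hD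
    obtain ⟨⟨r0, x0⟩, _, rfl, rfl, ⟨r1, x1⟩, _, rfl, rfl, ⟨r2, x2⟩, _, rfl, rfl, ⟨r3, x3⟩, _, rfl, rfl, ⟨r4, x4⟩, _,
      rfl, rfl, ⟨r5, x5⟩, _, rfl, rfl, ⟨r6, x6⟩, _, rfl, rfl, ⟨r7, x7⟩, _, rfl, rfl, ⟨r8, x8⟩, _, rfl, rfl, ⟨r9, x9⟩, _,
      rfl, rfl, ⟨r10, x10⟩, _, rfl, rfl, ⟨r11, x11⟩, _, rfl, rfl, rfl⟩ := hD
    simp [ent, prin, List.getD_eq_getElem?_getD] at g0 g1 g2 g3 g4 g5 g6 g7 g8
    simp only [List.forall_mem_cons] at hne
    omega
  · simp only [sol2, List.map_eq_cons_iff, List.map_eq_nil_iff] at hD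
    obtain ⟨⟨r0, x0⟩, _, rfl, rfl, ⟨r1, x1⟩, _, rfl, rfl, ⟨r2, x2⟩, _, rfl, rfl, ⟨r3, x3⟩, _, rfl, rfl, ⟨r4, x4⟩, _,
      rfl, rfl, ⟨r5, x5⟩, _, rfl, rfl, ⟨r6, x6⟩, _, rfl, rfl, ⟨r7, x7⟩, _, rfl, rfl, ⟨r8, x8⟩, _, rfl, rfl, ⟨r9, x9⟩, _,
      rfl, rfl, ⟨r10, x10⟩, _, rfl, rfl, rfl⟩ := hD
    simp [ent, prin, List.getD_eq_getElem?_getD] at g0 g1 g2 g3 g4 g5 g6 g7 g8
    simp only [List.forall_mem_cons] at hne
    omega
  · simp only [sol3, List.map_eq_cons_iff, List.map_eq_nil_iff] at hD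
    obtain ⟨⟨r0, x0⟩, _, rfl, rfl, ⟨r1, x1⟩, _, rfl, rfl, ⟨r2, x2⟩, _, rfl, rfl, ⟨r3, x3⟩, _, rfl, rfl, ⟨r4, x4⟩, _,
      rfl, rfl, ⟨r5, x5⟩, _, rfl, rfl, ⟨r6, x6⟩, _, rfl, rfl, ⟨r7, x7⟩, _, rfl, rfl, ⟨r8, x8⟩, _, rfl, rfl, ⟨r9, x9⟩, _,
      rfl, rfl, ⟨r10, x10⟩, _, rfl, rfl, ⟨r11, x11⟩, _, rfl, rfl, rfl⟩ := hD
    simp [vr, ent, coefTab, List.range_succ, List.getD_eq_getElem?_getD] at E1 E2 E3 E4 E5 E6 E7
    simp only [List.forall_mem_cons] at hne
    have c2 : (x2 : ℂ) ≠ 0 := Int.cast_ne_zero.2 hne.2.2.1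
    have E2' := E2.resolve_left (by omega)
    have t : (k : ℂ) * (1 / (x2 : ℂ)) = 0 := by
      linear_combination (-(1 : ℂ) / 648) * ((1 / 54 : ℂ) * E1 + (1 / 54 : ℂ) * E3 +
        (1 / 54 : ℂ) * E5 + (-1 / 27 : ℂ) * E6 + (-1 / 27 : ℂ) * E7) + ((k : ℂ) / 54) * E2'
    simp [hk0, c2] at t

end Cfsg.Lib.Monomial
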