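import Cfsg.Agent.LocalThree.MonomialChars
import Cfsg.Agent.LocalThree.MonomialValue
import Cfsg.Agent.Chars.Sums
import Cfsg.Agent.Chars.Count
import Cfsg.Agent.Components.Cores
import Cfsg.Prelude.Def_TwoFusion

/-!
A group with a subgroup isomorphic to the monomial group of order `648` that contains the centralisers
of the nontrivial elements of its translation subgroup, which is strongly closed in it, is that group.
-/

set_option autoImplicit false
set_option linter.unusedSectionVars false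
set_option maxRecDepth 8000

namespace Cfsg.Lib.Monomial

open Subgroup Cfsg.Lib.Chars Cfsg.Lib.GramSplit
open scoped ComplexConjugate Pointwise

/-- The classes in the translation subgroup. -/
def acls : Fin 3 → Fin 14 := ![5, 12, 13]

def csize : Fin 3 → ℕ := ![108, 54, 81]

theorem rep_acls : ∀ a, InV (rep (acls a)) ∧ rep (acls a) ≠ 1 := by decide +kernel

theorem inV_cls : ∀ k : Mon, InV k → k ≠ 1 → ∃ a, cls k = acls a := by decide +kernel

theorem inV_inv : ∀ k : Mon, InV k → cls k⁻¹ = cls k := by decide +kernel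

theorem inV_comm : ∀ a : Fin 3, ∀ k : Mon, InV k → k * rep (acls a) = rep (acls a) * k := by decide +kernel

theorem card_cent : ∀ a, (Finset.univ.filter fun k : Mon => k * rep (acls a) = rep (acls a) * k).card = csize a := by
  decide +kernel

theorem csize_inj : Function.Injective csize := by decide +kernel

theorem card_inV : (Finset.univ.filter fun k : Mon => InV k).card = 27 := by decide +kernel

theorem card_mon : Nat.card Mon = 648 := by
  rw [Nat.card_congr monEquiv, Nat.card_prod, Nat.card_fin, Nat.card_fin]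

/-- The exponent bringing a class into the translation subgroup. -/
def powc (c : Fin 14) : ℕ := [1, 1, 1, 1, 1, 1, 2, 4, 4, 4, 3, 3, 1, 1].getD c 1

def powN (k : Mon) : ℕ → Mon
  | 0 => 1
  | n + 1 => powN k n * k

theorem powN_eq (k : Mon) : ∀ n, powN k n = k ^ n
  | 0 => (pow_zero k).symm
  | n + 1 => by rw [powN, powN_eq k n, pow_succ]

theorem specP_supp : ∀ k : Mon, (InV (powN k (powc (cls k))) ∧ powN k (powc (cls k)) ≠ 1) ∨
    ∀ i : Fin 9, specP i (cls k) = (0, 0) := by decide +kernel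

/-- The scalar products. -/
theorem gram_sum : ∀ i j : Fin 9,
    ∑ c : Fin 14, (sizeTab.getD c 0 : ℤ) * ((specP i c).1 * (specP j c).1 + 3 * ((specP i c).2 * (specP j c).2)) =
        648 * gram i j ∧
      ∑ c : Fin 14, (sizeTab.getD c 0 : ℤ) * ((specP i c).1 * (specP j c).2 + (specP i c).2 * (specP j c).1) = 0 := by
  decide +kernel

theorem prin_sum : ∀ i : Fin 9, ∑ c : Fin 14, (sizeTab.getD c 0 : ℤ) * (specP i c).1 = 648 * ent prin i ∧
    ∑ c : Fin 14, (sizeTab.getD c 0 : ℤ) * (specP i c).2 = 0 := by decide +kernel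

theorem indicator : ∀ (a : Fin 3) (c : Fin 14),
    ∑ i : Fin 9, (coefTab.getD a []).getD i 0 * (specP i c).1 = (if c = acls a then (csize a : ℤ) else 0) ∧
      ∑ i : Fin 9, (coefTab.getD a []).getD i 0 * (specP i c).2 = 0 := by decide +kernel

theorem size_acls : ∀ a, sizeTab.getD (acls a) 0 * csize a = 648 := by decide +kernel

/-- The products in the translation subgroup. -/
def cnt (a b c : Fin 3) : ℕ :=
  (Finset.univ.filter fun k : Mon => InV k ∧ cls k = acls a ∧ cls (k⁻¹ * rep (acls c)) = acls b).card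

theorem cnt_vals : cnt 0 0 1 = 2 ∧ cnt 0 0 2 = 0 ∧ cnt 0 1 1 = 2 ∧ cnt 0 1 2 = 3 ∧ cnt 0 2 2 = 3 ∧
    cnt 1 1 2 = 6 ∧ cnt 1 2 2 = 3 := by unfold cnt; decide +kernel

theorem core_bad : ∀ k : Mon, ¬ InV k → ∃ a : Fin 24, powN (powN (powN (powN (⟨0, a⟩ * k * (⟨0, a⟩ : Mon)⁻¹ * k⁻¹) 3) 3) 3) 3 ≠ 1 ∨
    powN (powN (powN (powN k 3) 3) 3) 3 ≠ 1 := by decide +kernel

theorem inV_cube : ∀ k : Mon, InV k → powN k 3 = 1 := by decide +kernel

/-- The translations. -/
def transSub : Subgroup Mon where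
  carrier := {k | InV k}
  mul_mem' := fun {x y} hx hy => by
    show mulA x.a y.a = oneA
    rw [show x.a = oneA from hx, show y.a = oneA from hy, (mulA_one _).1]
  one_mem' := rfl
  inv_mem' := fun {x} hx => by
    show invA x.a = oneA
    rw [show x.a = oneA from hx]; decide +kernel

instance : transSub.Normal where
  conj_mem n hn g := by
    show mulA (mulA g.a n.a) (invA g.a) = oneA
    rw [show n.a = oneA from hn, (mulA_one _).2.1]
    exact (show ∀ a, mulA a (invA a) = oneA by decide +kernel) g.a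

theorem pCore_eq {M : Type*} [Group M] [Finite M] (φ : M ≃* Mon) : Cfsg.pCore 3 M = transSub.comap φ.toMonoidHom := by
  have : Fact (Nat.Prime 3) := ⟨Nat.prime_three⟩
  apply le_antisymm
  · intro x hx
    by_contra hn
    obtain ⟨a, ha⟩ := core_bad (φ x) hn
    have key : ∀ y ∈ Cfsg.pCore 3 M, powN (powN (powN (powN (φ y) 3) 3) 3) 3 = 1 := by
      intro y hy
      simp only [powN_eq, ← pow_mul]
      norm_num
      obtain ⟨n, hn⟩ := Cfsg.Lib.Components.isPGroup_pCore (G := M) 3 ⟨y, hy⟩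
      have hd : orderOf y ∣ Nat.gcd (3 ^ n) (Nat.card M) :=
        Nat.dvd_gcd (orderOf_dvd_of_pow_eq_one (congrArg Subtype.val hn)) (orderOf_dvd_natCard _)
      rw [Nat.card_congr φ.toEquiv, card_mon] at hd
      have h81 : orderOf y ∣ 81 := by
        refine dvd_trans hd ?_
        obtain ⟨i, -, hi⟩ := (Nat.dvd_prime_pow Nat.prime_three).1 (Nat.gcd_dvd_left (3 ^ n) 648)
        have h2 := Nat.gcd_dvd_right (3 ^ n) 648
        rw [hi] at h2 ⊢
        have hle : i ≤ 4 := by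
          by_contra hc
          have := dvd_trans (pow_dvd_pow 3 (show 5 ≤ i by omega)) h2
          norm_num at this
        exact dvd_trans (pow_dvd_pow 3 hle) (by norm_num)
      rw [← map_pow, orderOf_dvd_iff_pow_eq_one.1 h81, map_one]
    rcases ha with ha | ha
    · refine ha ?_
      have := key (φ.symm ⟨0, a⟩ * x * (φ.symm ⟨0, a⟩)⁻¹ * x⁻¹)
        (mul_mem ((Cfsg.Lib.Components.pCore_normal' 3).conj_mem x hx _) (inv_mem hx))
      simpa using this
    · exact ha (key x hx)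
  · refine Cfsg.Lib.Components.le_pCore ?_
    intro y
    refine ⟨1, Subtype.ext (φ.injective ?_)⟩
    rw [pow_one, SubmonoidClass.coe_pow, map_pow, ← powN_eq]
    simpa using inV_cube _ y.2

universe u

variable {G : Type u} [Group G] [Finite G]

/-- The data. -/
structure Setup (H J : Subgroup G) where
  φ : ↥H ≃* Mon
  memJ : ∀ x : H, (x : G) ∈ J ↔ InV (φ x)
  hC : ∀ j ∈ J, j ≠ 1 → centralizer ({j} : Set G) ≤ H
  hsc : Cfsg.IsStronglyClosed J H

theorem exists_setup (H : Subgroup G)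
    (hH : Nonempty (↥H ≃* ↥(Subgroup.closure ({Equiv.swap (0 : Fin 9) 1 * Equiv.swap 1 2,
        Equiv.swap (0 : Fin 9) 3 * Equiv.swap 3 6 * (Equiv.swap (1 : Fin 9) 4 * Equiv.swap 4 7) * (Equiv.swap (2 : Fin 9) 5 * Equiv.swap 5 8),
        Equiv.swap (0 : Fin 9) 1 * Equiv.swap 3 4, Equiv.swap (0 : Fin 9) 3 * Equiv.swap 1 4 * Equiv.swap 2 5 * Equiv.swap 6 7} : Set (Equiv.Perm (Fin 9))))))
    (J : Subgroup G) (hJ : J = (Cfsg.pCore 3 ↥H).map H.subtype)
    (hC : ∀ j ∈ J, j ≠ 1 → Subgroup.centralizer ({j} : Set G) ≤ H) (hsc : Cfsg.IsStronglyClosed J H) :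
    Nonempty (Setup H J) := by
  obtain ⟨e⟩ := hH
  let φ : ↥H ≃* Mon := (e.trans (MulEquiv.subgroupCongr image_eq)).trans (MonoidHom.ofInjective toNine_injective).symm
  refine ⟨⟨φ, fun x => ?_, hC, hsc⟩⟩
  have hx : (x : G) ∈ J ↔ x ∈ Cfsg.pCore 3 ↥H := by
    rw [hJ]
    exact ⟨fun ⟨y, hy, hyx⟩ => Subtype.ext hyx ▸ hy, fun h => ⟨x, h, rfl⟩⟩
  rw [hx, pCore_eq φ]
  exact Iff.rfl

namespace Setup

variable {H J : Subgroup G} (S : Setup H J)

include S

theorem le : J ≤ H := S.hsc.1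

theorem card_sub (p : Mon → Prop) [DecidablePred p] :
    Nat.card {x : H // p (S.φ x)} = (Finset.univ.filter p).card := by
  rw [← Nat.card_eq_finsetCard]
  exact Nat.card_congr (Equiv.subtypeEquiv S.φ.toEquiv fun x => by simp)

theorem cardH : Nat.card H = 648 := (Nat.card_congr S.φ.toEquiv).trans card_mon

theorem cardJ : Nat.card J = 27 := by
  rw [← card_inV, ← S.card_sub InV]
  exact Nat.card_congr
    { toFun := fun t => ⟨⟨t.1, S.le t.2⟩, (S.memJ _).1 t.2⟩
      invFun := fun x => ⟨x.1.1, (S.memJ _).2 x.2⟩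
      left_inv := fun _ => rfl
      right_inv := fun _ => rfl }

/-- The representatives in `G`. -/
noncomputable def el (a : Fin 3) : H := S.φ.symm (rep (acls a))

theorem el_spec (a : Fin 3) : S.φ (S.el a) = rep (acls a) := S.φ.apply_symm_apply _

theorem el_mem (a : Fin 3) : (S.el a : G) ∈ J := (S.memJ _).2 (by rw [S.el_spec]; exact (rep_acls a).1)

theorem el_ne (a : Fin 3) : (S.el a : G) ≠ 1 := fun h => (rep_acls a).2 (by
  rw [← S.el_spec, show S.el a = 1 from Subtype.ext h, map_one])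

theorem card_centralizer (a : Fin 3) : Nat.card (centralizer ({(S.el a : G)} : Set G)) = csize a := by
  rw [← card_cent a, ← S.card_sub (fun k => k * rep (acls a) = rep (acls a) * k)]
  refine Nat.card_congr
    { toFun := fun c => ⟨⟨c.1, S.hC _ (S.el_mem a) (S.el_ne a) c.2⟩, ?_⟩
      invFun := fun x => ⟨x.1.1, mem_centralizer_singleton_iff.2 ?_⟩
      left_inv := fun _ => rfl
      right_inv := fun _ => rfl }
  · rw [← S.el_spec, ← map_mul, ← map_mul]
    exact congrArg S.φ (Subtype.ext (mem_centralizer_singleton_iff.1 c.2))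
  · have h2 : S.φ x.1 * S.φ (S.el a) = S.φ (S.el a) * S.φ x.1 := by rw [S.el_spec]; exact x.2
    rw [← map_mul, ← map_mul] at h2
    exact congrArg Subtype.val (S.φ.injective h2)

theorem exists_conj {j : G} (hj : j ∈ J) (hj1 : j ≠ 1) :
    ∃ a : Fin 3, ∃ c : H, (c : G) * S.el a * (c : G)⁻¹ = j := by
  obtain ⟨a, ha⟩ := inV_cls (S.φ ⟨j, S.le hj⟩) ((S.memJ _).1 hj) (fun e => hj1 (by
    simpa using congrArg Subtype.val (S.φ.map_eq_one_iff.1 e)))
  obtain ⟨c, hc⟩ := isConj_iff.1 (isConj_rep (S.φ ⟨j, S.le hj⟩))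
  rw [ha] at hc
  refine ⟨a, S.φ.symm c, congrArg Subtype.val (S.φ.injective (a₁ := S.φ.symm c * S.el a * (S.φ.symm c)⁻¹) (a₂ := ⟨j, S.le hj⟩) ?_)⟩
  rw [map_mul, map_mul, map_inv, S.el_spec, S.φ.apply_symm_apply, hc]

theorem card_cent_conj (g a : G) :
    Nat.card (centralizer ({g * a * g⁻¹} : Set G)) = Nat.card (centralizer ({a} : Set G)) := by
  refine (Nat.card_congr (Equiv.subtypeEquiv (MulAut.conj g).toEquiv fun x => ?_)).symm
  rw [mem_centralizer_singleton_iff, mem_centralizer_singleton_iff]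
  show _ ↔ g * x * g⁻¹ * (g * a * g⁻¹) = g * a * g⁻¹ * (g * x * g⁻¹)
  rw [show g * x * g⁻¹ * (g * a * g⁻¹) = g * (x * a) * g⁻¹ by group,
    show g * a * g⁻¹ * (g * x * g⁻¹) = g * (a * x) * g⁻¹ by group]
  simp

theorem eq_of_conj {g : G} {a b : Fin 3} (h : g * S.el a * g⁻¹ = S.el b) : a = b :=
  csize_inj (by rw [← S.card_centralizer a, ← S.card_centralizer b, ← h, S.card_cent_conj])

theorem ti {g t : G} (ht : t ∈ J) (ht1 : t ≠ 1) (hg : g * t * g⁻¹ ∈ J) : g ∈ H := by
  obtain ⟨a, c, hc⟩ := S.exists_conj ht ht1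
  obtain ⟨b, c', hc'⟩ := S.exists_conj hg (fun h => ht1 (conj_eq_one_iff.1 h))
  have hw : ((c' : G)⁻¹ * g * c) * S.el a * ((c' : G)⁻¹ * g * c)⁻¹ = S.el b := by
    calc _ = (c' : G)⁻¹ * (g * ((c : G) * S.el a * (c : G)⁻¹) * g⁻¹) * c' := by group
      _ = (c' : G)⁻¹ * ((c' : G) * S.el b * (c' : G)⁻¹) * c' := by rw [hc, hc']
      _ = _ := by group
  obtain rfl := S.eq_of_conj hw
  have hwH := S.hC _ (S.el_mem a) (S.el_ne a) (mem_centralizer_singleton_iff.2 (mul_inv_eq_iff_eq_mul.1 hw))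
  have := mul_mem (mul_mem c'.2 hwH) (inv_mem c.2)
  convert this using 1
  group

/-- The number of cosets. -/
theorem index_mod : H.index % 27 = 1 := by
  classical
  have := Fintype.ofFinite (G ⧸ H)
  let X := {q : G ⧸ H // q ≠ (1 : G)}
  letI : MulAction J X :=
    { smul := fun j q => ⟨(j : G) • q.1, fun e => q.2 (by
        have e2 := congrArg (fun z => (j : G)⁻¹ • z) e
        simp only [inv_smul_smul] at e2
        rw [e2]
        exact (MulAction.Quotient.smul_mk H (j : G)⁻¹ 1).trans (QuotientGroup.eq.2 (by simpa using S.le j.2)))⟩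
      one_smul := fun q => Subtype.ext (one_smul G q.1)
      mul_smul := fun i j q => Subtype.ext (mul_smul (i : G) (j : G) q.1) }
  have hfree : ∀ q : X, MulAction.stabilizer J q = ⊥ := by
    rintro ⟨q, hq⟩
    obtain ⟨g, rfl⟩ := QuotientGroup.mk_surjective q
    refine eq_bot_iff.2 fun j hj => Subgroup.mem_bot.2 ?_
    by_contra hne
    have hgj : g⁻¹ * (j : G) * g ∈ H := by
      have e : (((j : G) * g : G) : G ⧸ H) = (g : G ⧸ H) := congrArg Subtype.val (MulAction.mem_stabilizer_iff.1 hj)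
      have := QuotientGroup.eq.1 e.symm
      simpa [mul_assoc] using this
    have hJ' := S.hsc.2 j j.2 g⁻¹ (by simpa using hgj)
    refine hq (QuotientGroup.eq.2 ?_)
    simpa using S.ti j.2 (fun e => hne (Subtype.ext e)) hJ'
  have hcard : Nat.card X = Nat.card (MulAction.orbitRel.Quotient J X) * 27 := by
    rw [Nat.card_congr (MulAction.selfEquivSigmaOrbitsQuotientStabilizer J X), Nat.card_sigma, ← S.cardJ]
    rw [Finset.sum_congr rfl (g := fun _ => Nat.card J) fun ω _ => by rw [hfree]; exact Nat.card_congr QuotientGroup.quotientBot.toEquiv]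
    simp [Nat.card_eq_fintype_card]
  have hi : H.index = Nat.card X + 1 := by
    rw [Subgroup.index, Nat.card_eq_fintype_card, Nat.card_eq_fintype_card, Fintype.card_subtype_compl]
    have := Fintype.card_pos (α := G ⧸ H)
    simp; omega
  omega

theorem three_group_le {Q : Subgroup G} (hQ : IsPGroup 3 Q) {c : G} (hc : c ∈ J) (hc1 : c ≠ 1) (hcQ : c ∈ Q) :
    Q ≤ H := by
  have : Fact (Nat.Prime 3) := ⟨Nat.prime_three⟩
  obtain ⟨P⟩ : Nonempty (Sylow 3 H) := inferInstance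
  have hP : IsPGroup 3 ((P : Subgroup H).map H.subtype) := P.2.map _
  let P' : Sylow 3 G := hP.toSylow (by
    rw [Subgroup.index_map_subtype]
    intro hd
    rcases Nat.prime_three.dvd_mul.1 hd with h | h
    · exact P.not_dvd_index h
    · have := S.index_mod; omega)
  have hP'H : (P' : Subgroup G) ≤ H := by
    rw [IsPGroup.toSylow_coe]; exact Subgroup.map_subtype_le _
  obtain ⟨Q', hQ'⟩ := hQ.exists_le_sylow
  obtain ⟨g, hg⟩ := MulAction.exists_smul_eq G Q' P'
  have hin : ∀ x ∈ Q, g * x * g⁻¹ ∈ H := fun x hx => hP'H (by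
    rw [← hg, Sylow.coe_subgroup_smul]; exact ⟨x, hQ' hx, rfl⟩)
  have hgH : g ∈ H := S.ti hc hc1 (S.hsc.2 c hc g (hin c hcQ))
  intro x hx
  have := mul_mem (mul_mem (inv_mem hgH) (hin x hx)) hgH
  convert this using 1
  group

theorem isConj_iff_cls (a : Fin 3) (x : H) (hx : (x : G) ∈ J) :
    IsConj (S.el a : G) x ↔ cls (S.φ x) = acls a := by
  constructor
  · intro h
    obtain ⟨g, hg⟩ := isConj_iff.1 h
    have hgH := S.ti (S.el_mem a) (S.el_ne a) (hg ▸ hx)
    rw [show x = ⟨g, hgH⟩ * S.el a * ⟨g, hgH⟩⁻¹ from Subtype.ext hg.symm, map_mul, map_mul, map_inv, cls_conj,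
      S.el_spec, cls_rep]
  · intro h
    obtain ⟨c, hc⟩ := isConj_iff.1 (isConj_rep (S.φ x))
    rw [h] at hc
    refine isConj_iff.2 ⟨(S.φ.symm c : H), congrArg Subtype.val (S.φ.injective (a₁ := S.φ.symm c * S.el a * (S.φ.symm c)⁻¹) (a₂ := x) ?_)⟩
    rw [map_mul, map_mul, map_inv, S.el_spec, S.φ.apply_symm_apply, hc]

theorem comm_J {s t : G} (hs : s ∈ J) (ht : t ∈ J) : s * t = t * s := by
  have h := (show ∀ k l : {k : Mon // InV k}, k.1 * l.1 = l.1 * k.1 by decide +kernel)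
    ⟨_, (S.memJ ⟨s, S.le hs⟩).1 hs⟩ ⟨_, (S.memJ ⟨t, S.le ht⟩).1 ht⟩
  simp only [← map_mul] at h
  exact congrArg Subtype.val (S.φ.injective h)

set_option maxHeartbeats 800000 in
/-- Products of two conjugates lie in `J` when the first class differs from that of the product. -/
theorem triangle {x y : G} (hx : x * (x * x) = 1) (hy : y * (y * y) = 1) {c : G} (hc : c ∈ J) (hc1 : c ≠ 1)
    (hxy : x * y = c) (hxJ : ∃ g : G, g * x * g⁻¹ ∈ J) (hne' : ¬ IsConj x c⁻¹) : x ∈ J ∧ y ∈ J := by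
  have : Fact (Nat.Prime 3) := ⟨Nat.prime_three⟩
  have hcc : c * (c * c) = 1 := by
    have := inV_cube (S.φ ⟨c, S.le hc⟩) ((S.memJ _).1 hc)
    rw [powN_eq, ← map_pow, S.φ.map_eq_one_iff, pow_succ', pow_two] at this
    simpa using congrArg Subtype.val this
  have x2 : x⁻¹ = x * x := inv_eq_of_mul_eq_one_right hx
  obtain ⟨u, hu⟩ : ∃ u, u = x * y⁻¹ := ⟨_, rfl⟩
  obtain ⟨v, hv⟩ : ∃ v, v = y⁻¹ * x := ⟨_, rfl⟩
  have hxv : x⁻¹ * u * x = v := by rw [hu, hv]; group
  have h3 : x * y * (x * y * (x * y)) = 1 := by rw [hxy]; exact hcc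
  have huv : u * v = v * u := by
    rw [hu, hv]
    calc x * y⁻¹ * (y⁻¹ * x) = x * (y * (y * y))⁻¹ * y * x := by group
      _ = x * y * x := by rw [hy, inv_one, mul_one]
      _ = (y * x * y)⁻¹ := eq_inv_of_mul_eq_one_left (by rw [← h3]; group)
      _ = y⁻¹ * x⁻¹ * y⁻¹ := by group
      _ = y⁻¹ * x * (x * y⁻¹) := by rw [x2]; group
  have hxv' : x⁻¹ * v * x = (u * v)⁻¹ := by
    rw [hu, hv]
    calc x⁻¹ * (y⁻¹ * x) * x = x⁻¹ * y⁻¹ * (x * x) := by group
      _ = x⁻¹ * y⁻¹ * x⁻¹ := by rw [← x2]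
      _ = (x * y * x)⁻¹ := by group
      _ = (x * (y * (y * y))⁻¹ * y * x)⁻¹ := by rw [hy, inv_one, mul_one]
      _ = (x * y⁻¹ * (y⁻¹ * x))⁻¹ := by group
  obtain ⟨A, hA⟩ : ∃ A : Subgroup G, A = closure {u, v} := ⟨_, rfl⟩
  have huA : u ∈ A := hA ▸ subset_closure (Set.mem_insert _ _)
  have hvA : v ∈ A := hA ▸ subset_closure (Set.mem_insert_of_mem _ rfl)
  have hab : ∀ a ∈ A, ∀ b ∈ A, a * b = b * a := by
    have := Subgroup.isMulCommutative_closure (k := ({u, v} : Set G)) (by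
      intro a ha b hb
      rcases ha with rfl | rfl <;> rcases hb with rfl | rfl
      exacts [rfl, huv, huv.symm, rfl])
    intro a ha b hb
    rw [hA] at ha hb
    exact congrArg Subtype.val (this.is_comm.comm ⟨a, ha⟩ ⟨b, hb⟩)
  have hxA : ∀ a ∈ A, x⁻¹ * a * x ∈ A := by
    intro a ha
    have hle : A ≤ A.comap (MulAut.conj x⁻¹).toMonoidHom := by
      conv_lhs => rw [hA]
      refine (Subgroup.closure_le _).2 ?_
      rintro b (rfl | rfl)
      · show x⁻¹ * b * x⁻¹⁻¹ ∈ A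
        rw [inv_inv, hxv]; exact hvA
      · show x⁻¹ * b * x⁻¹⁻¹ ∈ A
        rw [inv_inv, hxv']; exact inv_mem (mul_mem huA hvA)
    simpa using hle ha
  have hxA' : ∀ a ∈ A, x * a * x⁻¹ ∈ A := fun a ha => by
    have := hxA _ (hxA a ha)
    convert this using 1
    calc x * a * x⁻¹ = (x * (x * x)) * (x⁻¹ * (x⁻¹ * a * x) * x) * (x * (x * x))⁻¹ := by group
      _ = x⁻¹ * (x⁻¹ * a * x) * x := by rw [hx]; group
  have hxn : zpowers x ≤ normalizer (A : Set G) := zpowers_le.2 (mem_normalizer_iff.2 fun a =>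
    ⟨fun ha => hxA' a ha, fun ha => by simpa [mul_assoc] using hxA _ ha⟩)
  obtain ⟨K, hK⟩ : ∃ K : Subgroup G, K = A ⊔ zpowers x := ⟨_, rfl⟩
  have hxK : x ∈ K := hK ▸ Subgroup.mem_sup_right (mem_zpowers x)
  have hyA : y = u⁻¹ * x := by rw [hu]; group
  have hcK : c ∈ K := by
    rw [← hxy]
    exact mul_mem hxK (by rw [hyA]; exact mul_mem (inv_mem (hK ▸ Subgroup.mem_sup_left huA)) hxK)
  have pg : ∀ w : K, (w : G) * (w * w) = 1 → IsPGroup 3 (zpowers w) := by
    intro w hw q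
    refine ⟨1, Subtype.ext ?_⟩
    obtain ⟨i, hi⟩ := q.2
    show (q : K) ^ (3 ^ 1) = 1
    rw [← hi, pow_one, ← zpow_natCast, ← zpow_mul, mul_comm, zpow_mul, zpow_natCast,
      show w ^ 3 = 1 from Subtype.ext (by push_cast; rw [pow_succ', pow_two, hw]), one_zpow]
  obtain ⟨P₁, hP₁⟩ := (pg ⟨x, hxK⟩ hx).exists_le_sylow
  obtain ⟨P₂, hP₂⟩ := (pg ⟨c, hcK⟩ hcc).exists_le_sylow
  obtain ⟨k, hk⟩ := MulAction.exists_smul_eq K P₁ P₂
  have hPH := S.three_group_le (P₂.2.map K.subtype) hc hc1 ⟨⟨c, hcK⟩, hP₂ (mem_zpowers _), rfl⟩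
  have hxkH : (k : G) * x * (k : G)⁻¹ ∈ H := hPH ⟨k * ⟨x, hxK⟩ * k⁻¹, by
    rw [← hk, Sylow.coe_subgroup_smul]; exact ⟨_, hP₁ (mem_zpowers _), rfl⟩, rfl⟩
  obtain ⟨g, hg⟩ := hxJ
  have hxkJ : (k : G) * x * (k : G)⁻¹ ∈ J := by
    have e : ((k : G) * g⁻¹) * (g * x * g⁻¹) * ((k : G) * g⁻¹)⁻¹ = (k : G) * x * (k : G)⁻¹ := by group
    have := S.hsc.2 _ hg ((k : G) * g⁻¹) (by rw [e]; exact hxkH)
    rwa [e] at this
  -- write the conjugating element through the factorisation
  have hkK : (k : G) ∈ (A : Set G) * (zpowers x : Set G) := by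
    rw [← Subgroup.coe_mul_of_right_le_normalizer_left A _ hxn, ← hK]; exact k.2
  obtain ⟨a, ha, z, hz, hkz⟩ := hkK
  obtain ⟨i, rfl⟩ := hz
  have hconj : (k : G) * x * (k : G)⁻¹ = a * x * a⁻¹ := by rw [← hkz]; group
  rw [hconj] at hxkJ
  obtain ⟨p, hp⟩ : ∃ p, p = c * (a * x * a⁻¹) := ⟨_, rfl⟩
  have hpJ : p ∈ J := hp ▸ mul_mem hc hxkJ
  have hpA : p ∈ A := by
    rw [hp, ← hxy, hyA,
      show x * (u⁻¹ * x) * (a * x * a⁻¹) = (x * u⁻¹ * x⁻¹) * ((x * x) * a * (x * x)⁻¹) * (x * (x * x)) * a⁻¹ by group,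
      hx, mul_one]
    refine mul_mem (mul_mem (hxA' _ (inv_mem huA)) ?_) (inv_mem ha)
    rw [show x * x * a * (x * x)⁻¹ = x * (x * a * x⁻¹) * x⁻¹ by group]
    exact hxA' _ (hxA' _ ha)
  have hp1 : p ≠ 1 := fun e => hne' (isConj_iff.2 ⟨a, by
    rw [hp] at e; exact eq_inv_of_mul_eq_one_right e⟩)
  have hpx : x * p = p * x := by
    have h1 := S.comm_J hxkJ hpJ
    have h2 := hab _ ha _ hpA
    calc x * p = a⁻¹ * (a * x * a⁻¹) * (a * p) := by group
      _ = a⁻¹ * ((a * x * a⁻¹) * p) * a := by rw [h2]; group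
      _ = a⁻¹ * (p * (a * x * a⁻¹)) * a := by rw [h1]
      _ = a⁻¹ * (p * a) * x := by group
      _ = p * x := by rw [← h2]; group
  have hxH : x ∈ H := S.hC p hpJ hp1 (mem_centralizer_singleton_iff.2 hpx)
  have hxmem : x ∈ J := by
    have e : g⁻¹ * (g * x * g⁻¹) * g⁻¹⁻¹ = x := by group
    have := S.hsc.2 _ hg g⁻¹ (by rw [e]; exact hxH)
    rwa [e] at this
  refine ⟨hxmem, ?_⟩
  rw [show y = x⁻¹ * c by rw [← hxy]; group]
  exact mul_mem (inv_mem hxmem) hc

theorem pairs (a b c : Fin 3) (hac : a ≠ c) :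
    Nat.card {p : G × G // IsConj (S.el a : G) p.1 ∧ IsConj (S.el b : G) p.2 ∧ p.1 * p.2 = (S.el c : G)} =
      cnt a b c := by
  unfold cnt
  rw [← S.card_sub (fun k => InV k ∧ cls k = acls a ∧ cls (k⁻¹ * rep (acls c)) = acls b)]
  have hcube : ∀ d {w : G}, IsConj (S.el d : G) w → w * (w * w) = 1 := by
    intro d w hw
    obtain ⟨g, rfl⟩ := isConj_iff.1 hw
    have h := inV_cube (S.φ (S.el d)) ((S.memJ _).1 (S.el_mem d))
    rw [powN_eq, ← map_pow, S.φ.map_eq_one_iff, pow_succ', pow_two] at h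
    have h' : (S.el d : G) * ((S.el d : G) * (S.el d : G)) = 1 := by simpa using congrArg Subtype.val h
    calc _ = g * ((S.el d : G) * ((S.el d : G) * (S.el d : G))) * g⁻¹ := by group
      _ = 1 := by rw [h']; group
  have hmem : ∀ p : {p : G × G // IsConj (S.el a : G) p.1 ∧ IsConj (S.el b : G) p.2 ∧ p.1 * p.2 = (S.el c : G)},
      p.1.1 ∈ J ∧ p.1.2 ∈ J := fun p =>
    S.triangle (hcube a p.2.1) (hcube b p.2.2.1) (S.el_mem c) (S.el_ne c) p.2.2.2
      (by
        obtain ⟨g, hg⟩ := isConj_iff.1 p.2.1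
        refine ⟨g⁻¹, ?_⟩
        rw [← hg]
        simpa [mul_assoc] using S.el_mem a)
      (fun h => hac (by
        have hm : ((S.el c)⁻¹ : H).1 ∈ J := inv_mem (S.el_mem c)
        have := (S.isConj_iff_cls a (S.el c)⁻¹ hm).1 (p.2.1.trans h)
        rw [map_inv, inV_inv _ ((S.memJ _).1 (S.el_mem c)), S.el_spec, cls_rep] at this
        exact ((show Function.Injective acls by decide +kernel) this).symm))
  refine Nat.card_congr
    { toFun := fun p => ⟨⟨p.1.1, S.le (hmem p).1⟩, (S.memJ _).1 (hmem p).1,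
        (S.isConj_iff_cls a ⟨_, S.le (hmem p).1⟩ (hmem p).1).1 p.2.1, ?_⟩
      invFun := fun k => ⟨(k.1.1, (k.1.1)⁻¹ * (S.el c : G)), ?_, ?_, mul_inv_cancel_left _ _⟩
      left_inv := fun p => Subtype.ext (Prod.ext rfl (by
        show (p.1.1)⁻¹ * (S.el c : G) = p.1.2
        exact inv_mul_eq_iff_eq_mul.2 p.2.2.2.symm))
      right_inv := fun k => rfl }
  · rw [← S.el_spec, ← map_inv, ← map_mul]
    rw [show (⟨p.1.1, S.le (hmem p).1⟩ : H)⁻¹ * S.el c = ⟨p.1.2, S.le (hmem p).2⟩ from Subtype.ext (by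
      show (p.1.1)⁻¹ * (S.el c : G) = p.1.2
      exact inv_mul_eq_iff_eq_mul.2 p.2.2.2.symm)]
    exact (S.isConj_iff_cls b ⟨_, S.le (hmem p).2⟩ (hmem p).2).1 p.2.2.1
  · exact (S.isConj_iff_cls a k.1 ((S.memJ _).2 k.2.1)).2 k.2.2.1
  · have hk : cls ((S.φ k.1)⁻¹ * S.φ (S.el c)) = acls b := by rw [S.el_spec]; exact k.2.2.2
    rw [← map_inv, ← map_mul] at hk
    exact (S.isConj_iff_cls b (k.1⁻¹ * S.el c) (mul_mem (inv_mem ((S.memJ _).2 k.2.1)) (S.el_mem c))).2 hk

/-! ### The characters -/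

/-- The pull back of a special function. -/
noncomputable def pull (i : Fin 9) : ↥H → ℂ := fun x => pr3 (specP i (cls (S.φ x)))

theorem gen_pull (i : Fin 9) : Cfsg.IsGeneralizedCharacter H (S.pull i) :=
  IsGeneralizedCharacter.comp_hom (gen_spec i) S.φ.toMonoidHom

theorem pull_eq_zero (i : Fin 9) {x : H}
    (hx : ¬ (((x ^ powc (cls (S.φ x)) : H) : G) ∈ J ∧ ((x ^ powc (cls (S.φ x)) : H) : G) ≠ 1)) : S.pull i x = 0 := by
  rcases specP_supp (S.φ x) with ⟨h1, h2⟩ | h
  · refine absurd ⟨(S.memJ _).2 ?_, fun e => h2 ?_⟩ hx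
    · rw [map_pow, ← powN_eq]; exact h1
    · rw [powN_eq, ← map_pow, show x ^ powc (cls (S.φ x)) = 1 from Subtype.ext e, map_one]
  · rw [pull, h i]; simp [pr3]

/-- Induction does not change a special function on its support. -/
theorem ind_apply [Fintype G] (i : Fin 9) {x : H}
    (hx : ((x ^ powc (cls (S.φ x)) : H) : G) ∈ J ∧ ((x ^ powc (cls (S.φ x)) : H) : G) ≠ 1) :
    Cfsg.indFun H (S.pull i) x = S.pull i x := by
  classical
  have hcl := isClassFunction_generalized (S.gen_pull i)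
  have hsupp : ∀ g : G, Cfsg.extendByZero H (S.pull i) (g⁻¹ * x * g) = if g ∈ H then S.pull i x else 0 := by
    intro g
    split_ifs with hg
    · rw [extendByZero_mem _ (H.mul_mem (H.mul_mem (H.inv_mem hg) x.2) hg)]
      have := hcl x (⟨g, hg⟩ : H)⁻¹
      rw [inv_inv] at this
      exact this
    · by_cases hm : g⁻¹ * x * g ∈ H
      · rw [extendByZero_mem _ hm]
        refine S.pull_eq_zero i fun hgood => hg ?_
        obtain ⟨n, hn⟩ : ∃ n, n = powc (cls (S.φ ⟨g⁻¹ * x * g, hm⟩)) := ⟨_, rfl⟩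
        rw [← hn] at hgood
        obtain ⟨hJ1, hne1⟩ := hgood
        have e : ((⟨g⁻¹ * x * g, hm⟩ ^ n : H) : G) = g⁻¹ * (x : G) ^ n * g := by
          rw [SubmonoidClass.coe_pow]; simpa using (conj_pow (a := g⁻¹) (b := (x : G)) (i := n))
        rw [e] at hJ1 hne1
        have hxn : g * (g⁻¹ * (x : G) ^ n * g) * g⁻¹ = (x : G) ^ n := by group
        exact S.ti hJ1 hne1 (S.hsc.2 _ hJ1 g (by rw [hxn]; exact pow_mem x.2 n))
      · exact extendByZero_not_mem _ hm
  rw [indFun_apply, Finset.sum_congr rfl fun g _ => hsupp g, Finset.sum_ite, Finset.sum_const_zero, add_zero,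
    Finset.sum_const, nsmul_eq_mul, ← Fintype.card_subtype, ← Nat.card_eq_fintype_card, ← mul_assoc,
    show Nat.card {g : G // g ∈ H} = Nat.card H from rfl,
    inv_mul_cancel₀ (Nat.cast_ne_zero.2 Nat.card_pos.ne'), one_mul]

theorem sum_H [Fintype H] (F : Fin 14 → ℂ) :
    ∑ x : H, F (cls (S.φ x)) = ∑ c : Fin 14, (sizeTab.getD c 0 : ℂ) * F c := by
  classical
  rw [← Finset.sum_fiberwise Finset.univ (fun x : H => cls (S.φ x))]
  refine Finset.sum_congr rfl fun c _ => ?_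
  rw [Finset.sum_congr rfl (g := fun _ => F c) fun x hx => by rw [(Finset.mem_filter.1 hx).2], Finset.sum_const,
    nsmul_eq_mul, ← Fintype.card_subtype, ← Nat.card_eq_fintype_card, S.card_sub (fun k => cls k = c), cls_card]

theorem inner_pull [Fintype H] (i j : Fin 9) :
    Cfsg.classInner (S.pull i) (S.pull j) = ((gram i j : ℤ) : ℂ) := by
  rw [classInner_def, S.cardH]
  have e : ∀ x : H, S.pull i x * conj (S.pull j x) =
      (fun c => pr3 (specP i c) * pr3 (specP j c)) (cls (S.φ x)) := fun x => by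
    simp [pull, pr3, conj_sq3]
  rw [Finset.sum_congr rfl fun x _ => e x, S.sum_H (fun c => pr3 (specP i c) * pr3 (specP j c))]
  obtain ⟨h1, h2⟩ := gram_sum i j
  have h1' := congrArg (fun z : ℤ => (z : ℂ)) h1
  have h2' := congrArg (fun z : ℤ => (z : ℂ)) h2
  push_cast at h1' h2'
  have key : ∑ c : Fin 14, (sizeTab.getD c 0 : ℂ) * (pr3 (specP i c) * pr3 (specP j c)) = 648 * (gram i j : ℂ) := by
    rw [← h1', ← add_zero (∑ c : Fin 14, _ * (_ + 3 * _)), ← zero_mul sq3, ← h2', Finset.sum_mul,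
      ← Finset.sum_add_distrib]
    refine Finset.sum_congr rfl fun c _ => ?_
    simp only [pr3]
    linear_combination ((sizeTab.getD c 0 : ℂ) * (specP i c).2 * (specP j c).2) * sq3_sq
  rw [key]; push_cast; ring

/-- The multiplicities. -/
theorem exists_mults [Fintype G] : ∃ n : ℕ → Cfsg.IrrCharacter G → ℤ,
    (∀ (i : Fin 9) (χ : Cfsg.IrrCharacter G), Cfsg.classInner (Cfsg.indFun H (S.pull i)) (χ : G → ℂ) = (n i χ : ℂ)) ∧
    Vecs n (fun χ => (deg (χ : G → ℂ) : ℤ)) ⟨_, isIrrCharacter_one⟩ := by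
  classical
  have := Fintype.ofFinite H
  have hgen : ∀ i, Cfsg.IsGeneralizedCharacter G (Cfsg.indFun H (S.pull i)) :=
    fun i => IsGeneralizedCharacter.indFun (S.gen_pull i)
  choose m hm using fun (i : Fin 9) (χ : Cfsg.IrrCharacter G) => IsGeneralizedCharacter.exists_mult (hgen i) χ.2
  have hn : ∀ i : Fin 9, (fun i χ => if h : i < 9 then m ⟨i, h⟩ χ else 0 : ℕ → Cfsg.IrrCharacter G → ℤ) i = m i :=
    fun i => by funext χ; simp [i.2]
  refine ⟨fun i χ => if h : i < 9 then m ⟨i, h⟩ χ else 0, fun i χ => by rw [hn]; exact hm i χ,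
    ⟨fun i hi j hj => ?_, fun i hi => ?_, fun i hi => ?_, fun χ => Int.natCast_pos.2 (deg_irr_pos χ), ?_⟩⟩
  · lift i to Fin 9 using hi; lift j to Fin 9 using hj
    simp only [i.2, j.2, dite_true, Fin.eta]
    apply Int.cast_injective (α := ℂ)
    have hj := classFunction_expand (isClassFunction_indFun H (S.pull j))
    have e1 : Cfsg.classInner (Cfsg.indFun H (S.pull i)) (Cfsg.indFun H (S.pull j)) =
        ((∑ χ, m i χ * m j χ : ℤ) : ℂ) := by
      conv_lhs => rw [hj]
      rw [classInner_sum_right]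
      push_cast
      refine Finset.sum_congr rfl fun χ _ => ?_
      rw [classInner_smul_right, hm, hm, mul_comm]
      simp
    rw [← e1, frobenius_reciprocity _ _ (isClassFunction_indFun _ _), ← S.inner_pull i j, classInner_def, classInner_def]
    refine congrArg _ (Finset.sum_congr rfl fun x _ => ?_)
    by_cases hx : ((x ^ powc (cls (S.φ x)) : H) : G) ∈ J ∧ ((x ^ powc (cls (S.φ x)) : H) : G) ≠ 1
    · rw [S.ind_apply j hx]
    · rw [S.pull_eq_zero i hx, zero_mul, zero_mul]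
  · lift i to Fin 9 using hi
    simp only [i.2, dite_true, Fin.eta]
    apply Int.cast_injective (α := ℂ)
    rw [← hm, frobenius_reciprocity _ _ (isClassFunction_irr _), classInner_def, S.cardH,
      Finset.sum_congr rfl (g := fun x => (fun c => pr3 (specP i c)) (cls (S.φ x))) fun x _ => by simp [pull],
      S.sum_H (fun c => pr3 (specP i c))]
    obtain ⟨h1, h2⟩ := prin_sum i
    have h1' := congrArg (fun z : ℤ => (z : ℂ)) h1
    have h2' := congrArg (fun z : ℤ => (z : ℂ)) h2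
    push_cast at h1' h2'
    have key : ∑ c : Fin 14, (sizeTab.getD c 0 : ℂ) * pr3 (specP i c) = 648 * (ent prin i : ℂ) := by
      rw [← h1', ← add_zero (∑ c : Fin 14, (_ : ℂ) * ((_ : ℤ) : ℂ)), ← zero_mul sq3, ← h2', Finset.sum_mul,
        ← Finset.sum_add_distrib]
      exact Finset.sum_congr rfl fun c _ => by simp only [pr3]; ring
    rw [key]; push_cast; ring
  · lift i to Fin 9 using hi
    simp only [i.2, dite_true, Fin.eta]
    apply Int.cast_injective (α := ℂ)
    push_cast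
    have := classFunction_expand_apply (isClassFunction_indFun H (S.pull i)) 1
    rw [indFun_one, S.pull_eq_zero i (fun h => h.2 (by simp)), mul_zero] at this
    rw [this]
    exact Finset.sum_congr rfl fun χ _ => by rw [hm, irr_apply_one_eq_deg]
  · have := irr_apply_one_eq_deg (⟨_, isIrrCharacter_one⟩ : Cfsg.IrrCharacter G)
    have h1 : (deg ((⟨_, isIrrCharacter_one⟩ : Cfsg.IrrCharacter G) : G → ℂ) : ℂ) = 1 := this.symm.trans rfl
    exact_mod_cast h1

theorem value [Fintype G] {n : ℕ → Cfsg.IrrCharacter G → ℤ}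
    (hn : ∀ (i : Fin 9) (χ : Cfsg.IrrCharacter G), Cfsg.classInner (Cfsg.indFun H (S.pull i)) (χ : G → ℂ) = (n i χ : ℂ))
    (χ : Cfsg.IrrCharacter G) (a : Fin 3) : (χ : G → ℂ) (S.el a : G) = (val n a χ : ℂ) := by
  classical
  have := Fintype.ofFinite H
  have hcl := isClassFunction_irr χ
  have hv : val n a χ = ∑ i : Fin 9, (coefTab.getD a []).getD i 0 * n i χ := by
    simp only [val, vr]
    rw [← List.sum_toFinset _ List.nodup_range, List.toFinset_range, ← Fin.sum_univ_eq_sum_range]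
    exact Finset.sum_congr rfl fun i _ => by rw [ent_col i.2]
  have h : ((val n a χ : ℤ) : ℂ) = (648 : ℂ)⁻¹ *
      ∑ x : H, (∑ i : Fin 9, (((coefTab.getD a []).getD i 0 : ℤ) : ℂ) * S.pull i x) * conj ((χ : G → ℂ) x) := by
    rw [hv]
    simp only [Int.cast_sum, Int.cast_mul, Finset.sum_mul, Finset.mul_sum]
    rw [Finset.sum_comm]
    refine Finset.sum_congr rfl fun i _ => ?_
    rw [← hn, frobenius_reciprocity _ _ hcl, classInner_def, S.cardH, Finset.mul_sum, Finset.mul_sum]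
    refine Finset.sum_congr rfl fun x _ => ?_
    push_cast
    ring
  have h2 : ∀ x : H, (∑ i : Fin 9, (((coefTab.getD a []).getD i 0 : ℤ) : ℂ) * S.pull i x) * conj ((χ : G → ℂ) x) =
      if cls (S.φ x) = acls a then (csize a : ℂ) * conj ((χ : G → ℂ) (S.el a : G)) else 0 := by
    intro x
    obtain ⟨i1, i2⟩ := indicator a (cls (S.φ x))
    have e : ∑ i : Fin 9, (((coefTab.getD a []).getD i 0 : ℤ) : ℂ) * S.pull i x =
        ((if cls (S.φ x) = acls a then (csize a : ℤ) else 0 : ℤ) : ℂ) := by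
      have i2' := congrArg (fun z : ℤ => (z : ℂ)) i2
      push_cast at i2'
      rw [← i1, ← add_zero ((_ : ℤ) : ℂ), ← zero_mul sq3, ← i2']
      push_cast
      rw [Finset.sum_mul, ← Finset.sum_add_distrib]
      exact Finset.sum_congr rfl fun i _ => by simp only [pull, pr3]; ring
    rw [e]
    split_ifs with he
    · obtain ⟨c, hc⟩ := isConj_iff.1 (isConj_rep (S.φ x))
      rw [he, ← S.el_spec, ← S.φ.apply_symm_apply c, ← map_inv, ← map_mul, ← map_mul] at hc
      rw [← S.φ.injective hc]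
      push_cast
      rw [hcl (S.el a : G) ((S.φ.symm c : H) : G)]
    · simp
  rw [Finset.sum_congr rfl fun x _ => h2 x, Finset.sum_ite, Finset.sum_const_zero, add_zero, Finset.sum_const,
    nsmul_eq_mul, ← Fintype.card_subtype, ← Nat.card_eq_fintype_card, S.card_sub (fun k => cls k = acls a),
    cls_card] at h
  have hc : (sizeTab.getD (acls a) 0 : ℂ) * (csize a : ℂ) = 648 := by exact_mod_cast size_acls a
  rw [← mul_assoc (sizeTab.getD (acls a) 0 : ℂ), hc, inv_mul_cancel_left₀ (by norm_num)] at h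
  rw [← Complex.conj_conj ((χ : G → ℂ) (S.el a : G)), ← h, map_intCast]

theorem main : H = ⊤ := by
  classical
  have := Fintype.ofFinite G
  obtain ⟨n, hn, hv⟩ := S.exists_mults
  have hG0 : (Nat.card G : ℂ) ≠ 0 := Nat.cast_ne_zero.2 Nat.card_pos.ne'
  have eqn : ∀ a b c : Fin 3, a ≠ c →
      (cnt a b c : ℂ) * ((csize a : ℂ) * csize b) = (Nat.card G : ℂ) *
        msum n (fun χ : Cfsg.IrrCharacter G => (deg (χ : G → ℂ) : ℤ)) a b c := by
    intro a b c hac
    have h := class_mult_formula (G := G) (S.el a : G) (S.el b : G) (S.el c : G)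
    rw [S.pairs a b c hac] at h
    have hcard : ∀ a, (Nat.card {x : G // IsConj (S.el a : G) x} : ℂ) * (csize a : ℂ) = (Nat.card G : ℂ) := by
      intro a
      rw [← S.card_centralizer a]
      exact_mod_cast card_isConj_mul (S.el a : G)
    have hs : ∀ χ : Cfsg.IrrCharacter G, (χ : G → ℂ) (S.el a : G) * (χ : G → ℂ) (S.el b : G) *
        conj ((χ : G → ℂ) (S.el c : G)) / (χ : G → ℂ) 1 =
        (val n a χ : ℂ) * val n b χ * val n c χ / (((deg (χ : G → ℂ) : ℤ)) : ℂ) := by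
      intro χ
      rw [S.value hn, S.value hn, S.value hn, map_intCast, irr_apply_one_eq_deg]
      push_cast
      rfl
    rw [Finset.sum_congr rfl fun χ _ => hs χ] at h
    change (cnt a b c : ℂ) = _ * msum n _ a b c at h
    rw [h]
    generalize msum n _ a b c = M
    calc _ = ((Nat.card {x : G // IsConj (S.el a : G) x} : ℂ) * (csize a : ℂ)) *
          ((Nat.card {x : G // IsConj (S.el b : G) x} : ℂ) * (csize b : ℂ)) / (Nat.card G : ℂ) * M := by ring
      _ = _ := by rw [hcard, hcard, mul_div_assoc, div_self hG0, mul_one]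
  have hG : Nat.card G = 648 * H.index := by rw [← S.cardH, H.card_mul_index]
  obtain ⟨z1, z2, z3, z4, z5, z6, z7⟩ := cnt_vals
  have hk : H.index = 1 := by
    refine card_eq hv H.index S.index_mod ?_ ?_
    · have e : ∑ χ : Cfsg.IrrCharacter G, deg (χ : G → ℂ) ^ 2 = Nat.card G := sum_deg_sq_nat
      rw [hG] at e
      have := congrArg (fun z : ℕ => (z : ℤ)) e
      push_cast at this
      rw [← this]
      exact Finset.sum_congr rfl fun χ _ => by ring
    · intro a b c N hN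
      have key : (648 : ℂ) * (H.index : ℂ) = (Nat.card G : ℂ) := by rw [hG]; push_cast; ring
      simp only [List.mem_cons, Prod.mk.injEq, List.not_mem_nil, or_false] at hN
      rw [key]
      rcases hN with ⟨⟨rfl, rfl, rfl⟩, rfl⟩ | ⟨⟨rfl, rfl, rfl⟩, rfl⟩ | ⟨⟨rfl, rfl, rfl⟩, rfl⟩ | ⟨⟨rfl, rfl, rfl⟩, rfl⟩ |
        ⟨⟨rfl, rfl, rfl⟩, rfl⟩ | ⟨⟨rfl, rfl, rfl⟩, rfl⟩ | ⟨⟨rfl, rfl, rfl⟩, rfl⟩ <;>
      · rw [← eqn _ _ _ (by decide)]
        simp only [z1, z2, z3, z4, z5, z6, z7]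
        norm_num [csize, show ∀ u v w : ℕ, (![u, v, w] : Fin 3 → ℕ) 2 = w from fun _ _ _ => rfl]
  exact Subgroup.index_eq_one.1 hk

end Setup

end Cfsg.Lib.Monomial
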