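import Cfsg.Agent.LocalThree.GramSplit

/-!
The decompositions of the Gram matrix of the special functions of the monomial group of order 648.
-/

set_option autoImplicit false
set_option maxRecDepth 4000

namespace Cfsg.Lib.Monomial

open GramSplit

/-- The multiplicities of the principal character. -/
def prin : List ℤ := [0,0,0,0,0,0,1,1,1]

/-- A decomposition. -/
def sol0 : List Row :=
  [[0,0,0,0,0,0,0,0,1],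
   [0,0,0,0,0,0,0,1,0],
   [0,0,0,0,0,0,1,0,0],
   [0,0,0,0,0,1,0,0,0],
   [0,0,0,0,1,0,0,0,0],
   [0,0,0,0,1,1,0,0,1],
   [0,0,0,1,0,0,0,0,0],
   [0,0,1,0,0,0,1,-1,0],
   [0,0,1,0,1,-1,0,0,0],
   [0,1,0,0,0,0,0,0,0],
   [0,1,1,-1,0,0,0,0,-1],
   [1,0,0,0,0,0,0,0,0],
   [1,0,0,1,-1,-1,-1,-1,0]]

/-- A decomposition. -/
def sol1 : List Row :=
  [[0,0,0,0,0,0,0,0,1],
   [0,0,0,0,0,0,0,1,0],
   [0,0,0,0,0,0,1,0,0],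
   [0,0,0,0,1,0,0,0,0],
   [0,0,0,0,1,0,0,0,1],
   [0,0,0,1,0,-1,0,0,0],
   [0,0,1,0,0,0,1,-1,0],
   [0,0,1,0,1,0,0,0,0],
   [0,1,0,0,0,1,0,0,0],
   [0,1,1,-1,0,-1,0,0,-1],
   [1,0,0,0,0,0,0,0,0],
   [1,0,0,1,-1,-1,-1,-1,0]]

/-- A decomposition. -/
def sol2 : List Row :=
  [[0,0,0,0,0,0,0,0,1],
   [0,0,0,0,0,0,0,1,0],
   [0,0,0,0,1,0,0,0,0],
   [0,0,0,0,1,0,0,0,1],
   [0,0,0,1,0,-1,-1,0,0],
   [0,0,1,0,0,0,0,-1,0],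
   [0,0,1,0,1,0,1,0,0],
   [0,1,0,0,0,1,0,0,0],
   [0,1,1,-1,0,-1,0,0,-1],
   [1,0,0,0,0,0,-1,0,0],
   [1,0,0,1,-1,-1,0,-1,0]]

/-- A decomposition. -/
def sol3 : List Row :=
  [[0,0,0,0,0,0,0,1,0],
   [0,0,0,0,0,0,1,0,0],
   [0,0,0,0,0,1,0,0,1],
   [0,0,0,0,1,0,0,0,1],
   [0,0,0,0,1,1,0,0,0],
   [0,0,0,1,0,0,0,0,0],
   [0,0,1,0,0,0,1,-1,0],
   [0,0,1,0,1,-1,0,0,0],
   [0,1,0,0,0,0,0,0,0],
   [0,1,1,-1,0,0,0,0,-1],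
   [1,0,0,0,0,0,0,0,0],
   [1,0,0,1,-1,-1,-1,-1,0]]

def sols : List (List Row) := [sol0,sol1,sol2,sol3]

def pos0 : Pos :=
  ([[0,0,0,0,0,0,0,0,0],
   [0,0,0,0,0,0,0,0,0],
   [0,0,0,0,0,0,0,0,0],
   [0,0,0,0,0,0,0,0,0],
   [0,0,0,0,0,0,0,0,0],
   [0,0,0,0,0,0,0,0,0],
   [0,0,0,0,0,0,0,0,0],
   [0,0,0,0,0,0,0,0,0],
   [0,0,0,0,0,0,0,0,0]],
   [[1,0,0,0,0,0,0,0,0],
   [1,0,0,1,-1,-1,-1,-1,0],
   [0,0,0,0,0,0,1,0,0],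
   [0,0,1,0,0,0,1,-1,0],
   [0,0,0,0,0,0,0,1,0],
   [0,0,1,0,1,0,0,0,0],
   [0,1,1,-1,0,-1,0,0,-1],
   [0,1,0,0,0,1,0,0,0],
   [0,0,0,1,0,-1,0,0,0],
   [0,0,0,0,1,0,0,0,0],
   [0,0,0,0,1,0,0,0,1],
   [0,0,0,0,0,0,0,0,1]],
   [])

def kids0 : List Pos := []

def cert0 : Cert :=
  .done

theorem check0 : check 9 sols kids0 cert0 pos0.1 pos0.2.1 pos0.2.2 = true := by decide +kernel

theorem holds0 {ι : Type*} [DecidableEq ι] (n : ℕ → ι → ℤ) : Holds 9 sols n pos0 :=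
  sound sols n (by simp [kids0]) cert0 _ _ _ check0

def pos1 : Pos :=
  ([[0,0,0,0,0,0,0,0,0],
   [0,0,0,0,0,0,0,0,0],
   [0,0,0,0,0,0,0,0,0],
   [0,0,0,0,0,0,0,0,0],
   [0,0,0,0,0,0,0,0,0],
   [0,0,0,0,0,0,0,0,0],
   [0,0,0,0,0,0,0,0,0],
   [0,0,0,0,0,0,0,0,0],
   [0,0,0,0,0,0,0,0,1]],
   [[1,0,0,0,0,0,0,0,0],
   [1,0,0,1,-1,-1,-1,-1,0],
   [0,0,0,0,0,0,1,0,0],
   [0,0,1,0,0,0,1,-1,0],
   [0,0,0,0,0,0,0,1,0],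
   [0,0,1,0,1,0,0,0,0],
   [0,1,1,-1,0,-1,0,0,-1],
   [0,1,0,0,0,1,0,0,0],
   [0,0,0,1,0,-1,0,0,0],
   [0,0,0,0,1,0,0,0,0],
   [0,0,0,0,1,0,0,0,1]],
   [])

def kids1 : List Pos := [pos0]

def cert1 : Cert :=
  (.branch [0,0,0,0,0,0,0,0,1] (.known 0)
  (.last 8 []))

theorem check1 : check 9 sols kids1 cert1 pos1.1 pos1.2.1 pos1.2.2 = true := by decide +kernel

theorem holds1 {ι : Type*} [DecidableEq ι] (n : ℕ → ι → ℤ) : Holds 9 sols n pos1 :=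
  sound sols n (by
    simp only [kids1, List.forall_mem_cons, List.not_mem_nil, false_imp_iff, implies_true, and_true]
    exact holds0 n) cert1 _ _ _ check1

def pos2 : Pos :=
  ([[0,0,0,0,0,0,0,0,0],
   [0,0,0,0,0,0,0,0,0],
   [0,0,0,0,0,0,0,0,0],
   [0,0,0,0,0,0,0,0,0],
   [0,0,0,0,1,0,0,0,1],
   [0,0,0,0,0,0,0,0,0],
   [0,0,0,0,0,0,0,0,0],
   [0,0,0,0,0,0,0,0,0],
   [0,0,0,0,1,0,0,0,2]],
   [[1,0,0,0,0,0,0,0,0],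
   [1,0,0,1,-1,-1,-1,-1,0],
   [0,0,0,0,0,0,1,0,0],
   [0,0,1,0,0,0,1,-1,0],
   [0,0,0,0,0,0,0,1,0],
   [0,0,1,0,1,0,0,0,0],
   [0,1,1,-1,0,-1,0,0,-1],
   [0,1,0,0,0,1,0,0,0],
   [0,0,0,1,0,-1,0,0,0],
   [0,0,0,0,1,0,0,0,0]],
   [])

def kids2 : List Pos := [pos1]

def cert2 : Cert :=
  (.branch [0,0,0,0,1,0,0,0,1] (.known 0)
  (.last 4 []))

theorem check2 : check 9 sols kids2 cert2 pos2.1 pos2.2.1 pos2.2.2 = true := by decide +kernel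

theorem holds2 {ι : Type*} [DecidableEq ι] (n : ℕ → ι → ℤ) : Holds 9 sols n pos2 :=
  sound sols n (by
    simp only [kids2, List.forall_mem_cons, List.not_mem_nil, false_imp_iff, implies_true, and_true]
    exact holds1 n) cert2 _ _ _ check2

def pos3 : Pos :=
  ([[0,0,0,0,0,0,0,0,0],
   [0,0,0,0,0,0,0,0,0],
   [0,0,0,0,0,0,0,0,0],
   [0,0,0,0,0,0,0,0,0],
   [0,0,0,0,1,0,0,0,0],
   [0,0,0,0,0,0,0,0,0],
   [0,0,0,0,0,0,0,0,0],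
   [0,0,0,0,0,0,0,0,0],
   [0,0,0,0,0,0,0,0,1]],
   [[1,0,0,0,0,0,0,0,0],
   [1,0,0,1,-1,-1,-1,-1,0],
   [0,0,0,0,0,0,1,0,0],
   [0,0,1,0,0,0,1,-1,0],
   [0,0,0,0,0,0,0,1,0],
   [0,0,1,0,1,0,0,0,0],
   [0,1,1,-1,0,-1,0,0,-1],
   [0,1,0,0,0,1,0,0,0],
   [0,0,0,1,0,-1,0,0,0],
   [0,0,0,0,1,0,0,0,1]],
   [[0,0,0,0,1,0,0,0,0]])

def kids3 : List Pos := []

def cert3 : Cert :=
  (.last 4 [])

theorem check3 : check 9 sols kids3 cert3 pos3.1 pos3.2.1 pos3.2.2 = true := by decide +kernel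

theorem holds3 {ι : Type*} [DecidableEq ι] (n : ℕ → ι → ℤ) : Holds 9 sols n pos3 :=
  sound sols n (by simp [kids3]) cert3 _ _ _ check3

def pos4 : Pos :=
  ([[0,0,0,0,0,0,0,0,0],
   [0,0,0,0,0,0,0,0,0],
   [0,0,0,0,0,0,0,0,0],
   [0,0,0,0,0,0,0,0,0],
   [0,0,0,0,2,0,0,0,1],
   [0,0,0,0,0,0,0,0,0],
   [0,0,0,0,0,0,0,0,0],
   [0,0,0,0,0,0,0,0,0],
   [0,0,0,0,1,0,0,0,2]],
   [[1,0,0,0,0,0,0,0,0],
   [1,0,0,1,-1,-1,-1,-1,0],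
   [0,0,0,0,0,0,1,0,0],
   [0,0,1,0,0,0,1,-1,0],
   [0,0,0,0,0,0,0,1,0],
   [0,0,1,0,1,0,0,0,0],
   [0,1,1,-1,0,-1,0,0,-1],
   [0,1,0,0,0,1,0,0,0],
   [0,0,0,1,0,-1,0,0,0]],
   [])

def kids4 : List Pos := [pos2,pos3]

def cert4 : Cert :=
  (.branch [0,0,0,0,1,0,0,0,0] (.known 0)
  (.branch [0,0,0,0,1,0,0,0,1] (.known 1)
  (.last 4 [])))

theorem check4 : check 9 sols kids4 cert4 pos4.1 pos4.2.1 pos4.2.2 = true := by decide +kernel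

theorem holds4 {ι : Type*} [DecidableEq ι] (n : ℕ → ι → ℤ) : Holds 9 sols n pos4 :=
  sound sols n (by
    simp only [kids4, List.forall_mem_cons, List.not_mem_nil, false_imp_iff, implies_true, and_true]
    exact ⟨holds2 n, holds3 n⟩) cert4 _ _ _ check4

def pos5 : Pos :=
  ([[0,0,0,0,0,0,0,0,0],
   [0,0,0,0,0,0,0,0,0],
   [0,0,0,0,0,0,0,0,0],
   [0,0,0,1,0,-1,0,0,0],
   [0,0,0,0,2,0,0,0,1],
   [0,0,0,-1,0,1,0,0,0],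
   [0,0,0,0,0,0,0,0,0],
   [0,0,0,0,0,0,0,0,0],
   [0,0,0,0,1,0,0,0,2]],
   [[1,0,0,0,0,0,0,0,0],
   [1,0,0,1,-1,-1,-1,-1,0],
   [0,0,0,0,0,0,1,0,0],
   [0,0,1,0,0,0,1,-1,0],
   [0,0,0,0,0,0,0,1,0],
   [0,0,1,0,1,0,0,0,0],
   [0,1,1,-1,0,-1,0,0,-1],
   [0,1,0,0,0,1,0,0,0]],
   [])

def kids5 : List Pos := [pos4]

def cert5 : Cert :=
  (.branch [0,0,0,1,0,-1,0,0,0] (.known 0)
  (.last 3 []))

theorem check5 : check 9 sols kids5 cert5 pos5.1 pos5.2.1 pos5.2.2 = true := by decide +kernel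

theorem holds5 {ι : Type*} [DecidableEq ι] (n : ℕ → ι → ℤ) : Holds 9 sols n pos5 :=
  sound sols n (by
    simp only [kids5, List.forall_mem_cons, List.not_mem_nil, false_imp_iff, implies_true, and_true]
    exact holds4 n) cert5 _ _ _ check5

def pos6 : Pos :=
  ([[0,0,0,0,0,0,0,0,0],
   [0,1,0,0,0,1,0,0,0],
   [0,0,0,0,0,0,0,0,0],
   [0,0,0,1,0,-1,0,0,0],
   [0,0,0,0,2,0,0,0,1],
   [0,1,0,-1,0,2,0,0,0],
   [0,0,0,0,0,0,0,0,0],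
   [0,0,0,0,0,0,0,0,0],
   [0,0,0,0,1,0,0,0,2]],
   [[1,0,0,0,0,0,0,0,0],
   [1,0,0,1,-1,-1,-1,-1,0],
   [0,0,0,0,0,0,1,0,0],
   [0,0,1,0,0,0,1,-1,0],
   [0,0,0,0,0,0,0,1,0],
   [0,0,1,0,1,0,0,0,0],
   [0,1,1,-1,0,-1,0,0,-1]],
   [])

def kids6 : List Pos := [pos5]

def cert6 : Cert :=
  (.branch [0,1,0,0,0,1,0,0,0] (.known 0)
  (.last 1 []))

theorem check6 : check 9 sols kids6 cert6 pos6.1 pos6.2.1 pos6.2.2 = true := by decide +kernel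

theorem holds6 {ι : Type*} [DecidableEq ι] (n : ℕ → ι → ℤ) : Holds 9 sols n pos6 :=
  sound sols n (by
    simp only [kids6, List.forall_mem_cons, List.not_mem_nil, false_imp_iff, implies_true, and_true]
    exact holds5 n) cert6 _ _ _ check6

def pos7 : Pos :=
  ([[0,0,0,0,0,0,0,0,0],
   [0,2,1,-1,0,0,0,0,-1],
   [0,1,1,-1,0,-1,0,0,-1],
   [0,-1,-1,2,0,0,0,0,1],
   [0,0,0,0,2,0,0,0,1],
   [0,0,-1,0,0,3,0,0,1],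
   [0,0,0,0,0,0,0,0,0],
   [0,0,0,0,0,0,0,0,0],
   [0,-1,-1,1,1,1,0,0,3]],
   [[1,0,0,0,0,0,0,0,0],
   [1,0,0,1,-1,-1,-1,-1,0],
   [0,0,0,0,0,0,1,0,0],
   [0,0,1,0,0,0,1,-1,0],
   [0,0,0,0,0,0,0,1,0],
   [0,0,1,0,1,0,0,0,0]],
   [])

def kids7 : List Pos := [pos6]

def cert7 : Cert :=
  (.branch [0,1,1,-1,0,-1,0,0,-1] (.known 0)
  (.last 2 []))

theorem check7 : check 9 sols kids7 cert7 pos7.1 pos7.2.1 pos7.2.2 = true := by decide +kernel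

theorem holds7 {ι : Type*} [DecidableEq ι] (n : ℕ → ι → ℤ) : Holds 9 sols n pos7 :=
  sound sols n (by
    simp only [kids7, List.forall_mem_cons, List.not_mem_nil, false_imp_iff, implies_true, and_true]
    exact holds6 n) cert7 _ _ _ check7

def pos8 : Pos :=
  ([[0,0,0,0,0,0,0,0,0],
   [0,0,0,0,0,0,0,0,0],
   [0,0,0,0,0,0,0,0,0],
   [0,0,0,0,0,0,0,0,0],
   [0,0,0,0,0,0,0,0,0],
   [0,0,0,0,0,0,0,0,0],
   [0,0,0,0,0,0,0,0,0],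
   [0,0,0,0,0,0,0,0,0],
   [0,0,0,0,0,0,0,0,0]],
   [[1,0,0,0,0,0,0,0,0],
   [1,0,0,1,-1,-1,-1,-1,0],
   [0,0,0,0,0,0,1,0,0],
   [0,0,1,0,0,0,1,-1,0],
   [0,0,0,0,0,0,0,1,0],
   [0,0,1,0,1,-1,0,0,0],
   [0,1,1,-1,0,0,0,0,-1],
   [0,1,0,0,0,0,0,0,0],
   [0,0,0,1,0,0,0,0,0],
   [0,0,0,0,1,0,0,0,0],
   [0,0,0,0,1,1,0,0,1],
   [0,0,0,0,0,1,0,0,0],
   [0,0,0,0,0,0,0,0,1]],
   [[0,0,1,0,1,0,0,0,0]])

def kids8 : List Pos := []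

def cert8 : Cert :=
  .done

theorem check8 : check 9 sols kids8 cert8 pos8.1 pos8.2.1 pos8.2.2 = true := by decide +kernel

theorem holds8 {ι : Type*} [DecidableEq ι] (n : ℕ → ι → ℤ) : Holds 9 sols n pos8 :=
  sound sols n (by simp [kids8]) cert8 _ _ _ check8

def pos9 : Pos :=
  ([[0,0,0,0,0,0,0,0,0],
   [0,0,0,0,0,0,0,0,0],
   [0,0,0,0,0,0,0,0,0],
   [0,0,0,0,0,0,0,0,0],
   [0,0,0,0,0,0,0,0,0],
   [0,0,0,0,0,0,0,0,0],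
   [0,0,0,0,0,0,0,0,0],
   [0,0,0,0,0,0,0,0,0],
   [0,0,0,0,0,0,0,0,1]],
   [[1,0,0,0,0,0,0,0,0],
   [1,0,0,1,-1,-1,-1,-1,0],
   [0,0,0,0,0,0,1,0,0],
   [0,0,1,0,0,0,1,-1,0],
   [0,0,0,0,0,0,0,1,0],
   [0,0,1,0,1,-1,0,0,0],
   [0,1,1,-1,0,0,0,0,-1],
   [0,1,0,0,0,0,0,0,0],
   [0,0,0,1,0,0,0,0,0],
   [0,0,0,0,1,0,0,0,0],
   [0,0,0,0,1,1,0,0,1],
   [0,0,0,0,0,1,0,0,0]],
   [[0,0,1,0,1,0,0,0,0]])

def kids9 : List Pos := [pos8]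

def cert9 : Cert :=
  (.branch [0,0,0,0,0,0,0,0,1] (.known 0)
  (.last 8 []))

theorem check9 : check 9 sols kids9 cert9 pos9.1 pos9.2.1 pos9.2.2 = true := by decide +kernel

theorem holds9 {ι : Type*} [DecidableEq ι] (n : ℕ → ι → ℤ) : Holds 9 sols n pos9 :=
  sound sols n (by
    simp only [kids9, List.forall_mem_cons, List.not_mem_nil, false_imp_iff, implies_true, and_true]
    exact holds8 n) cert9 _ _ _ check9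

def pos10 : Pos :=
  ([[0,0,0,0,0,0,0,0,0],
   [0,0,0,0,0,0,0,0,0],
   [0,0,0,0,0,0,0,0,0],
   [0,0,0,0,0,0,0,0,0],
   [0,0,0,0,0,0,0,0,0],
   [0,0,0,0,0,1,0,0,0],
   [0,0,0,0,0,0,0,0,0],
   [0,0,0,0,0,0,0,0,0],
   [0,0,0,0,0,0,0,0,1]],
   [[1,0,0,0,0,0,0,0,0],
   [1,0,0,1,-1,-1,-1,-1,0],
   [0,0,0,0,0,0,1,0,0],
   [0,0,1,0,0,0,1,-1,0],
   [0,0,0,0,0,0,0,1,0],
   [0,0,1,0,1,-1,0,0,0],
   [0,1,1,-1,0,0,0,0,-1],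
   [0,1,0,0,0,0,0,0,0],
   [0,0,0,1,0,0,0,0,0],
   [0,0,0,0,1,0,0,0,0],
   [0,0,0,0,1,1,0,0,1]],
   [[0,0,1,0,1,0,0,0,0]])

def kids10 : List Pos := [pos9]

def cert10 : Cert :=
  (.branch [0,0,0,0,0,1,0,0,0] (.known 0)
  (.last 5 []))

theorem check10 : check 9 sols kids10 cert10 pos10.1 pos10.2.1 pos10.2.2 = true := by decide +kernel

theorem holds10 {ι : Type*} [DecidableEq ι] (n : ℕ → ι → ℤ) : Holds 9 sols n pos10 :=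
  sound sols n (by
    simp only [kids10, List.forall_mem_cons, List.not_mem_nil, false_imp_iff, implies_true, and_true]
    exact holds9 n) cert10 _ _ _ check10

def pos11 : Pos :=
  ([[0,0,0,0,0,0,0,0,0],
   [0,0,0,0,0,0,0,0,0],
   [0,0,0,0,0,0,0,0,0],
   [0,0,0,0,0,0,0,0,0],
   [0,0,0,0,1,1,0,0,1],
   [0,0,0,0,1,2,0,0,1],
   [0,0,0,0,0,0,0,0,0],
   [0,0,0,0,0,0,0,0,0],
   [0,0,0,0,1,1,0,0,2]],
   [[1,0,0,0,0,0,0,0,0],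
   [1,0,0,1,-1,-1,-1,-1,0],
   [0,0,0,0,0,0,1,0,0],
   [0,0,1,0,0,0,1,-1,0],
   [0,0,0,0,0,0,0,1,0],
   [0,0,1,0,1,-1,0,0,0],
   [0,1,1,-1,0,0,0,0,-1],
   [0,1,0,0,0,0,0,0,0],
   [0,0,0,1,0,0,0,0,0],
   [0,0,0,0,1,0,0,0,0]],
   [[0,0,1,0,1,0,0,0,0]])

def kids11 : List Pos := [pos10]

def cert11 : Cert :=
  (.branch [0,0,0,0,1,1,0,0,1] (.known 0)
  (.last 4 []))

theorem check11 : check 9 sols kids11 cert11 pos11.1 pos11.2.1 pos11.2.2 = true := by decide +kernel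

theorem holds11 {ι : Type*} [DecidableEq ι] (n : ℕ → ι → ℤ) : Holds 9 sols n pos11 :=
  sound sols n (by
    simp only [kids11, List.forall_mem_cons, List.not_mem_nil, false_imp_iff, implies_true, and_true]
    exact holds10 n) cert11 _ _ _ check11

def pos12 : Pos :=
  ([[0,0,0,0,0,0,0,0,0],
   [0,0,0,0,0,0,0,0,0],
   [0,0,0,0,0,0,0,0,0],
   [0,0,0,0,0,0,0,0,0],
   [0,0,0,0,0,0,0,0,0],
   [0,0,0,0,0,0,0,0,0],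
   [0,0,0,0,0,0,0,0,0],
   [0,0,0,0,0,0,0,0,0],
   [0,0,0,0,0,0,0,0,0]],
   [[1,0,0,0,0,0,0,0,0],
   [1,0,0,1,-1,-1,-1,-1,0],
   [0,0,0,0,0,0,1,0,0],
   [0,0,1,0,0,0,1,-1,0],
   [0,0,0,0,0,0,0,1,0],
   [0,0,1,0,1,-1,0,0,0],
   [0,1,1,-1,0,0,0,0,-1],
   [0,1,0,0,0,0,0,0,0],
   [0,0,0,1,0,0,0,0,0],
   [0,0,0,0,1,0,0,0,1],
   [0,0,0,0,1,1,0,0,0],
   [0,0,0,0,0,1,0,0,1]],
   [[0,0,0,0,1,0,0,0,0],
   [0,0,1,0,1,0,0,0,0]])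

def kids12 : List Pos := []

def cert12 : Cert :=
  .done

theorem check12 : check 9 sols kids12 cert12 pos12.1 pos12.2.1 pos12.2.2 = true := by decide +kernel

theorem holds12 {ι : Type*} [DecidableEq ι] (n : ℕ → ι → ℤ) : Holds 9 sols n pos12 :=
  sound sols n (by simp [kids12]) cert12 _ _ _ check12

def pos13 : Pos :=
  ([[0,0,0,0,0,0,0,0,0],
   [0,0,0,0,0,0,0,0,0],
   [0,0,0,0,0,0,0,0,0],
   [0,0,0,0,0,0,0,0,0],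
   [0,0,0,0,0,0,0,0,0],
   [0,0,0,0,0,1,0,0,1],
   [0,0,0,0,0,0,0,0,0],
   [0,0,0,0,0,0,0,0,0],
   [0,0,0,0,0,1,0,0,1]],
   [[1,0,0,0,0,0,0,0,0],
   [1,0,0,1,-1,-1,-1,-1,0],
   [0,0,0,0,0,0,1,0,0],
   [0,0,1,0,0,0,1,-1,0],
   [0,0,0,0,0,0,0,1,0],
   [0,0,1,0,1,-1,0,0,0],
   [0,1,1,-1,0,0,0,0,-1],
   [0,1,0,0,0,0,0,0,0],
   [0,0,0,1,0,0,0,0,0],
   [0,0,0,0,1,0,0,0,1],
   [0,0,0,0,1,1,0,0,0]],
   [[0,0,0,0,1,0,0,0,0],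
   [0,0,1,0,1,0,0,0,0]])

def kids13 : List Pos := [pos12]

def cert13 : Cert :=
  (.branch [0,0,0,0,0,1,0,0,1] (.known 0)
  (.last 5 []))

theorem check13 : check 9 sols kids13 cert13 pos13.1 pos13.2.1 pos13.2.2 = true := by decide +kernel

theorem holds13 {ι : Type*} [DecidableEq ι] (n : ℕ → ι → ℤ) : Holds 9 sols n pos13 :=
  sound sols n (by
    simp only [kids13, List.forall_mem_cons, List.not_mem_nil, false_imp_iff, implies_true, and_true]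
    exact holds12 n) cert13 _ _ _ check13

def pos14 : Pos :=
  ([[0,0,0,0,0,0,0,0,0],
   [0,0,0,0,0,0,0,0,0],
   [0,0,0,0,0,0,0,0,0],
   [0,0,0,0,0,0,0,0,0],
   [0,0,0,0,1,1,0,0,0],
   [0,0,0,0,1,2,0,0,1],
   [0,0,0,0,0,0,0,0,0],
   [0,0,0,0,0,0,0,0,0],
   [0,0,0,0,0,1,0,0,1]],
   [[1,0,0,0,0,0,0,0,0],
   [1,0,0,1,-1,-1,-1,-1,0],
   [0,0,0,0,0,0,1,0,0],
   [0,0,1,0,0,0,1,-1,0],
   [0,0,0,0,0,0,0,1,0],
   [0,0,1,0,1,-1,0,0,0],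
   [0,1,1,-1,0,0,0,0,-1],
   [0,1,0,0,0,0,0,0,0],
   [0,0,0,1,0,0,0,0,0],
   [0,0,0,0,1,0,0,0,1]],
   [[0,0,0,0,1,0,0,0,0],
   [0,0,1,0,1,0,0,0,0]])

def kids14 : List Pos := [pos13]

def cert14 : Cert :=
  (.branch [0,0,0,0,1,1,0,0,0] (.known 0)
  (.last 4 []))

theorem check14 : check 9 sols kids14 cert14 pos14.1 pos14.2.1 pos14.2.2 = true := by decide +kernel

theorem holds14 {ι : Type*} [DecidableEq ι] (n : ℕ → ι → ℤ) : Holds 9 sols n pos14 :=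
  sound sols n (by
    simp only [kids14, List.forall_mem_cons, List.not_mem_nil, false_imp_iff, implies_true, and_true]
    exact holds13 n) cert14 _ _ _ check14

def pos15 : Pos :=
  ([[0,0,0,0,0,0,0,0,0],
   [0,0,0,0,0,0,0,0,0],
   [0,0,0,0,0,0,0,0,0],
   [0,0,0,0,0,0,0,0,0],
   [0,0,0,0,1,0,0,0,1],
   [0,0,0,0,0,1,0,0,1],
   [0,0,0,0,0,0,0,0,0],
   [0,0,0,0,0,0,0,0,0],
   [0,0,0,0,1,1,0,0,2]],
   [[1,0,0,0,0,0,0,0,0],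
   [1,0,0,1,-1,-1,-1,-1,0],
   [0,0,0,0,0,0,1,0,0],
   [0,0,1,0,0,0,1,-1,0],
   [0,0,0,0,0,0,0,1,0],
   [0,0,1,0,1,-1,0,0,0],
   [0,1,1,-1,0,0,0,0,-1],
   [0,1,0,0,0,0,0,0,0],
   [0,0,0,1,0,0,0,0,0],
   [0,0,0,0,1,1,0,0,0]],
   [[0,0,0,0,1,0,0,0,1],
   [0,0,0,0,1,0,0,0,0],
   [0,0,1,0,1,0,0,0,0]])

def kids15 : List Pos := []

def cert15 : Cert :=
  (.last 4 [])

theorem check15 : check 9 sols kids15 cert15 pos15.1 pos15.2.1 pos15.2.2 = true := by decide +kernel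

theorem holds15 {ι : Type*} [DecidableEq ι] (n : ℕ → ι → ℤ) : Holds 9 sols n pos15 :=
  sound sols n (by simp [kids15]) cert15 _ _ _ check15

def pos16 : Pos :=
  ([[0,0,0,0,0,0,0,0,0],
   [0,0,0,0,0,0,0,0,0],
   [0,0,0,0,0,0,0,0,0],
   [0,0,0,0,0,0,0,0,0],
   [0,0,0,0,1,0,0,0,0],
   [0,0,0,0,0,1,0,0,0],
   [0,0,0,0,0,0,0,0,0],
   [0,0,0,0,0,0,0,0,0],
   [0,0,0,0,0,0,0,0,1]],
   [[1,0,0,0,0,0,0,0,0],
   [1,0,0,1,-1,-1,-1,-1,0],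
   [0,0,0,0,0,0,1,0,0],
   [0,0,1,0,0,0,1,-1,0],
   [0,0,0,0,0,0,0,1,0],
   [0,0,1,0,1,-1,0,0,0],
   [0,1,1,-1,0,0,0,0,-1],
   [0,1,0,0,0,0,0,0,0],
   [0,0,0,1,0,0,0,0,0],
   [0,0,0,0,1,1,0,0,1]],
   [[0,0,0,0,1,1,0,0,0],
   [0,0,0,0,1,0,0,0,1],
   [0,0,0,0,1,0,0,0,0],
   [0,0,1,0,1,0,0,0,0]])

def kids16 : List Pos := []

def cert16 : Cert :=
  (.last 4 [])

theorem check16 : check 9 sols kids16 cert16 pos16.1 pos16.2.1 pos16.2.2 = true := by decide +kernel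

theorem holds16 {ι : Type*} [DecidableEq ι] (n : ℕ → ι → ℤ) : Holds 9 sols n pos16 :=
  sound sols n (by simp [kids16]) cert16 _ _ _ check16

def pos17 : Pos :=
  ([[0,0,0,0,0,0,0,0,0],
   [0,0,0,0,0,0,0,0,0],
   [0,0,0,0,0,0,0,0,0],
   [0,0,0,0,0,0,0,0,0],
   [0,0,0,0,2,1,0,0,1],
   [0,0,0,0,1,2,0,0,1],
   [0,0,0,0,0,0,0,0,0],
   [0,0,0,0,0,0,0,0,0],
   [0,0,0,0,1,1,0,0,2]],
   [[1,0,0,0,0,0,0,0,0],
   [1,0,0,1,-1,-1,-1,-1,0],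
   [0,0,0,0,0,0,1,0,0],
   [0,0,1,0,0,0,1,-1,0],
   [0,0,0,0,0,0,0,1,0],
   [0,0,1,0,1,-1,0,0,0],
   [0,1,1,-1,0,0,0,0,-1],
   [0,1,0,0,0,0,0,0,0],
   [0,0,0,1,0,0,0,0,0]],
   [[0,0,1,0,1,0,0,0,0]])

def kids17 : List Pos := [pos11,pos14,pos15,pos16]

def cert17 : Cert :=
  (.branch [0,0,0,0,1,0,0,0,0] (.known 0)
  (.branch [0,0,0,0,1,0,0,0,1] (.known 1)
  (.branch [0,0,0,0,1,1,0,0,0] (.known 2)
  (.branch [0,0,0,0,1,1,0,0,1] (.known 3)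
  (.last 4 [])))))

theorem check17 : check 9 sols kids17 cert17 pos17.1 pos17.2.1 pos17.2.2 = true := by decide +kernel

theorem holds17 {ι : Type*} [DecidableEq ι] (n : ℕ → ι → ℤ) : Holds 9 sols n pos17 :=
  sound sols n (by
    simp only [kids17, List.forall_mem_cons, List.not_mem_nil, false_imp_iff, implies_true, and_true]
    exact ⟨holds11 n, holds14 n, holds15 n, holds16 n⟩) cert17 _ _ _ check17

def pos18 : Pos :=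
  ([[0,0,0,0,0,0,0,0,0],
   [0,0,0,0,0,0,0,0,0],
   [0,0,0,0,0,0,0,0,0],
   [0,0,0,1,0,0,0,0,0],
   [0,0,0,0,2,1,0,0,1],
   [0,0,0,0,1,2,0,0,1],
   [0,0,0,0,0,0,0,0,0],
   [0,0,0,0,0,0,0,0,0],
   [0,0,0,0,1,1,0,0,2]],
   [[1,0,0,0,0,0,0,0,0],
   [1,0,0,1,-1,-1,-1,-1,0],
   [0,0,0,0,0,0,1,0,0],
   [0,0,1,0,0,0,1,-1,0],
   [0,0,0,0,0,0,0,1,0],
   [0,0,1,0,1,-1,0,0,0],
   [0,1,1,-1,0,0,0,0,-1],
   [0,1,0,0,0,0,0,0,0]],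
   [[0,0,1,0,1,0,0,0,0]])

def kids18 : List Pos := [pos17]

def cert18 : Cert :=
  (.branch [0,0,0,1,0,0,0,0,0] (.known 0)
  (.last 3 []))

theorem check18 : check 9 sols kids18 cert18 pos18.1 pos18.2.1 pos18.2.2 = true := by decide +kernel

theorem holds18 {ι : Type*} [DecidableEq ι] (n : ℕ → ι → ℤ) : Holds 9 sols n pos18 :=
  sound sols n (by
    simp only [kids18, List.forall_mem_cons, List.not_mem_nil, false_imp_iff, implies_true, and_true]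
    exact holds17 n) cert18 _ _ _ check18

def pos19 : Pos :=
  ([[0,0,0,0,0,0,0,0,0],
   [0,1,0,0,0,0,0,0,0],
   [0,0,0,0,0,0,0,0,0],
   [0,0,0,1,0,0,0,0,0],
   [0,0,0,0,2,1,0,0,1],
   [0,0,0,0,1,2,0,0,1],
   [0,0,0,0,0,0,0,0,0],
   [0,0,0,0,0,0,0,0,0],
   [0,0,0,0,1,1,0,0,2]],
   [[1,0,0,0,0,0,0,0,0],
   [1,0,0,1,-1,-1,-1,-1,0],
   [0,0,0,0,0,0,1,0,0],
   [0,0,1,0,0,0,1,-1,0],
   [0,0,0,0,0,0,0,1,0],
   [0,0,1,0,1,-1,0,0,0],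
   [0,1,1,-1,0,0,0,0,-1]],
   [[0,0,1,0,1,0,0,0,0]])

def kids19 : List Pos := [pos18]

def cert19 : Cert :=
  (.branch [0,1,0,0,0,0,0,0,0] (.known 0)
  (.last 1 []))

theorem check19 : check 9 sols kids19 cert19 pos19.1 pos19.2.1 pos19.2.2 = true := by decide +kernel

theorem holds19 {ι : Type*} [DecidableEq ι] (n : ℕ → ι → ℤ) : Holds 9 sols n pos19 :=
  sound sols n (by
    simp only [kids19, List.forall_mem_cons, List.not_mem_nil, false_imp_iff, implies_true, and_true]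
    exact holds18 n) cert19 _ _ _ check19

def pos20 : Pos :=
  ([[0,0,0,0,0,0,0,0,0],
   [0,2,1,-1,0,0,0,0,-1],
   [0,1,1,-1,0,0,0,0,-1],
   [0,-1,-1,2,0,0,0,0,1],
   [0,0,0,0,2,1,0,0,1],
   [0,0,0,0,1,2,0,0,1],
   [0,0,0,0,0,0,0,0,0],
   [0,0,0,0,0,0,0,0,0],
   [0,-1,-1,1,1,1,0,0,3]],
   [[1,0,0,0,0,0,0,0,0],
   [1,0,0,1,-1,-1,-1,-1,0],
   [0,0,0,0,0,0,1,0,0],
   [0,0,1,0,0,0,1,-1,0],
   [0,0,0,0,0,0,0,1,0],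
   [0,0,1,0,1,-1,0,0,0]],
   [[0,0,1,0,1,0,0,0,0]])

def kids20 : List Pos := [pos19]

def cert20 : Cert :=
  (.branch [0,1,1,-1,0,0,0,0,-1] (.known 0)
  (.last 2 []))

theorem check20 : check 9 sols kids20 cert20 pos20.1 pos20.2.1 pos20.2.2 = true := by decide +kernel

theorem holds20 {ι : Type*} [DecidableEq ι] (n : ℕ → ι → ℤ) : Holds 9 sols n pos20 :=
  sound sols n (by
    simp only [kids20, List.forall_mem_cons, List.not_mem_nil, false_imp_iff, implies_true, and_true]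
    exact holds19 n) cert20 _ _ _ check20

def pos21 : Pos :=
  ([[0,0,0,0,0,0,0,0,0],
   [0,1,0,0,0,0,0,0,0],
   [0,0,1,0,1,-1,0,0,0],
   [0,0,0,1,0,0,0,0,0],
   [0,0,1,0,3,0,0,0,1],
   [0,0,-1,0,0,3,0,0,1],
   [0,0,0,0,0,0,0,0,0],
   [0,0,0,0,0,0,0,0,0],
   [0,0,0,0,1,1,0,0,2]],
   [[1,0,0,0,0,0,0,0,0],
   [1,0,0,1,-1,-1,-1,-1,0],
   [0,0,0,0,0,0,1,0,0],
   [0,0,1,0,0,0,1,-1,0],
   [0,0,0,0,0,0,0,1,0],
   [0,1,1,-1,0,0,0,0,-1]],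
   [[0,0,1,0,1,-1,0,0,0],
   [0,0,1,0,1,0,0,0,0]])

def kids21 : List Pos := []

def cert21 : Cert :=
  (.last 2 [])

theorem check21 : check 9 sols kids21 cert21 pos21.1 pos21.2.1 pos21.2.2 = true := by decide +kernel

theorem holds21 {ι : Type*} [DecidableEq ι] (n : ℕ → ι → ℤ) : Holds 9 sols n pos21 :=
  sound sols n (by simp [kids21]) cert21 _ _ _ check21

def pos22 : Pos :=
  ([[0,0,0,0,0,0,0,0,0],
   [0,1,0,0,0,1,0,0,0],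
   [0,0,1,0,1,0,0,0,0],
   [0,0,0,1,0,-1,0,0,0],
   [0,0,1,0,3,0,0,0,1],
   [0,1,0,-1,0,2,0,0,0],
   [0,0,0,0,0,0,0,0,0],
   [0,0,0,0,0,0,0,0,0],
   [0,0,0,0,1,0,0,0,2]],
   [[1,0,0,0,0,0,0,0,0],
   [1,0,0,1,-1,-1,-1,-1,0],
   [0,0,0,0,0,0,1,0,0],
   [0,0,1,0,0,0,1,-1,0],
   [0,0,0,0,0,0,0,1,0],
   [0,1,1,-1,0,-1,0,0,-1]],
   [[0,1,1,-1,0,0,0,0,-1],
   [0,0,1,0,1,-1,0,0,0],
   [0,0,1,0,1,0,0,0,0]])

def kids22 : List Pos := []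

def cert22 : Cert :=
  (.last 2 [])

theorem check22 : check 9 sols kids22 cert22 pos22.1 pos22.2.1 pos22.2.2 = true := by decide +kernel

theorem holds22 {ι : Type*} [DecidableEq ι] (n : ℕ → ι → ℤ) : Holds 9 sols n pos22 :=
  sound sols n (by simp [kids22]) cert22 _ _ _ check22

def pos23 : Pos :=
  ([[0,0,0,0,0,0,0,0,0],
   [0,2,1,-1,0,0,0,0,-1],
   [0,1,2,-1,1,-1,0,0,-1],
   [0,-1,-1,2,0,0,0,0,1],
   [0,0,1,0,3,0,0,0,1],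
   [0,0,-1,0,0,3,0,0,1],
   [0,0,0,0,0,0,0,0,0],
   [0,0,0,0,0,0,0,0,0],
   [0,-1,-1,1,1,1,0,0,3]],
   [[1,0,0,0,0,0,0,0,0],
   [1,0,0,1,-1,-1,-1,-1,0],
   [0,0,0,0,0,0,1,0,0],
   [0,0,1,0,0,0,1,-1,0],
   [0,0,0,0,0,0,0,1,0]],
   [])

def kids23 : List Pos := [pos7,pos20,pos21,pos22]

def cert23 : Cert :=
  (.branch [0,0,1,0,1,0,0,0,0] (.known 0)
  (.branch [0,0,1,0,1,-1,0,0,0] (.known 1)
  (.branch [0,1,1,-1,0,0,0,0,-1] (.known 2)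
  (.branch [0,1,1,-1,0,-1,0,0,-1] (.known 3)
  (.last 2 [([0,2,-3,1,1],15),([0,-3,3,-3,2],60),([0,-3,-5,-3,2],60),([0,2,1,1,1],15),([0,-7,21,7,-1,6],405),([0,-7,0,7,-1,6],405),([0,-3,13,3,-3,0,0,0,4],153),([0,3,-7,-3,1,0,0,0,2],77),([0,5,-9,-5,-6,1,0,0,6],405),([0,3,9,-3,-4,2,0,0,3],201),([0,5,12,-5,-6,1,0,0,6],405),([0,3,2,-3,1,0,0,0,2],77),([0,-3,0,3,-3,0,0,0,4],153)])))))

theorem check23 : check 9 sols kids23 cert23 pos23.1 pos23.2.1 pos23.2.2 = true := by decide +kernel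

theorem holds23 {ι : Type*} [DecidableEq ι] (n : ℕ → ι → ℤ) : Holds 9 sols n pos23 :=
  sound sols n (by
    simp only [kids23, List.forall_mem_cons, List.not_mem_nil, false_imp_iff, implies_true, and_true]
    exact ⟨holds7 n, holds20 n, holds21 n, holds22 n⟩) cert23 _ _ _ check23

def pos24 : Pos :=
  ([[0,0,0,0,0,0,0,0,0],
   [0,2,1,-1,0,0,0,0,-1],
   [0,1,2,-1,1,-1,0,0,-1],
   [0,-1,-1,2,0,0,0,0,1],
   [0,0,1,0,3,0,0,0,1],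
   [0,0,-1,0,0,3,0,0,1],
   [0,0,0,0,0,0,0,0,0],
   [0,0,0,0,0,0,0,1,0],
   [0,-1,-1,1,1,1,0,0,3]],
   [[1,0,0,0,0,0,0,0,0],
   [1,0,0,1,-1,-1,-1,-1,0],
   [0,0,0,0,0,0,1,0,0],
   [0,0,1,0,0,0,1,-1,0]],
   [])

def kids24 : List Pos := [pos23]

def cert24 : Cert :=
  (.branch [0,0,0,0,0,0,0,1,0] (.known 0)
  (.last 7 [([0,-1,-2,-4,1],21),([0,2,-3,1,1],15),([0,-3,3,-3,2],60),([0,4,-2,1,1],21),([0,5,-5,-3,2],60),([0,-2,1,1,1],15),([0,-3,-5,-3,2],60),([0,2,1,1,1],15),([0,-3,9,3,-7,5],114),([0,1,3,5,-1,1],30),([0,1,4,6,-1,2],45),([0,-7,0,-14,-1,6],405),([0,-7,21,7,-1,6],405),([0,-5,3,-1,-1,1],30),([0,14,0,7,-1,6],405),([0,-6,4,-1,-1,2],45),([0,-7,0,7,-1,6],405)]))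

theorem check24 : check 9 sols kids24 cert24 pos24.1 pos24.2.1 pos24.2.2 = true := by decide +kernel

theorem holds24 {ι : Type*} [DecidableEq ι] (n : ℕ → ι → ℤ) : Holds 9 sols n pos24 :=
  sound sols n (by
    simp only [kids24, List.forall_mem_cons, List.not_mem_nil, false_imp_iff, implies_true, and_true]
    exact holds23 n) cert24 _ _ _ check24

def pos25 : Pos :=
  ([[0,0,0,0,0,0,0,0,0],
   [0,2,1,-1,0,0,0,0,-1],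
   [0,1,3,-1,1,-1,1,-1,-1],
   [0,-1,-1,2,0,0,0,0,1],
   [0,0,1,0,3,0,0,0,1],
   [0,0,-1,0,0,3,0,0,1],
   [0,0,1,0,0,0,1,-1,0],
   [0,0,-1,0,0,0,-1,2,0],
   [0,-1,-1,1,1,1,0,0,3]],
   [[1,0,0,0,0,0,0,0,0],
   [1,0,0,1,-1,-1,-1,-1,0],
   [0,0,0,0,0,0,1,0,0]],
   [])

def kids25 : List Pos := [pos24]

def cert25 : Cert :=
  (.branch [0,0,1,0,0,0,1,-1,0] (.known 0)
  (.last 6 [([0,-1,-1,-3,1],14),([0,1,-3,-1,2],21),([0,-2,1,-3,1],24),([0,4,-3,5,1],72),([0,3,-1,1,1],14),([0,4,-3,-4,1],72),([0,-2,1,2,1],24),([0,3,1,2,1],24),([0,-5,-3,-4,1],72),([0,-1,-1,1,1],14),([0,5,6,16,-2,5],381),([0,5,6,16,-1,6],405),([0,-7,0,-14,-1,6],405),([0,-2,6,2,-2,3],63),([0,-1,3,1,1,2],30),([0,-11,9,-13,-3,2],522),([0,5,-3,7,1,2],138),([0,-16,6,-5,-2,5],381),([0,14,0,7,-1,6],405),([0,-16,6,-5,-1,6],405),([0,5,-3,-5,1,2],138),([0,-11,9,11,-3,2],522),([0,13,9,11,-3,2],522),([0,-7,-3,-5,1,2],138),([0,5,6,-5,-2,5],381),([0,5,6,-5,-1,6],405),([0,-7,0,7,-1,6],405)]))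

theorem check25 : check 9 sols kids25 cert25 pos25.1 pos25.2.1 pos25.2.2 = true := by decide +kernel

theorem holds25 {ι : Type*} [DecidableEq ι] (n : ℕ → ι → ℤ) : Holds 9 sols n pos25 :=
  sound sols n (by
    simp only [kids25, List.forall_mem_cons, List.not_mem_nil, false_imp_iff, implies_true, and_true]
    exact holds24 n) cert25 _ _ _ check25

def pos26 : Pos :=
  ([[0,0,0,0,0,0,0,0,0],
   [0,2,1,-1,0,0,0,0,-1],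
   [0,1,2,-1,1,-1,0,0,-1],
   [0,-1,-1,2,0,0,0,0,1],
   [0,0,1,0,3,0,0,0,1],
   [0,0,-1,0,0,3,0,0,1],
   [0,0,0,0,0,0,1,0,0],
   [0,0,0,0,0,0,0,1,0],
   [0,-1,-1,1,1,1,0,0,3]],
   [[1,0,0,0,0,0,0,0,0],
   [1,0,0,1,-1,-1,-1,-1,0],
   [0,0,1,0,0,0,1,-1,0]],
   [[0,0,0,0,0,0,1,0,0]])

def kids26 : List Pos := []

def cert26 : Cert :=
  (.last 6 [([0,-1,-2,-4,1],21),([0,2,-3,1,1],15),([0,-3,3,-3,2],60),([0,4,-2,1,1],21),([0,5,-5,-3,2],60),([0,-2,1,1,1],15),([0,-3,-5,-3,2],60),([0,2,1,1,1],15),([0,-3,9,3,-7,5],114),([0,1,3,5,-1,1],30),([0,1,4,6,-1,2],45),([0,-7,0,-14,-1,6],405),([0,-7,21,7,-1,6],405),([0,-5,3,-1,-1,1],30),([0,14,0,7,-1,6],405),([0,-6,4,-1,-1,2],45),([0,-7,0,7,-1,6],405)])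

theorem check26 : check 9 sols kids26 cert26 pos26.1 pos26.2.1 pos26.2.2 = true := by decide +kernel

theorem holds26 {ι : Type*} [DecidableEq ι] (n : ℕ → ι → ℤ) : Holds 9 sols n pos26 :=
  sound sols n (by simp [kids26]) cert26 _ _ _ check26

def pos27 : Pos :=
  ([[0,0,0,0,0,0,0,0,0],
   [0,2,1,-1,0,0,0,0,-1],
   [0,1,3,-1,1,-1,1,-1,-1],
   [0,-1,-1,2,0,0,0,0,1],
   [0,0,1,0,3,0,0,0,1],
   [0,0,-1,0,0,3,0,0,1],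
   [0,0,1,0,0,0,2,-1,0],
   [0,0,-1,0,0,0,-1,2,0],
   [0,-1,-1,1,1,1,0,0,3]],
   [[1,0,0,0,0,0,0,0,0],
   [1,0,0,1,-1,-1,-1,-1,0]],
   [])

def kids27 : List Pos := [pos25,pos26]

def cert27 : Cert :=
  (.branch [0,0,0,0,0,0,1,0,0] (.known 0)
  (.branch [0,0,1,0,0,0,1,-1,0] (.known 1)
  (.last 6 [([0,-1,-1,-3,1],14),([0,1,-3,-1,2],21),([0,-2,1,-3,1],24),([0,4,-3,5,1],72),([0,3,-1,1,1],14),([0,4,-3,-4,1],72),([0,-2,1,2,1],24),([0,3,1,2,1],24),([0,-5,-3,-4,1],72),([0,-1,-1,1,1],14),([0,5,6,16,-2,5],381),([0,5,6,16,-1,6],405),([0,-7,0,-14,-1,6],405),([0,-2,6,2,-2,3],63),([0,-1,3,1,1,2],30),([0,-11,9,-13,-3,2],522),([0,5,-3,7,1,2],138),([0,-16,6,-5,-2,5],381),([0,14,0,7,-1,6],405),([0,-16,6,-5,-1,6],405),([0,5,-3,-5,1,2],138),([0,-11,9,11,-3,2],522),([0,13,9,11,-3,2],522),([0,-7,-3,-5,1,2],138),([0,5,6,-5,-2,5],381)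,([0,5,6,-5,-1,6],405),([0,-7,0,7,-1,6],405),([0,1,-3,-1,1,-3,3],27),([0,1,-3,-1,3,-1,3],27),([0,1,-3,-1,6,4,5],185),([0,-1,3,1,-4,4,1],77),([0,1,-3,-1,-4,-6,5],185),([0,1,0,2,0,0,1],8),([0,-2,-3,-7,1,-1,2],65),([0,-3,-6,-12,2,-2,5],200),([0,0,0,0,1,-1,1],8),([0,-4,3,-5,-1,1,1],77),([0,7,-3,2,1,-1,2],65),([0,12,-6,3,2,-2,5],200),([0,10,-9,-10,3,-3,1],413),([0,5,3,4,-1,1,1],77),([0,1,0,-1,0,0,1],8),([0,-2,0,-1,0,0,1],8),([0,-4,3,4,-1,1,1],77),([0,-1,3,1,-1,1,-3,2],23),([0,-1,3,1,-1,-3,-6,3],135),([0,-1,3,1,3,1,-6,3],135),([0,-1,3,1,-1,1,2,2],23),([0,-1,3,1,-1,-3,6,3],135),([0,-1,3,1,3,1,6,3],135),([0,2,-3,-2,0,-2,9,3,3],126),([0,-1,6,1,-3,1,-12,-3,3],189),([0,1,6,-1,-5,-16,-29,-7,9],1944),([0,16,-12,-16,-8,35,82,-1,36],22113),([0,1,0,-1,-6,-1,9,3,3],216),([0,0,4,0,3,0,-10,1,4],273),([0,-1,6,1,-3,1,3,-3,3],189),([0,2,-3,-2,0,-2,-3,3,3],126),([0,1,6,-1,-5,-16,16,-7,9],1944),([0,16,-12,-16,-8,35,-71,-1,36],22113),([0,1,0,-1,-6,-1,-6,3,3],216),([0,0,4,0,3,0,7,1,4],273)])))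

theorem check27 : check 9 sols kids27 cert27 pos27.1 pos27.2.1 pos27.2.2 = true := by decide +kernel

theorem holds27 {ι : Type*} [DecidableEq ι] (n : ℕ → ι → ℤ) : Holds 9 sols n pos27 :=
  sound sols n (by
    simp only [kids27, List.forall_mem_cons, List.not_mem_nil, false_imp_iff, implies_true, and_true]
    exact ⟨holds25 n, holds26 n⟩) cert27 _ _ _ check27

def pos28 : Pos :=
  ([[1,0,0,1,-1,-1,-1,-1,0],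
   [0,2,1,-1,0,0,0,0,-1],
   [0,1,3,-1,1,-1,1,-1,-1],
   [1,-1,-1,3,-1,-1,-1,-1,1],
   [-1,0,1,-1,4,1,1,1,1],
   [-1,0,-1,-1,1,4,1,1,1],
   [-1,0,1,-1,1,1,3,0,0],
   [-1,0,-1,-1,1,1,0,3,0],
   [0,-1,-1,1,1,1,0,0,3]],
   [[1,0,0,0,0,0,0,0,0]],
   [])

def kids28 : List Pos := [pos27]

def cert28 : Cert :=
  (.branch [1,0,0,1,-1,-1,-1,-1,0] (.known 0)
  (.last 0 []))

theorem check28 : check 9 sols kids28 cert28 pos28.1 pos28.2.1 pos28.2.2 = true := by decide +kernel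

theorem holds28 {ι : Type*} [DecidableEq ι] (n : ℕ → ι → ℤ) : Holds 9 sols n pos28 :=
  sound sols n (by
    simp only [kids28, List.forall_mem_cons, List.not_mem_nil, false_imp_iff, implies_true, and_true]
    exact holds27 n) cert28 _ _ _ check28

def pos29 : Pos :=
  ([[0,0,0,0,0,0,0,0,0],
   [0,0,0,0,0,0,0,0,0],
   [0,0,0,0,0,0,0,0,0],
   [0,0,0,0,0,0,0,0,0],
   [0,0,0,0,0,0,0,0,0],
   [0,0,0,0,0,0,0,0,0],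
   [0,0,0,0,0,0,0,0,0],
   [0,0,0,0,0,0,0,0,0],
   [0,0,0,0,0,0,0,0,0]],
   [[1,0,0,0,0,0,-1,0,0],
   [1,0,0,1,-1,-1,0,-1,0],
   [0,1,0,0,0,1,0,0,0],
   [0,1,1,-1,0,-1,0,0,-1],
   [0,0,0,1,0,-1,-1,0,0],
   [0,0,1,0,1,0,1,0,0],
   [0,0,1,0,0,0,0,-1,0],
   [0,0,0,0,0,0,0,1,0],
   [0,0,0,0,1,0,0,0,0],
   [0,0,0,0,1,0,0,0,1],
   [0,0,0,0,0,0,0,0,1]],
   [[1,0,0,0,0,0,0,0,0]])

def kids29 : List Pos := []

def cert29 : Cert :=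
  .done

theorem check29 : check 9 sols kids29 cert29 pos29.1 pos29.2.1 pos29.2.2 = true := by decide +kernel

theorem holds29 {ι : Type*} [DecidableEq ι] (n : ℕ → ι → ℤ) : Holds 9 sols n pos29 :=
  sound sols n (by simp [kids29]) cert29 _ _ _ check29

def pos30 : Pos :=
  ([[0,0,0,0,0,0,0,0,0],
   [0,0,0,0,0,0,0,0,0],
   [0,0,0,0,0,0,0,0,0],
   [0,0,0,0,0,0,0,0,0],
   [0,0,0,0,0,0,0,0,0],
   [0,0,0,0,0,0,0,0,0],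
   [0,0,0,0,0,0,0,0,0],
   [0,0,0,0,0,0,0,0,0],
   [0,0,0,0,0,0,0,0,1]],
   [[1,0,0,0,0,0,-1,0,0],
   [1,0,0,1,-1,-1,0,-1,0],
   [0,1,0,0,0,1,0,0,0],
   [0,1,1,-1,0,-1,0,0,-1],
   [0,0,0,1,0,-1,-1,0,0],
   [0,0,1,0,1,0,1,0,0],
   [0,0,1,0,0,0,0,-1,0],
   [0,0,0,0,0,0,0,1,0],
   [0,0,0,0,1,0,0,0,0],
   [0,0,0,0,1,0,0,0,1]],
   [[1,0,0,0,0,0,0,0,0]])

def kids30 : List Pos := [pos29]

def cert30 : Cert :=
  (.branch [0,0,0,0,0,0,0,0,1] (.known 0)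
  (.last 8 []))

theorem check30 : check 9 sols kids30 cert30 pos30.1 pos30.2.1 pos30.2.2 = true := by decide +kernel

theorem holds30 {ι : Type*} [DecidableEq ι] (n : ℕ → ι → ℤ) : Holds 9 sols n pos30 :=
  sound sols n (by
    simp only [kids30, List.forall_mem_cons, List.not_mem_nil, false_imp_iff, implies_true, and_true]
    exact holds29 n) cert30 _ _ _ check30

def pos31 : Pos :=
  ([[0,0,0,0,0,0,0,0,0],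
   [0,0,0,0,0,0,0,0,0],
   [0,0,0,0,0,0,0,0,0],
   [0,0,0,0,0,0,0,0,0],
   [0,0,0,0,1,0,0,0,1],
   [0,0,0,0,0,0,0,0,0],
   [0,0,0,0,0,0,0,0,0],
   [0,0,0,0,0,0,0,0,0],
   [0,0,0,0,1,0,0,0,2]],
   [[1,0,0,0,0,0,-1,0,0],
   [1,0,0,1,-1,-1,0,-1,0],
   [0,1,0,0,0,1,0,0,0],
   [0,1,1,-1,0,-1,0,0,-1],
   [0,0,0,1,0,-1,-1,0,0],
   [0,0,1,0,1,0,1,0,0],
   [0,0,1,0,0,0,0,-1,0],
   [0,0,0,0,0,0,0,1,0],
   [0,0,0,0,1,0,0,0,0]],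
   [[1,0,0,0,0,0,0,0,0]])

def kids31 : List Pos := [pos30]

def cert31 : Cert :=
  (.branch [0,0,0,0,1,0,0,0,1] (.known 0)
  (.last 4 []))

theorem check31 : check 9 sols kids31 cert31 pos31.1 pos31.2.1 pos31.2.2 = true := by decide +kernel

theorem holds31 {ι : Type*} [DecidableEq ι] (n : ℕ → ι → ℤ) : Holds 9 sols n pos31 :=
  sound sols n (by
    simp only [kids31, List.forall_mem_cons, List.not_mem_nil, false_imp_iff, implies_true, and_true]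
    exact holds30 n) cert31 _ _ _ check31

def pos32 : Pos :=
  ([[0,0,0,0,0,0,0,0,0],
   [0,0,0,0,0,0,0,0,0],
   [0,0,0,0,0,0,0,0,0],
   [0,0,0,0,0,0,0,0,0],
   [0,0,0,0,1,0,0,0,0],
   [0,0,0,0,0,0,0,0,0],
   [0,0,0,0,0,0,0,0,0],
   [0,0,0,0,0,0,0,0,0],
   [0,0,0,0,0,0,0,0,1]],
   [[1,0,0,0,0,0,-1,0,0],
   [1,0,0,1,-1,-1,0,-1,0],
   [0,1,0,0,0,1,0,0,0],
   [0,1,1,-1,0,-1,0,0,-1],
   [0,0,0,1,0,-1,-1,0,0],
   [0,0,1,0,1,0,1,0,0],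
   [0,0,1,0,0,0,0,-1,0],
   [0,0,0,0,0,0,0,1,0],
   [0,0,0,0,1,0,0,0,1]],
   [[0,0,0,0,1,0,0,0,0],
   [1,0,0,0,0,0,0,0,0]])

def kids32 : List Pos := []

def cert32 : Cert :=
  (.last 4 [])

theorem check32 : check 9 sols kids32 cert32 pos32.1 pos32.2.1 pos32.2.2 = true := by decide +kernel

theorem holds32 {ι : Type*} [DecidableEq ι] (n : ℕ → ι → ℤ) : Holds 9 sols n pos32 :=
  sound sols n (by simp [kids32]) cert32 _ _ _ check32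

def pos33 : Pos :=
  ([[0,0,0,0,0,0,0,0,0],
   [0,0,0,0,0,0,0,0,0],
   [0,0,0,0,0,0,0,0,0],
   [0,0,0,0,0,0,0,0,0],
   [0,0,0,0,2,0,0,0,1],
   [0,0,0,0,0,0,0,0,0],
   [0,0,0,0,0,0,0,0,0],
   [0,0,0,0,0,0,0,0,0],
   [0,0,0,0,1,0,0,0,2]],
   [[1,0,0,0,0,0,-1,0,0],
   [1,0,0,1,-1,-1,0,-1,0],
   [0,1,0,0,0,1,0,0,0],
   [0,1,1,-1,0,-1,0,0,-1],
   [0,0,0,1,0,-1,-1,0,0],
   [0,0,1,0,1,0,1,0,0],
   [0,0,1,0,0,0,0,-1,0],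
   [0,0,0,0,0,0,0,1,0]],
   [[1,0,0,0,0,0,0,0,0]])

def kids33 : List Pos := [pos31,pos32]

def cert33 : Cert :=
  (.branch [0,0,0,0,1,0,0,0,0] (.known 0)
  (.branch [0,0,0,0,1,0,0,0,1] (.known 1)
  (.last 4 [])))

theorem check33 : check 9 sols kids33 cert33 pos33.1 pos33.2.1 pos33.2.2 = true := by decide +kernel

theorem holds33 {ι : Type*} [DecidableEq ι] (n : ℕ → ι → ℤ) : Holds 9 sols n pos33 :=
  sound sols n (by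
    simp only [kids33, List.forall_mem_cons, List.not_mem_nil, false_imp_iff, implies_true, and_true]
    exact ⟨holds31 n, holds32 n⟩) cert33 _ _ _ check33

def pos34 : Pos :=
  ([[0,0,0,0,0,0,0,0,0],
   [0,0,0,0,0,0,0,0,0],
   [0,0,0,0,0,0,0,0,0],
   [0,0,0,0,0,0,0,0,0],
   [0,0,0,0,2,0,0,0,1],
   [0,0,0,0,0,0,0,0,0],
   [0,0,0,0,0,0,0,0,0],
   [0,0,0,0,0,0,0,1,0],
   [0,0,0,0,1,0,0,0,2]],
   [[1,0,0,0,0,0,-1,0,0],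
   [1,0,0,1,-1,-1,0,-1,0],
   [0,1,0,0,0,1,0,0,0],
   [0,1,1,-1,0,-1,0,0,-1],
   [0,0,0,1,0,-1,-1,0,0],
   [0,0,1,0,1,0,1,0,0],
   [0,0,1,0,0,0,0,-1,0]],
   [[1,0,0,0,0,0,0,0,0]])

def kids34 : List Pos := [pos33]

def cert34 : Cert :=
  (.branch [0,0,0,0,0,0,0,1,0] (.known 0)
  (.last 7 []))

theorem check34 : check 9 sols kids34 cert34 pos34.1 pos34.2.1 pos34.2.2 = true := by decide +kernel

theorem holds34 {ι : Type*} [DecidableEq ι] (n : ℕ → ι → ℤ) : Holds 9 sols n pos34 :=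
  sound sols n (by
    simp only [kids34, List.forall_mem_cons, List.not_mem_nil, false_imp_iff, implies_true, and_true]
    exact holds33 n) cert34 _ _ _ check34

def pos35 : Pos :=
  ([[0,0,0,0,0,0,0,0,0],
   [0,0,0,0,0,0,0,0,0],
   [0,0,1,0,0,0,0,-1,0],
   [0,0,0,0,0,0,0,0,0],
   [0,0,0,0,2,0,0,0,1],
   [0,0,0,0,0,0,0,0,0],
   [0,0,0,0,0,0,0,0,0],
   [0,0,-1,0,0,0,0,2,0],
   [0,0,0,0,1,0,0,0,2]],
   [[1,0,0,0,0,0,-1,0,0],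
   [1,0,0,1,-1,-1,0,-1,0],
   [0,1,0,0,0,1,0,0,0],
   [0,1,1,-1,0,-1,0,0,-1],
   [0,0,0,1,0,-1,-1,0,0],
   [0,0,1,0,1,0,1,0,0]],
   [[1,0,0,0,0,0,0,0,0]])

def kids35 : List Pos := [pos34]

def cert35 : Cert :=
  (.branch [0,0,1,0,0,0,0,-1,0] (.known 0)
  (.last 2 []))

theorem check35 : check 9 sols kids35 cert35 pos35.1 pos35.2.1 pos35.2.2 = true := by decide +kernel

theorem holds35 {ι : Type*} [DecidableEq ι] (n : ℕ → ι → ℤ) : Holds 9 sols n pos35 :=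
  sound sols n (by
    simp only [kids35, List.forall_mem_cons, List.not_mem_nil, false_imp_iff, implies_true, and_true]
    exact holds34 n) cert35 _ _ _ check35

def pos36 : Pos :=
  ([[0,0,0,0,0,0,0,0,0],
   [0,0,0,0,0,0,0,0,0],
   [0,0,2,0,1,0,1,-1,0],
   [0,0,0,0,0,0,0,0,0],
   [0,0,1,0,3,0,1,0,1],
   [0,0,0,0,0,0,0,0,0],
   [0,0,1,0,1,0,1,0,0],
   [0,0,-1,0,0,0,0,2,0],
   [0,0,0,0,1,0,0,0,2]],
   [[1,0,0,0,0,0,-1,0,0],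
   [1,0,0,1,-1,-1,0,-1,0],
   [0,1,0,0,0,1,0,0,0],
   [0,1,1,-1,0,-1,0,0,-1],
   [0,0,0,1,0,-1,-1,0,0]],
   [[1,0,0,0,0,0,0,0,0]])

def kids36 : List Pos := [pos35]

def cert36 : Cert :=
  (.branch [0,0,1,0,1,0,1,0,0] (.known 0)
  (.last 6 []))

theorem check36 : check 9 sols kids36 cert36 pos36.1 pos36.2.1 pos36.2.2 = true := by decide +kernel

theorem holds36 {ι : Type*} [DecidableEq ι] (n : ℕ → ι → ℤ) : Holds 9 sols n pos36 :=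
  sound sols n (by
    simp only [kids36, List.forall_mem_cons, List.not_mem_nil, false_imp_iff, implies_true, and_true]
    exact holds35 n) cert36 _ _ _ check36

def pos37 : Pos :=
  ([[0,0,0,0,0,0,0,0,0],
   [0,0,0,0,0,0,0,0,0],
   [0,0,2,0,1,0,1,-1,0],
   [0,0,0,1,0,-1,-1,0,0],
   [0,0,1,0,3,0,1,0,1],
   [0,0,0,-1,0,1,1,0,0],
   [0,0,1,-1,1,1,2,0,0],
   [0,0,-1,0,0,0,0,2,0],
   [0,0,0,0,1,0,0,0,2]],
   [[1,0,0,0,0,0,-1,0,0],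
   [1,0,0,1,-1,-1,0,-1,0],
   [0,1,0,0,0,1,0,0,0],
   [0,1,1,-1,0,-1,0,0,-1]],
   [[1,0,0,0,0,0,0,0,0]])

def kids37 : List Pos := [pos36]

def cert37 : Cert :=
  (.branch [0,0,0,1,0,-1,-1,0,0] (.known 0)
  (.last 3 []))

theorem check37 : check 9 sols kids37 cert37 pos37.1 pos37.2.1 pos37.2.2 = true := by decide +kernel

theorem holds37 {ι : Type*} [DecidableEq ι] (n : ℕ → ι → ℤ) : Holds 9 sols n pos37 :=
  sound sols n (by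
    simp only [kids37, List.forall_mem_cons, List.not_mem_nil, false_imp_iff, implies_true, and_true]
    exact holds36 n) cert37 _ _ _ check37

def pos38 : Pos :=
  ([[0,0,0,0,0,0,0,0,0],
   [0,1,1,-1,0,-1,0,0,-1],
   [0,1,3,-1,1,-1,1,-1,-1],
   [0,-1,-1,2,0,0,-1,0,1],
   [0,0,1,0,3,0,1,0,1],
   [0,-1,-1,0,0,2,1,0,1],
   [0,0,1,-1,1,1,2,0,0],
   [0,0,-1,0,0,0,0,2,0],
   [0,-1,-1,1,1,1,0,0,3]],
   [[1,0,0,0,0,0,-1,0,0],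
   [1,0,0,1,-1,-1,0,-1,0],
   [0,1,0,0,0,1,0,0,0]],
   [[1,0,0,0,0,0,0,0,0]])

def kids38 : List Pos := [pos37]

def cert38 : Cert :=
  (.branch [0,1,1,-1,0,-1,0,0,-1] (.known 0)
  (.last 1 []))

theorem check38 : check 9 sols kids38 cert38 pos38.1 pos38.2.1 pos38.2.2 = true := by decide +kernel

theorem holds38 {ι : Type*} [DecidableEq ι] (n : ℕ → ι → ℤ) : Holds 9 sols n pos38 :=
  sound sols n (by
    simp only [kids38, List.forall_mem_cons, List.not_mem_nil, false_imp_iff, implies_true, and_true]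
    exact holds37 n) cert38 _ _ _ check38

def pos39 : Pos :=
  ([[0,0,0,0,0,0,0,0,0],
   [0,1,0,0,0,1,0,0,0],
   [0,0,2,0,1,0,1,-1,0],
   [0,0,0,1,0,-1,-1,0,0],
   [0,0,1,0,3,0,1,0,1],
   [0,1,0,-1,0,2,1,0,0],
   [0,0,1,-1,1,1,2,0,0],
   [0,0,-1,0,0,0,0,2,0],
   [0,0,0,0,1,0,0,0,2]],
   [[1,0,0,0,0,0,-1,0,0],
   [1,0,0,1,-1,-1,0,-1,0],
   [0,1,1,-1,0,-1,0,0,-1]],
   [[0,1,0,0,0,1,0,0,0],
   [1,0,0,0,0,0,0,0,0]])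

def kids39 : List Pos := []

def cert39 : Cert :=
  (.last 1 [])

theorem check39 : check 9 sols kids39 cert39 pos39.1 pos39.2.1 pos39.2.2 = true := by decide +kernel

theorem holds39 {ι : Type*} [DecidableEq ι] (n : ℕ → ι → ℤ) : Holds 9 sols n pos39 :=
  sound sols n (by simp [kids39]) cert39 _ _ _ check39

def pos40 : Pos :=
  ([[0,0,0,0,0,0,0,0,0],
   [0,2,1,-1,0,0,0,0,-1],
   [0,1,3,-1,1,-1,1,-1,-1],
   [0,-1,-1,2,0,0,-1,0,1],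
   [0,0,1,0,3,0,1,0,1],
   [0,0,-1,0,0,3,1,0,1],
   [0,0,1,-1,1,1,2,0,0],
   [0,0,-1,0,0,0,0,2,0],
   [0,-1,-1,1,1,1,0,0,3]],
   [[1,0,0,0,0,0,-1,0,0],
   [1,0,0,1,-1,-1,0,-1,0]],
   [[1,0,0,0,0,0,0,0,0]])

def kids40 : List Pos := [pos38,pos39]

def cert40 : Cert :=
  (.branch [0,1,0,0,0,1,0,0,0] (.known 0)
  (.branch [0,1,1,-1,0,-1,0,0,-1] (.known 1)
  (.last 1 [([0,3,-1,1,1],14),([0,4,-3,-4,1],72),([0,-2,1,2,1],24),([0,3,1,2,1],24),([0,-5,-3,-4,1],72),([0,-1,-1,1,1],14),([0,-16,6,-5,-2,5],381),([0,14,0,7,-1,6],405),([0,-16,6,-5,-1,6],405),([0,5,-3,-5,1,2],138),([0,-11,9,11,-3,2],522),([0,13,9,11,-3,2],522),([0,-7,-3,-5,1,2],138),([0,5,6,-5,-2,5],381),([0,5,6,-5,-1,6],405),([0,-7,0,7,-1,6],405),([0,21,-9,12,-1,-7,12],381),([0,-3,0,0,-1,-1,3],30),([0,-4,0,-1,1,0,2],45),([0,0,-9,12,-1,-7,12],381),([0,3,0,0,-1,-1,3],30),([0,3,0,-1,1,0,2],45),([0,2,0,1,0,0,0,1],8),([0,-12,6,-3,-2,2,0,5],200),([0,-3,3,3,-1,1,0,1],35),([0,4,-3,-7,2,0,-3,1],137),([0,3,3,3,-1,1,0,1],35),([0,-8,-3,-7,2,0,-3,1],137),([0,-1,0,1,0,0,0,1],8),([0,-20,8,-11,-6,-1,0,0,10],861),([0,11,8,-11,-6,-1,0,0,10],861)])))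

theorem check40 : check 9 sols kids40 cert40 pos40.1 pos40.2.1 pos40.2.2 = true := by decide +kernel

theorem holds40 {ι : Type*} [DecidableEq ι] (n : ℕ → ι → ℤ) : Holds 9 sols n pos40 :=
  sound sols n (by
    simp only [kids40, List.forall_mem_cons, List.not_mem_nil, false_imp_iff, implies_true, and_true]
    exact ⟨holds38 n, holds39 n⟩) cert40 _ _ _ check40

def pos41 : Pos :=
  ([[1,0,0,1,-1,-1,0,-1,0],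
   [0,2,1,-1,0,0,0,0,-1],
   [0,1,3,-1,1,-1,1,-1,-1],
   [1,-1,-1,3,-1,-1,-1,-1,1],
   [-1,0,1,-1,4,1,1,1,1],
   [-1,0,-1,-1,1,4,1,1,1],
   [0,0,1,-1,1,1,2,0,0],
   [-1,0,-1,-1,1,1,0,3,0],
   [0,-1,-1,1,1,1,0,0,3]],
   [[1,0,0,0,0,0,-1,0,0]],
   [[1,0,0,0,0,0,0,0,0]])

def kids41 : List Pos := [pos40]

def cert41 : Cert :=
  (.branch [1,0,0,1,-1,-1,0,-1,0] (.known 0)
  (.last 0 []))

theorem check41 : check 9 sols kids41 cert41 pos41.1 pos41.2.1 pos41.2.2 = true := by decide +kernel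

theorem holds41 {ι : Type*} [DecidableEq ι] (n : ℕ → ι → ℤ) : Holds 9 sols n pos41 :=
  sound sols n (by
    simp only [kids41, List.forall_mem_cons, List.not_mem_nil, false_imp_iff, implies_true, and_true]
    exact holds40 n) cert41 _ _ _ check41

def pos42 : Pos :=
  ([[1,0,0,0,0,0,-1,0,0],
   [0,2,1,-1,0,0,0,0,-1],
   [0,1,3,-1,1,-1,1,-1,-1],
   [0,-1,-1,2,0,0,-1,0,1],
   [0,0,1,0,3,0,1,0,1],
   [0,0,-1,0,0,3,1,0,1],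
   [-1,0,1,-1,1,1,3,0,0],
   [0,0,-1,0,0,0,0,2,0],
   [0,-1,-1,1,1,1,0,0,3]],
   [[1,0,0,1,-1,-1,0,-1,0]],
   [[1,0,0,0,0,0,-1,0,0],
   [1,0,0,0,0,0,0,0,0]])

def kids42 : List Pos := []

def cert42 : Cert :=
  (.last 0 [])

theorem check42 : check 9 sols kids42 cert42 pos42.1 pos42.2.1 pos42.2.2 = true := by decide +kernel

theorem holds42 {ι : Type*} [DecidableEq ι] (n : ℕ → ι → ℤ) : Holds 9 sols n pos42 :=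
  sound sols n (by simp [kids42]) cert42 _ _ _ check42

def pos43 : Pos :=
  ([[1,0,0,0,0,0,0,0,0],
   [0,2,1,-1,0,0,0,0,-1],
   [0,1,3,-1,1,-1,1,-1,-1],
   [0,-1,-1,2,0,0,0,0,1],
   [0,0,1,0,3,0,0,0,1],
   [0,0,-1,0,0,3,0,0,1],
   [0,0,1,0,0,0,2,-1,0],
   [0,0,-1,0,0,0,-1,2,0],
   [0,-1,-1,1,1,1,0,0,3]],
   [[1,0,0,1,-1,-1,-1,-1,0]],
   [[1,0,0,1,-1,-1,0,-1,0],
   [1,0,0,0,0,0,-1,0,0],
   [1,0,0,0,0,0,0,0,0]])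

def kids43 : List Pos := []

def cert43 : Cert :=
  (.last 0 [])

theorem check43 : check 9 sols kids43 cert43 pos43.1 pos43.2.1 pos43.2.2 = true := by decide +kernel

theorem holds43 {ι : Type*} [DecidableEq ι] (n : ℕ → ι → ℤ) : Holds 9 sols n pos43 :=
  sound sols n (by simp [kids43]) cert43 _ _ _ check43

def pos44 : Pos :=
  ([[2,0,0,1,-1,-1,-1,-1,0],
   [0,2,1,-1,0,0,0,0,-1],
   [0,1,3,-1,1,-1,1,-1,-1],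
   [1,-1,-1,3,-1,-1,-1,-1,1],
   [-1,0,1,-1,4,1,1,1,1],
   [-1,0,-1,-1,1,4,1,1,1],
   [-1,0,1,-1,1,1,3,0,0],
   [-1,0,-1,-1,1,1,0,3,0],
   [0,-1,-1,1,1,1,0,0,3]],
   [],
   [])

def kids44 : List Pos := [pos28,pos41,pos42,pos43]

def cert44 : Cert :=
  (.branch [1,0,0,0,0,0,0,0,0] (.known 0)
  (.branch [1,0,0,0,0,0,-1,0,0] (.known 1)
  (.branch [1,0,0,1,-1,-1,0,-1,0] (.known 2)
  (.branch [1,0,0,1,-1,-1,-1,-1,0] (.known 3)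
  (.last 0 [([-2,-2,1],15),([2,1,1],15),([2,-2,1],15),([-2,1,1],15),([3,-1,3,1],46),([-4,-1,3,1],46),([-10,5,-7,3,1],310),([8,5,-7,3,1],310),([9,-4,6,-2,0,1],216),([-6,-4,6,-2,0,1],216),([6,0,-3,-3,2,-3,1],77),([-2,1,-1,1,1,-1,1],15),([54,-5,-21,-31,-11,-25,23],7847),([-36,-5,-21,-31,-11,-25,23],7847),([2,1,-1,1,1,-1,1],15),([-3,0,-3,-3,2,-3,1],77),([-15,7,-9,5,-1,2,1],707),([12,7,-9,5,-1,2,1],707),([-48,-1,24,22,-15,1,-12,21],4383),([-42,13,-6,20,-9,-13,27,6],5319),([-144,23,45,91,-53,63,50,1],66327),([36,-8,9,-7,-15,8,9,12],2493),([24,-11,6,-16,-10,-6,-11,8],2553),([-72,33,6,72,22,26,41,16],29937),([105,33,6,72,22,26,41,16],29937),([-27,-11,6,-16,-10,-6,-11,8],2553),([-15,-8,9,-7,-15,8,9,12],2493),([114,23,45,91,-53,63,50,1],66327),([33,13,-6,20,-9,-13,27,6],5319),([21,-1,24,22,-15,1,-12,21],4383),([18,-7,9,-5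,1,-3,2,1],879),([-39,15,-15,15,-5,8,-4,7],4719),([30,15,-15,15,-5,8,-4,7],4719),([-12,-7,9,-5,1,-3,2,1],879),([4,0,0,-1,0,0,1,1,1],22),([-44,4,6,5,-8,-4,-11,-7,9],2422),([42,-13,15,-14,3,13,-24,9,3],4581),([-48,16,-15,14,-6,-16,27,-9,3],5850),([48,-7,-15,-32,17,-22,-17,-1,3],7560),([-2388,374,885,1597,-964,1079,856,209,36],18999585),([44,-6,-7,-27,-15,6,11,-18,8],5865),([-60,16,-3,11,15,-16,-15,-6,18],7245),([-33,-6,-7,-27,-15,6,11,-18,8],5865),([27,16,-3,11,15,-16,-15,-6,18],7245),([-39,-7,-15,-32,17,-22,-17,-1,3],7560),([1971,374,885,1597,-964,1079,856,209,36],18999585),([30,16,-15,14,-6,-16,27,-9,3],5850),([-27,-13,15,-14,3,13,-24,9,3],4581),([9,4,6,5,-8,-4,-11,-7,9],2422),([-1,0,0,-1,0,0,1,1,1],22)])))))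

theorem check44 : check 9 sols kids44 cert44 pos44.1 pos44.2.1 pos44.2.2 = true := by decide +kernel

theorem holds44 {ι : Type*} [DecidableEq ι] (n : ℕ → ι → ℤ) : Holds 9 sols n pos44 :=
  sound sols n (by
    simp only [kids44, List.forall_mem_cons, List.not_mem_nil, false_imp_iff, implies_true, and_true]
    exact ⟨holds28 n, holds41 n, holds42 n, holds43 n⟩) cert44 _ _ _ check44

/-- The Gram matrix, without the principal character. -/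
abbrev gramRest : Mat := pos44.1

theorem decompose {ι : Type*} [DecidableEq ι] (n : ℕ → ι → ℤ) : Holds 9 sols n (gramRest, [], []) := holds44 n

end Cfsg.Lib.Monomial
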