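import Cfsg.Agent.LocalThree.MonomialModel
import Cfsg.Agent.Chars.Construct
import Cfsg.Agent.Chars.Induced

/-!
Generalised characters of the monomial group of order `648`.
-/

set_option autoImplicit false
set_option maxRecDepth 8000

namespace Cfsg.Lib.Monomial

open Cfsg.Lib.Chars

/-! ### Twelfth roots of unity -/

/-- The square root of three. -/
noncomputable def sq3 : ℂ := ((Real.sqrt 3 : ℝ) : ℂ)

theorem sq3_sq : sq3 * sq3 = 3 := by
  rw [sq3, ← Complex.ofReal_mul, Real.mul_self_sqrt (by norm_num)]; norm_num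

theorem conj_sq3 : starRingEnd ℂ sq3 = sq3 := Complex.conj_ofReal _

/-- A primitive twelfth root of unity. -/
noncomputable def zeta : ℂ := (sq3 + Complex.I) / 2

abbrev Z4 := ℤ × ℤ × ℤ × ℤ

noncomputable def evZ (c : Z4) : ℂ :=
  (c.1 : ℂ) + (c.2.1 : ℂ) * zeta + (c.2.2.1 : ℂ) * zeta ^ 2 + (c.2.2.2 : ℂ) * zeta ^ 3

/-- Multiplication by the root. -/
def shift (c : Z4) : Z4 := (-c.2.2.2, c.1, c.2.1 + c.2.2.2, c.2.2.1)

def zvec : ℕ → Z4
  | 0 => (1, 0, 0, 0)
  | k + 1 => shift (zvec k)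

theorem zeta_four : zeta ^ 4 = zeta ^ 2 - 1 := by
  have h2 : zeta ^ 2 = (1 + sq3 * Complex.I) / 2 := by
    rw [zeta]; linear_combination (1 / 4 : ℂ) * sq3_sq + (1 / 4 : ℂ) * Complex.I_mul_I
  rw [show zeta ^ 4 = zeta ^ 2 * zeta ^ 2 by ring, h2]
  linear_combination (sq3 * sq3 / 4) * Complex.I_mul_I - (1 / 4 : ℂ) * sq3_sq

theorem evZ_shift (c : Z4) : evZ (shift c) = zeta * evZ c := by
  simp only [evZ, shift]; push_cast
  linear_combination -(c.2.2.2 : ℂ) * zeta_four

theorem zeta_pow : ∀ k : ℕ, zeta ^ k = evZ (zvec k)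
  | 0 => by simp [evZ, zvec]
  | k + 1 => by rw [pow_succ', zeta_pow k, zvec, evZ_shift]

theorem zeta_twelve : zeta ^ 12 = 1 := by
  rw [zeta_pow, show zvec 12 = (1, 0, 0, 0) by decide +kernel]; simp [evZ]

noncomputable def zetaU : ℂˣ := Units.ofPowEqOne zeta 12 zeta_twelve (by norm_num)

theorem val_zetaU_pow (k : ℕ) : ((zetaU ^ k : ℂˣ) : ℂ) = evZ (zvec k) := by
  rw [Units.val_pow_eq_pow_val, ← zeta_pow]; rfl

theorem evZ_sum {α : Type*} (s : Finset α) (f : α → Z4) : evZ (∑ x ∈ s, f x) = ∑ x ∈ s, evZ (f x) := by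
  classical
  induction s using Finset.induction_on with
  | empty => simp [evZ]
  | insert a s ha ih =>
    rw [Finset.sum_insert ha, Finset.sum_insert ha, ← ih]
    simp only [evZ, Prod.fst_add, Prod.snd_add]; push_cast; ring

/-- The value of a pair. -/
noncomputable def pr3 (p : ℤ × ℤ) : ℂ := (p.1 : ℂ) + (p.2 : ℂ) * sq3

theorem evZ_pair (n : ℤ) (p : ℤ × ℤ) : evZ (n * p.1, n * (2 * p.2), 0, n * (-p.2)) = (n : ℂ) * pr3 p := by
  have h3 : zeta ^ 3 = Complex.I := by
    rw [zeta]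
    linear_combination ((sq3 + 3 * Complex.I) / 8) * sq3_sq + ((3 * sq3 + Complex.I) / 8) * Complex.I_mul_I
  simp only [evZ, pr3, h3]; push_cast; rw [zeta]; ring

/-! ### The linear characters -/

def dotV (u w : Fin 27) : ℕ := (u % 3 * (w % 3) + u / 3 % 3 * (w / 3 % 3) + u / 9 * (w / 9) : ℕ) % 3

def linIn (j : Fin 14) (k : Mon) : Prop := look 16 linRows j k.a ≠ 15

instance (j : Fin 14) : DecidablePred (linIn j) := fun _ => inferInstanceAs (Decidable (_ ≠ _))

def linExp (j : Fin 14) (k : Mon) : ℕ := (4 * dotV (linV.getD j 0) k.v + look 16 linRows j k.a) % 12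

theorem lin_closed : ∀ (j : Fin 14) (a : Fin 24), look 16 linRows j a ≠ 15 →
    look 16 linRows j (invA a) ≠ 15 ∧ (∀ v, dotV (linV.getD j 0) (actV a v) = dotV (linV.getD j 0) v) ∧
    ∀ b : Fin 24, look 16 linRows j b ≠ 15 → look 16 linRows j (mulA a b) ≠ 15 ∧
      look 16 linRows j (mulA a b) % 12 = (look 16 linRows j a + look 16 linRows j b) % 12 := by
  decide +kernel

theorem dot_add : ∀ (j : Fin 14) (v w : Fin 27),
    dotV (linV.getD j 0) (addV v w) = (dotV (linV.getD j 0) v + dotV (linV.getD j 0) w) % 3 := by decide +kernel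

/-- The subgroup of a linear character. -/
def linSub (j : Fin 14) : Subgroup Mon where
  carrier := {k | linIn j k}
  mul_mem' := fun {x y} hx hy => ((lin_closed j x.a hx).2.2 y.a hy).1
  one_mem' := (show ∀ j, linIn j 1 by decide +kernel) j
  inv_mem' := fun {x} hx => (lin_closed j x.a hx).1

theorem mem_linSub {j : Fin 14} {k : Mon} : k ∈ linSub j ↔ linIn j k := Iff.rfl

noncomputable def linHom (j : Fin 14) : linSub j →* ℂˣ where
  toFun k := zetaU ^ linExp j k
  map_one' := by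
    rw [show linExp j ((1 : linSub j) : Mon) = 0 from (show ∀ j, linExp j 1 = 0 by decide +kernel) j, pow_zero]
  map_mul' x y := by
    have h12 : zetaU ^ 12 = 1 := Units.ext (by rw [Units.val_pow_eq_pow_val]; exact zeta_twelve)
    rw [← pow_add, pow_eq_pow_mod (linExp j ((x * y : linSub j) : Mon)) h12,
      pow_eq_pow_mod (linExp j (x : Mon) + linExp j (y : Mon)) h12]
    congr 1
    have h1 := (lin_closed j x.1.a x.2).2.1 y.1.v
    have h2 := dot_add j x.1.v (actV x.1.a y.1.v)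
    have h3 := ((lin_closed j x.1.a x.2).2.2 y.1.a y.2).2
    simp only [linExp, Subgroup.coe_mul, mul_def]
    rw [h2, h1]
    omega

theorem card_lin : ∀ j : Fin 14, (Finset.univ.filter fun k : Mon => linIn j k).card = 27 * linN.getD j 0 := by
  decide +kernel

def splitW (k : Mon) : Mon := ⟨actV (invA k.a) k.v, oneA⟩

theorem splitW_spec : ∀ k : Mon, ⟨0, k.a⟩ * splitW k = k := by decide +kernel

theorem splitW_mem : ∀ (j : Fin 14) (k : Mon), linIn j (splitW k) := by decide +kernel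

def term (j c : Fin 14) (a : Fin 24) : Z4 :=
  let y : Mon := (⟨0, a⟩ : Mon)⁻¹ * rep c * ⟨0, a⟩
  if linIn j y then zvec (linExp j y) else 0

def indP (j c : Fin 14) : ℤ × ℤ := (indTab.getD j []).getD c (0, 0)

theorem term_sum : ∀ j c : Fin 14, ∑ a, term j c a =
    ((linN.getD j 0 : ℤ) * (indP j c).1, (linN.getD j 0 : ℤ) * (2 * (indP j c).2), 0,
      (linN.getD j 0 : ℤ) * (-(indP j c).2)) := by decide +kernel

theorem linN_ne : ∀ j : Fin 14, linN.getD j 0 ≠ 0 := by decide +kernel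

/-- The induced characters have the tabled values. -/
theorem gen_ind (j : Fin 14) : Cfsg.IsGeneralizedCharacter Mon (fun k => pr3 (indP j (cls k))) := by
  classical
  have h := IsGeneralizedCharacter.indFun (IsCharacter.isGeneralized (isCharacter_linear (linHom j)))
  refine (congrArg (Cfsg.IsGeneralizedCharacter Mon) (funext fun k => ?_)).mp h
  have hk := isConj_iff.1 (isConj_rep k)
  obtain ⟨c₀, hc₀⟩ := hk
  have hcl := isClassFunction_indFun (linSub j) (fun s => ((linHom j s : ℂˣ) : ℂ))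
  conv_lhs => rw [← hc₀]
  rw [show Cfsg.indFun (linSub j) (fun s => ((linHom j s : ℂˣ) : ℂ)) (c₀ * rep (cls k) * c₀⁻¹) =
    Cfsg.indFun (linSub j) (fun s => ((linHom j s : ℂˣ) : ℂ)) (rep (cls k)) from hcl _ _]
  generalize cls k = c
  rw [indFun_apply]
  obtain ⟨F, hF⟩ : ∃ F : Mon → ℂ, ∀ g, Cfsg.extendByZero (linSub j) (fun s => ((linHom j s : ℂˣ) : ℂ))
      (g⁻¹ * rep c * g) = F g := ⟨_, fun _ => rfl⟩
  have hstep : ∀ g, F g = evZ (term j c g.a) := by
    intro g
    have hs := splitW_mem j g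
    obtain ⟨y, hy⟩ : ∃ y : Mon, y = (⟨0, g.a⟩ : Mon)⁻¹ * rep c * ⟨0, g.a⟩ := ⟨_, rfl⟩
    have e : g⁻¹ * rep c * g = (splitW g)⁻¹ * y * splitW g := by
      conv_lhs => rw [← splitW_spec g]
      rw [hy]; group
    rw [← hF, e]
    by_cases hm : y ∈ linSub j
    · rw [extendByZero_mem _ (mul_mem (mul_mem (inv_mem (show splitW g ∈ linSub j from hs)) hm) hs)]
      rw [show (⟨(splitW g)⁻¹ * y * splitW g, _⟩ : linSub j) =
        (⟨splitW g, hs⟩ : linSub j)⁻¹ * ⟨y, hm⟩ * ⟨splitW g, hs⟩ from Subtype.ext rfl, map_mul, map_mul, map_inv,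
        inv_mul_cancel_comm]
      show ((zetaU ^ linExp j y : ℂˣ) : ℂ) = _
      rw [val_zetaU_pow, term, ← hy, if_pos (mem_linSub.1 hm)]
    · rw [extendByZero_not_mem _ fun hh => hm (by
        have := mul_mem (mul_mem (show splitW g ∈ linSub j from hs) hh) (inv_mem (show splitW g ∈ linSub j from hs))
        convert this using 1; group)]
      rw [term, ← hy, if_neg (mem_linSub.not.1 hm)]
      simp [evZ]
  rw [Finset.sum_congr rfl fun g _ => (hF g).trans (hstep g)]
  have e2 : ∑ g : Mon, evZ (term j c g.a) = 27 * ∑ a, evZ (term j c a) := by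
    rw [show ∑ g : Mon, evZ (term j c g.a) = ∑ p : Fin 27 × Fin 24, evZ (term j c p.2) from
      Fintype.sum_equiv monEquiv _ _ fun _ => rfl, Fintype.sum_prod_type]
    simp
  rw [e2, ← evZ_sum, term_sum, evZ_pair,
    show Nat.card (linSub j) = 27 * linN.getD j 0 by
      rw [← card_lin, ← Nat.card_eq_finsetCard]
      exact Nat.card_congr (Equiv.subtypeEquivRight fun k => by simp [mem_linSub])]
  have := linN_ne j
  push_cast
  field_simp

/-! ### The special functions -/

def specP (i : Fin 9) (c : Fin 14) : ℤ × ℤ := (specTab.getD i []).getD c (0, 0)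

theorem spec_comb : ∀ i c, specP i c =
    (∑ j : Fin 14, (combTab.getD i []).getD j 0 * (indP j c).1, ∑ j : Fin 14, (combTab.getD i []).getD j 0 * (indP j c).2) := by
  decide +kernel

theorem gen_spec (i : Fin 9) : Cfsg.IsGeneralizedCharacter Mon (fun k => pr3 (specP i (cls k))) := by
  have h := IsGeneralizedCharacter.sum Finset.univ
    (fun j => (combTab.getD i []).getD (j : Fin 14) 0 • fun k => pr3 (indP j (cls k)))
    fun j _ => IsGeneralizedCharacter.zsmul (gen_ind j) _
  refine (congrArg (Cfsg.IsGeneralizedCharacter Mon) (funext fun k => ?_)).mp h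
  rw [spec_comb, Finset.sum_apply]
  simp only [pr3, Pi.smul_apply, zsmul_eq_mul, Int.cast_sum, Int.cast_mul, Finset.sum_mul, ← Finset.sum_add_distrib]
  exact Finset.sum_congr rfl fun j _ => by simp [mul_add, mul_assoc]

end Cfsg.Lib.Monomial
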