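import Cfsg.Agent.LocalThree.MonomialTables

/-!
The monomial group of order `648` built from its tables, and its action on nine points.
-/

set_option autoImplicit false
set_option maxRecDepth 8000

namespace Cfsg.Lib.Monomial

/-- An element: a translation and a monomial part. -/
@[ext] structure Mon where
  v : Fin 27
  a : Fin 24
deriving DecidableEq

def monEquiv : Mon ≃ Fin 27 × Fin 24 where
  toFun k := (k.v, k.a)
  invFun p := ⟨p.1, p.2⟩
  left_inv _ := rfl
  right_inv _ := rfl

instance : Fintype Mon := Fintype.ofEquiv _ monEquiv.symm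

def addV (v w : Fin 27) : Fin 27 := Fin.ofNat 27 (look 32 addRows v w)

def mulA (a b : Fin 24) : Fin 24 := Fin.ofNat 24 (look 32 mulRows a b)

def actV (a : Fin 24) (v : Fin 27) : Fin 27 := Fin.ofNat 27 (look 32 actRows a v)

def invA (a : Fin 24) : Fin 24 := Fin.ofNat 24 (look 32 invRow 0 a)

def negV (v : Fin 27) : Fin 27 := Fin.ofNat 27 (look 32 negRow 0 v)

theorem addV_assoc : ∀ u v w, addV (addV u v) w = addV u (addV v w) := by decide +kernel

theorem addV_zero : ∀ v, addV 0 v = v ∧ addV v 0 = v ∧ addV (negV v) v = 0 := by decide +kernel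

theorem mulA_assoc : ∀ a b c, mulA (mulA a b) c = mulA a (mulA b c) := by decide +kernel

theorem mulA_one : ∀ a, mulA oneA a = a ∧ mulA a oneA = a ∧ mulA (invA a) a = oneA := by decide +kernel

theorem actV_add : ∀ a v w, actV a (addV v w) = addV (actV a v) (actV a w) := by decide +kernel

theorem actV_mul : ∀ a b v, actV (mulA a b) v = actV a (actV b v) := by decide +kernel

theorem actV_one : ∀ v, actV oneA v = v := by decide +kernel

theorem actV_zero : ∀ a, actV a 0 = 0 := by decide +kernel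

instance : Mul Mon := ⟨fun x y => ⟨addV x.v (actV x.a y.v), mulA x.a y.a⟩⟩

instance : One Mon := ⟨⟨0, oneA⟩⟩

instance : Inv Mon := ⟨fun x => ⟨actV (invA x.a) (negV x.v), invA x.a⟩⟩

theorem mul_def (x y : Mon) : x * y = ⟨addV x.v (actV x.a y.v), mulA x.a y.a⟩ := rfl

theorem one_def : (1 : Mon) = ⟨0, oneA⟩ := rfl

instance : Group Mon :=
  Group.ofLeftAxioms
    (fun x y z => by
      simp only [mul_def]
      rw [actV_add, addV_assoc, actV_mul, mulA_assoc])
    (fun x => by
      simp only [mul_def, one_def, actV_one, (addV_zero _).1, (mulA_one _).1])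
    (fun x => by
      show (⟨actV (invA x.a) (negV x.v), invA x.a⟩ : Mon) * x = 1
      rw [mul_def, ← actV_add, (addV_zero _).2.2, actV_zero, (mulA_one _).2.2, one_def])

/-- The part of an element in the elementary abelian subgroup is all of it. -/
def InV (k : Mon) : Prop := k.a = oneA

instance : DecidablePred InV := fun _ => inferInstanceAs (Decidable (_ = _))

def cls (k : Mon) : Fin 14 := Fin.ofNat 14 (look 16 clsRows k.a k.v)

def rep (c : Fin 14) : Mon := monEquiv.symm (repTab.getD c (0, 0))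

def conjW (k : Mon) : Mon :=
  ⟨Fin.ofNat 27 (look 1024 conjRows k.a k.v % 27), Fin.ofNat 24 (look 1024 conjRows k.a k.v / 27)⟩

theorem conjW_spec : ∀ k : Mon, conjW k * rep (cls k) * (conjW k)⁻¹ = k := by decide +kernel

theorem cls_rep : ∀ c, cls (rep c) = c := by decide +kernel

theorem cls_card : ∀ c, (Finset.univ.filter fun k : Mon => cls k = c).card = sizeTab.getD c 0 := by decide +kernel

theorem cls_conj_gen : ∀ (k : Mon) (i : Fin 4), cls (monEquiv.symm (genTab.getD i (0, 0)) * k *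
    (monEquiv.symm (genTab.getD i (0, 0)))⁻¹) = cls k := by decide +kernel

/-- The action on nine points. -/
def pointMap (k : Mon) (i : Fin 9) : Fin 9 :=
  Fin.ofNat 9 (look 16 transRows k.v (Fin.ofNat 9 (look 16 permRows k.a i) : Fin 9))

theorem point_trans : ∀ v w : Fin 27, ∀ i, pointMap ⟨addV v w, oneA⟩ i = pointMap ⟨v, oneA⟩ (pointMap ⟨w, oneA⟩ i) := by
  decide +kernel

theorem point_perm : ∀ a b : Fin 24, ∀ i, pointMap ⟨0, mulA a b⟩ i = pointMap ⟨0, a⟩ (pointMap ⟨0, b⟩ i) := by
  decide +kernel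

theorem point_swap : ∀ (a : Fin 24) (v : Fin 27), ∀ i,
    pointMap ⟨actV a v, oneA⟩ (pointMap ⟨0, a⟩ i) = pointMap ⟨0, a⟩ (pointMap ⟨v, oneA⟩ i) := by decide +kernel

theorem point_split : ∀ (k : Mon) i, pointMap k i = pointMap ⟨k.v, oneA⟩ (pointMap ⟨0, k.a⟩ i) := by decide +kernel

theorem point_one : ∀ i, pointMap 1 i = i := by decide +kernel

instance : MulAction Mon (Fin 9) where
  smul := pointMap
  one_smul := point_one
  mul_smul x y i := by
    show pointMap (x * y) i = pointMap x (pointMap y i)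
    rw [point_split (x * y), point_split x, point_split y, mul_def]
    simp only
    rw [point_trans, point_perm, point_swap]

/-- The permutations. -/
def toNine : Mon →* Equiv.Perm (Fin 9) := MulAction.toPermHom Mon (Fin 9)

theorem toNine_apply (k : Mon) (i : Fin 9) : toNine k i = pointMap k i := rfl

theorem toNine_injective : Function.Injective toNine := by
  rw [injective_iff_map_eq_one]
  intro k hk
  refine (show ∀ k : Mon, (∀ i, pointMap k i = i) → k = 1 by decide +kernel) k fun i => ?_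
  rw [← toNine_apply, hk]; rfl

def gen (i : Fin 4) : Mon := monEquiv.symm (genTab.getD i (0, 0))

/-- The product of a word in the generators. -/
def word (l : List ℕ) : Mon := (l.map fun i => gen (Fin.ofNat 4 i)).prod

theorem word_spec : (∀ a : Fin 24, word (wordM.getD a []) = ⟨0, a⟩) ∧
    ∀ k : Mon, ∃ i j l : Fin 3, k = word (wordV.getD 0 []) ^ (i : ℕ) * word (wordV.getD 1 []) ^ (j : ℕ) *
      word (wordV.getD 2 []) ^ (l : ℕ) * word (wordM.getD k.a []) := by decide +kernel

theorem top_eq_closure : Subgroup.closure (Set.range gen) = ⊤ := by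
  refine eq_top_iff.2 fun k _ => ?_
  have hw : ∀ l, word l ∈ Subgroup.closure (Set.range gen) := fun l =>
    Subgroup.list_prod_mem _ fun x hx => by
      obtain ⟨i, _, rfl⟩ := List.mem_map.1 hx
      exact Subgroup.subset_closure ⟨_, rfl⟩
  obtain ⟨i, j, l, e⟩ := word_spec.2 k
  rw [e]
  exact mul_mem (mul_mem (mul_mem (pow_mem (hw _) _) (pow_mem (hw _) _)) (pow_mem (hw _) _)) (hw _)

/-- The class map is invariant. -/
theorem cls_conj (c k : Mon) : cls (c * k * c⁻¹) = cls k := by
  have hc : c ∈ Subgroup.closure (Set.range gen) := top_eq_closure ▸ trivial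
  induction hc using Subgroup.closure_induction generalizing k with
  | mem x hx => obtain ⟨i, rfl⟩ := hx; exact cls_conj_gen k i
  | one => simp
  | mul x y _ _ hx hy => rw [show x * y * k * (x * y)⁻¹ = x * (y * k * y⁻¹) * x⁻¹ by group, hx, hy]
  | inv x _ hx => conv_rhs => rw [show k = x * (x⁻¹ * k * x⁻¹⁻¹) * x⁻¹ by group, hx]

theorem isConj_rep (k : Mon) : IsConj (rep (cls k)) k := isConj_iff.2 ⟨conjW k, conjW_spec k⟩

theorem image_eq :
    Subgroup.closure ({Equiv.swap (0 : Fin 9) 1 * Equiv.swap 1 2,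
        Equiv.swap (0 : Fin 9) 3 * Equiv.swap 3 6 * (Equiv.swap (1 : Fin 9) 4 * Equiv.swap 4 7) * (Equiv.swap (2 : Fin 9) 5 * Equiv.swap 5 8),
        Equiv.swap (0 : Fin 9) 1 * Equiv.swap 3 4, Equiv.swap (0 : Fin 9) 3 * Equiv.swap 1 4 * Equiv.swap 2 5 * Equiv.swap 6 7} : Set (Equiv.Perm (Fin 9))) =
      toNine.range := by
  have h : ∀ i : Fin 4, toNine (gen i) = ![Equiv.swap (0 : Fin 9) 1 * Equiv.swap 1 2,
      Equiv.swap (0 : Fin 9) 3 * Equiv.swap 3 6 * (Equiv.swap (1 : Fin 9) 4 * Equiv.swap 4 7) * (Equiv.swap (2 : Fin 9) 5 * Equiv.swap 5 8),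
      Equiv.swap (0 : Fin 9) 1 * Equiv.swap 3 4,
      Equiv.swap (0 : Fin 9) 3 * Equiv.swap 1 4 * Equiv.swap 2 5 * Equiv.swap 6 7] i := by
    intro i
    refine Equiv.ext fun j => ?_
    rw [toNine_apply]
    exact (show ∀ (i : Fin 4) (j : Fin 9), pointMap (gen i) j = ((![Equiv.swap (0 : Fin 9) 1 * Equiv.swap 1 2,
      Equiv.swap (0 : Fin 9) 3 * Equiv.swap 3 6 * (Equiv.swap (1 : Fin 9) 4 * Equiv.swap 4 7) * (Equiv.swap (2 : Fin 9) 5 * Equiv.swap 5 8),
      Equiv.swap (0 : Fin 9) 1 * Equiv.swap 3 4,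
      Equiv.swap (0 : Fin 9) 3 * Equiv.swap 1 4 * Equiv.swap 2 5 * Equiv.swap 6 7] : Fin 4 → Equiv.Perm (Fin 9)) i) j by decide +kernel) i j
  rw [MonoidHom.range_eq_map, ← top_eq_closure, MonoidHom.map_closure, ← Set.range_comp]
  refine congrArg _ (Set.ext fun x => ⟨?_, ?_⟩)
  · rintro (rfl | rfl | rfl | rfl)
    exacts [⟨0, h 0⟩, ⟨1, h 1⟩, ⟨2, h 2⟩, ⟨3, h 3⟩]
  · rintro ⟨i, rfl⟩
    rw [Function.comp_apply, h i]
    fin_cases i <;> simp

end Cfsg.Lib.Monomial
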