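import Cfsg.Agent.LocalThree.NineTI
import Cfsg.Agent.Components.Recognition.OrderThreeSixty

/-!
A simple group with a self-centralising Sylow subgroup of order nine and more than one class of
elements of order three has order `360`.
-/

set_option autoImplicit false
set_option linter.unusedSectionVars false
set_option maxRecDepth 8000

namespace Cfsg.Lib.NineTI

open Subgroup Cfsg.Lib.Chars Cfsg.Lib.GramSplit
open scoped ComplexConjugate Pointwise

universe u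

/-- The members with their rows. -/
theorem exists_rows {ι : Type*} [Fintype ι] [DecidableEq ι] {q : ℕ} (n : Fin q → ι → ℤ) (d : ι → ℤ) (o : ι)
    (R : Mat) (sol : List Row) (c : Cert) (hc : check q [sol] [] c R [] [] = true) (hd : ∀ x, d x ≠ 0)
    (hR : ∀ i j : Fin q, ∑ x, n i x * n j x = get R i j + n i o * n j o) :
    ∃ D : List (Row × ℤ × ι), D.map Prod.fst = sol ∧
      (∀ p ∈ D, p.2.2 ≠ o ∧ ∃ σ : ℤ, σ * σ = 1 ∧ p.2.1 = σ * d p.2.2 ∧ ∀ i : Fin q, n i p.2.2 = σ * ent p.1 i) ∧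
      (∀ i, n i o * d o + (D.map fun p => ent p.1 i * p.2.1).sum = ∑ x, n i x * d x) ∧
      ∀ f : ι → ℂ, (∀ x, (∀ i, n i x = 0) → f x = 0) → ∑ x, f x = f o + (D.map fun p => f p.2.2).sum := by
  let n' : ℕ → ι → ℤ := fun i x => if h : i < q then n ⟨i, h⟩ x else 0
  obtain ⟨L, hnd, hLs, hrest, l, hl, hp⟩ := sound [sol] n' (by simp) c R [] [] hc (Finset.univ.erase o)
    (fun i hi j hj => by
      have e := hR ⟨i, hi⟩ ⟨j, hj⟩
      rw [← Finset.add_sum_erase _ _ (Finset.mem_univ o)] at e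
      simp only [n', hi, hj, dite_true]
      linarith only [e])
    (fun x _ => List.not_mem_nil)
  rw [List.mem_singleton] at hl
  subst hl
  obtain ⟨L', hL', hmap⟩ := exists_perm_map (fun x => nrm (col q n' x)) (by simpa using hp)
  obtain ⟨sg, hsg⟩ : ∃ sg : ι → ℤ, ∀ x, sg x * sg x = 1 ∧ ∀ i : Fin q, n i x = sg x * ent (nrm (col q n' x)) i := by
    refine ⟨fun x => if nrm (col q n' x) = col q n' x then 1 else -1,
      fun x => ⟨by dsimp only; split_ifs <;> rfl, fun i => ?_⟩⟩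
    have hc' : ent (col q n' x) i = n i x := by rw [ent_col i.2]; simp [n', i.2]
    simp only
    split_ifs with he
    · rw [he, hc', one_mul]
    · rw [(nrm_sign _).resolve_left he]
      have e : ent ((col q n' x).map Neg.neg) i = -ent (col q n' x) i := by
        simp [ent, col, List.getD_eq_getElem?_getD, i.2]
      rw [e, hc']; ring
  have hnd' : L'.Nodup := hL'.nodup_iff.2 hnd
  have hmem : ∀ x, x ∈ L' ↔ x ∈ L := fun x => hL'.mem_iff
  have hoL : o ∉ L' := fun hm => (Finset.mem_erase.1 (hLs o ((hmem o).1 hm))).1 rfl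
  have hzero : ∀ x, x ≠ o → x ∉ L' → ∀ i : Fin q, n i x = 0 := fun x hx hxL i => by
    have := hrest x (Finset.mem_erase.2 ⟨hx, Finset.mem_univ _⟩) (fun hm => hxL ((hmem x).2 hm)) i i.2
    simpa [n', i.2] using this
  have split : ∀ {M : Type} [AddCommMonoid M] (f : ι → M), (∀ x, (∀ i, n i x = 0) → f x = 0) →
      ∑ x, f x = f o + (L'.map f).sum := by
    intro M _ f hf
    rw [← List.sum_toFinset _ hnd', ← Finset.sum_subset (Finset.subset_univ (insert o L'.toFinset)) fun x _ hx => ?_]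
    · rw [Finset.sum_insert (by simpa using hoL)]
    · simp only [Finset.mem_insert, List.mem_toFinset, not_or] at hx
      exact hf x (hzero x hx.1 hx.2)
  refine ⟨L'.map fun x => (nrm (col q n' x), sg x * d x, x), ?_, ?_, fun i => ?_, fun f hf => ?_⟩
  · rw [List.map_map]; exact hmap
  · intro p hp
    obtain ⟨x, hx, rfl⟩ := List.mem_map.1 hp
    exact ⟨fun e => hoL (e ▸ hx), sg x, (hsg x).1, rfl, (hsg x).2⟩
  · rw [split (fun x => n i x * d x) (fun x hx => by simp [hx i]), List.map_map]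
    congr 2
    refine List.map_congr_left fun x _ => ?_
    rw [Function.comp_apply, (hsg x).2 i]
    ring
  · rw [split f hf, List.map_map]; rfl

variable {G : Type u} [Group G] [Finite G] {m : ℕ}

namespace Setup

variable {S : Subgroup G} {M : Fin m → V → V} (P : Setup S M)

include P

theorem conj_iff {u v : V} (hu : u ≠ 0) : IsConj (P.el u) (P.el v) ↔ ∃ k, M k u = v := by
  constructor
  · intro h
    obtain ⟨g, hg⟩ := isConj_iff.1 h
    have hg' : g⁻¹⁻¹ * P.el u * g⁻¹ ∈ S := by rw [inv_inv, hg]; exact P.mem v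
    obtain ⟨k, hk⟩ := (P.cover g⁻¹).1 (P.norm_of hu hg')
    refine ⟨k, P.inj ?_⟩
    have e : P.el v = ((P.r k)⁻¹ * g⁻¹)⁻¹ * P.el (M k u) * ((P.r k)⁻¹ * g⁻¹) := by
      rw [← P.act, ← hg]; group
    rw [e, mul_assoc, P.comm (P.mem _) hk, inv_mul_cancel_left]
  · rintro ⟨k, rfl⟩
    exact isConj_iff.2 ⟨(P.r k)⁻¹, by rw [inv_inv]; exact P.act k u⟩

theorem el_cube (v : V) : P.el v * (P.el v * P.el v) = 1 := by
  rw [← P.add, ← P.add, show v + (v + v) = 0 from (show ∀ v : V, v + (v + v) = 0 by decide) v, P.el_zero]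

theorem el_neg (v : V) : P.el (-v) = (P.el v)⁻¹ :=
  eq_inv_of_mul_eq_one_left (by rw [← P.add, neg_add_cancel, P.el_zero])

set_option maxHeartbeats 800000 in
/-- Products of two conjugates lie in `S`. -/
theorem triangle (hsyl : ∀ Q : Subgroup G, IsPGroup 3 Q → ∃ g : G, ∀ x ∈ Q, g * x * g⁻¹ ∈ S)
    {x y : G} (hx : x * (x * x) = 1) (hy : y * (y * y) = 1) {c : G} (hc : c ∈ S) (hc1 : c ≠ 1)
    (hxy : x * y = c) (hne' : ¬ IsConj x c⁻¹) : x ∈ S ∧ y ∈ S := by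
  have : Fact (Nat.Prime 3) := ⟨Nat.prime_three⟩
  have hcc : c * (c * c) = 1 := by
    obtain ⟨v, rfl⟩ := P.surj c hc
    exact P.el_cube v
  have x2 : x⁻¹ = x * x := inv_eq_of_mul_eq_one_right hx
  obtain ⟨u, hu⟩ : ∃ u, u = x * y⁻¹ := ⟨_, rfl⟩
  obtain ⟨v, hv⟩ : ∃ v, v = y⁻¹ * x := ⟨_, rfl⟩
  have hxv : x⁻¹ * u * x = v := by rw [hu, hv]; group
  have h3 : x * y * (x * y * (x * y)) = 1 := by rw [hxy]; exact hcc
  have huv : u * v = v * u := by
    rw [hu, hv]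
    calc x * y⁻¹ * (y⁻¹ * x) = x * (y * (y * y))⁻¹ * y * x := by group
      _ = x * y * x := by rw [hy, inv_one, mul_one]
      _ = (y * x * y)⁻¹ := eq_inv_of_mul_eq_one_left (by rw [← h3]; group)
      _ = y⁻¹ * x⁻¹ * y⁻¹ := by group
      _ = y⁻¹ * x * (x * y⁻¹) := by rw [x2]; group
  have hxv' : x⁻¹ * v * x = (u * v)⁻¹ := by
    rw [hu, hv]
    calc x⁻¹ * (y⁻¹ * x) * x = x⁻¹ * y⁻¹ * (x * x) := by group
      _ = x⁻¹ * y⁻¹ * x⁻¹ := by rw [← x2]
      _ = (x * y * x)⁻¹ := by group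
      _ = (x * (y * (y * y))⁻¹ * y * x)⁻¹ := by rw [hy, inv_one, mul_one]
      _ = (x * y⁻¹ * (y⁻¹ * x))⁻¹ := by group
  obtain ⟨A, hA⟩ : ∃ A : Subgroup G, A = closure {u, v} := ⟨_, rfl⟩
  have huA : u ∈ A := hA ▸ subset_closure (Set.mem_insert _ _)
  have hvA : v ∈ A := hA ▸ subset_closure (Set.mem_insert_of_mem _ rfl)
  have hab : ∀ a ∈ A, ∀ b ∈ A, a * b = b * a := by
    have := Subgroup.isMulCommutative_closure (k := ({u, v} : Set G)) (by
      intro a ha b hb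
      rcases ha with rfl | rfl <;> rcases hb with rfl | rfl
      exacts [rfl, huv, huv.symm, rfl])
    intro a ha b hb
    rw [hA] at ha hb
    exact congrArg Subtype.val (this.is_comm.comm ⟨a, ha⟩ ⟨b, hb⟩)
  have hxA : ∀ a ∈ A, x⁻¹ * a * x ∈ A := by
    intro a ha
    have hle : A ≤ A.comap (MulAut.conj x⁻¹).toMonoidHom := by
      conv_lhs => rw [hA]
      refine (Subgroup.closure_le _).2 ?_
      rintro b (rfl | rfl)
      · show x⁻¹ * b * x⁻¹⁻¹ ∈ A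
        rw [inv_inv, hxv]; exact hvA
      · show x⁻¹ * b * x⁻¹⁻¹ ∈ A
        rw [inv_inv, hxv']; exact inv_mem (mul_mem huA hvA)
    simpa using hle ha
  have hxA' : ∀ a ∈ A, x * a * x⁻¹ ∈ A := fun a ha => by
    have := hxA _ (hxA a ha)
    convert this using 1
    calc x * a * x⁻¹ = (x * (x * x)) * (x⁻¹ * (x⁻¹ * a * x) * x) * (x * (x * x))⁻¹ := by group
      _ = x⁻¹ * (x⁻¹ * a * x) * x := by rw [hx]; group
  have hxn : zpowers x ≤ normalizer (A : Set G) := zpowers_le.2 (mem_normalizer_iff.2 fun a =>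
    ⟨fun ha => hxA' a ha, fun ha => by simpa [mul_assoc] using hxA _ ha⟩)
  obtain ⟨K, hK⟩ : ∃ K : Subgroup G, K = A ⊔ zpowers x := ⟨_, rfl⟩
  have hxK : x ∈ K := hK ▸ Subgroup.mem_sup_right (mem_zpowers x)
  have hyA : y = u⁻¹ * x := by rw [hu]; group
  have hcK : c ∈ K := by
    rw [← hxy]
    exact mul_mem hxK (by rw [hyA]; exact mul_mem (inv_mem (hK ▸ Subgroup.mem_sup_left huA)) hxK)
  have pg : ∀ w : K, (w : G) * (w * w) = 1 → IsPGroup 3 (zpowers w) := by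
    intro w hw q
    refine ⟨1, Subtype.ext ?_⟩
    obtain ⟨i, hi⟩ := q.2
    show (q : K) ^ (3 ^ 1) = 1
    rw [← hi, pow_one, ← zpow_natCast, ← zpow_mul, mul_comm, zpow_mul, zpow_natCast,
      show w ^ 3 = 1 from Subtype.ext (by push_cast; rw [pow_succ', pow_two, hw]), one_zpow]
  obtain ⟨P₁, hP₁⟩ := (pg ⟨x, hxK⟩ hx).exists_le_sylow
  obtain ⟨P₂, hP₂⟩ := (pg ⟨c, hcK⟩ hcc).exists_le_sylow
  obtain ⟨k, hk⟩ := MulAction.exists_smul_eq K P₁ P₂
  obtain ⟨g, hg⟩ := hsyl _ (P₂.2.map K.subtype)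
  have hxk : (k : G) * x * (k : G)⁻¹ ∈ (P₂ : Subgroup K).map K.subtype := ⟨k * ⟨x, hxK⟩ * k⁻¹, by
    rw [← hk, Sylow.coe_subgroup_smul]; exact ⟨_, hP₁ (mem_zpowers _), rfl⟩, rfl⟩
  have hxkS : (k : G) * x * (k : G)⁻¹ ∈ S := by
    refine (SetLike.ext_iff.1 (P.cent c hc hc1) _).1 (mem_centralizer_singleton_iff.2 ?_)
    have h := P.comm (hg _ hxk) (hg _ ⟨⟨c, hcK⟩, hP₂ (mem_zpowers _), rfl⟩)
    simp only [Subgroup.coe_subtype] at h
    calc (k : G) * x * (k : G)⁻¹ * c = g⁻¹ * (g * ((k : G) * x * (k : G)⁻¹) * g⁻¹ * (g * c * g⁻¹)) * g := by group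
      _ = g⁻¹ * (g * c * g⁻¹ * (g * ((k : G) * x * (k : G)⁻¹) * g⁻¹)) * g := by rw [h]
      _ = _ := by group
  have hkK : (k : G) ∈ (A : Set G) * (zpowers x : Set G) := by
    rw [← Subgroup.coe_mul_of_right_le_normalizer_left A _ hxn, ← hK]; exact k.2
  obtain ⟨a, ha, z, hz, hkz⟩ := hkK
  obtain ⟨i, rfl⟩ := hz
  have hconj : (k : G) * x * (k : G)⁻¹ = a * x * a⁻¹ := by rw [← hkz]; group
  rw [hconj] at hxkS
  obtain ⟨p, hp⟩ : ∃ p, p = c * (a * x * a⁻¹) := ⟨_, rfl⟩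
  have hpS : p ∈ S := hp ▸ mul_mem hc hxkS
  have hpA : p ∈ A := by
    rw [hp, ← hxy, hyA,
      show x * (u⁻¹ * x) * (a * x * a⁻¹) = (x * u⁻¹ * x⁻¹) * ((x * x) * a * (x * x)⁻¹) * (x * (x * x)) * a⁻¹ by group,
      hx, mul_one]
    refine mul_mem (mul_mem (hxA' _ (inv_mem huA)) ?_) (inv_mem ha)
    rw [show x * x * a * (x * x)⁻¹ = x * (x * a * x⁻¹) * x⁻¹ by group]
    exact hxA' _ (hxA' _ ha)
  have hp1 : p ≠ 1 := fun e => hne' (isConj_iff.2 ⟨a, by
    rw [hp] at e; exact eq_inv_of_mul_eq_one_right e⟩)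
  have hpx : x * p = p * x := by
    have h1 := P.comm hxkS hpS
    have h2 := hab _ ha _ hpA
    calc x * p = a⁻¹ * (a * x * a⁻¹) * (a * p) := by group
      _ = a⁻¹ * ((a * x * a⁻¹) * p) * a := by rw [h2]; group
      _ = a⁻¹ * (p * (a * x * a⁻¹)) * a := by rw [h1]
      _ = a⁻¹ * (p * a) * x := by group
      _ = p * x := by rw [← h2]; group
  have hxS : x ∈ S := by
    rw [← P.cent p hpS hp1]
    exact mem_centralizer_singleton_iff.2 hpx
  refine ⟨hxS, ?_⟩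
  rw [show y = x⁻¹ * c by rw [← hxy]; group]
  exact mul_mem (inv_mem hxS) hc

theorem pairs (hsyl : ∀ Q : Subgroup G, IsPGroup 3 Q → ∃ g : G, ∀ x ∈ Q, g * x * g⁻¹ ∈ S)
    {a b c : V} (ha : a ≠ 0) (hb : b ≠ 0) (hc : c ≠ 0) (hac : ∀ k, M k a ≠ -c) :
    Nat.card {p : G × G // IsConj (P.el a) p.1 ∧ IsConj (P.el b) p.2 ∧ p.1 * p.2 = P.el c} =
      (Finset.univ.filter fun v : V => (∃ k, M k a = v) ∧ ∃ k, M k b = c - v).card := by
  rw [← Nat.card_eq_finsetCard]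
  have hcube : ∀ d {w : G}, IsConj (P.el d) w → w * (w * w) = 1 := by
    intro d w hw
    obtain ⟨g, rfl⟩ := isConj_iff.1 hw
    calc _ = g * (P.el d * (P.el d * P.el d)) * g⁻¹ := by group
      _ = 1 := by rw [P.el_cube]; group
  refine (Nat.card_congr (Equiv.ofBijective
    (fun v => (⟨(P.el v.1, P.el (c - v.1)), ?_⟩ :
      {p : G × G // IsConj (P.el a) p.1 ∧ IsConj (P.el b) p.2 ∧ p.1 * p.2 = P.el c})) ⟨?_, ?_⟩)).symm
  · obtain ⟨h1, h2⟩ := (Finset.mem_filter.1 v.2).2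
    exact ⟨(P.conj_iff ha).2 h1, (P.conj_iff hb).2 h2, by rw [← P.add, add_sub_cancel]⟩
  · intro v w h
    exact Subtype.ext (P.inj (congrArg (fun z => z.1.1) h))
  · rintro ⟨⟨x, y⟩, h1, h2, h3⟩
    obtain ⟨hxS, hyS⟩ := P.triangle hsyl (hcube a h1) (hcube b h2) (P.mem c) (P.el_ne hc) h3 (fun h => by
      obtain ⟨k, hk⟩ := (P.conj_iff ha).1 (show IsConj (P.el a) (P.el (-c)) by rw [P.el_neg]; exact h1.trans h)
      exact hac k hk)
    obtain ⟨v, rfl⟩ := P.surj x hxS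
    have hy : y = P.el (c - v) := by
      rw [sub_eq_neg_add, P.add, P.el_neg, ← h3]; group
    subst hy
    exact ⟨⟨v, Finset.mem_filter.2 ⟨Finset.mem_univ _, (P.conj_iff ha).1 h1, (P.conj_iff hb).1 h2⟩⟩, rfl⟩

/-- The class multiplication formula. -/
theorem equation [Fintype G] (hsyl : ∀ Q : Subgroup G, IsPGroup 3 Q → ∃ g : G, ∀ x ∈ Q, g * x * g⁻¹ ∈ S)
    {a b c : V} (ha : a ≠ 0) (hb : b ≠ 0) (hc : c ≠ 0) (hac : ∀ k, M k a ≠ -c) {N : ℕ}
    (hN : (Finset.univ.filter fun v : V => (∃ k, M k a = v) ∧ ∃ k, M k b = c - v).card = N) :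
    (81 * N : ℂ) = (Nat.card G : ℂ) * ∑ χ : Cfsg.IrrCharacter G,
      (χ : G → ℂ) (P.el a) * (χ : G → ℂ) (P.el b) * conj ((χ : G → ℂ) (P.el c)) / (χ : G → ℂ) 1 := by
  have h := class_mult_formula (G := G) (P.el a) (P.el b) (P.el c)
  rw [P.pairs hsyl ha hb hc hac, hN] at h
  have hG0 : (Nat.card G : ℂ) ≠ 0 := Nat.cast_ne_zero.2 Nat.card_pos.ne'
  have hcard : ∀ v, v ≠ 0 → (Nat.card {x : G // IsConj (P.el v) x} : ℂ) * 9 = (Nat.card G : ℂ) := by
    intro v hv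
    have e := card_isConj_mul (P.el v)
    rw [P.cent _ (P.mem v) (P.el_ne hv), P.cardS] at e
    exact_mod_cast e
  rw [h]
  obtain ⟨T, hT⟩ : ∃ T, T = ∑ χ : Cfsg.IrrCharacter G,
      (χ : G → ℂ) (P.el a) * (χ : G → ℂ) (P.el b) * conj ((χ : G → ℂ) (P.el c)) / (χ : G → ℂ) 1 := ⟨_, rfl⟩
  rw [← hT]
  calc _ = ((Nat.card {x : G // IsConj (P.el a) x} : ℂ) * 9) * ((Nat.card {x : G // IsConj (P.el b) x} : ℂ) * 9) /
        (Nat.card G : ℂ) * T := by ring
    _ = _ := by rw [hcard a ha, hcard b hb, mul_div_assoc, div_self hG0, mul_one]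

end Setup

theorem deg_one_eq [IsSimpleGroup G] {S : Subgroup G} (hS : Nat.card S = 9) {s : G} (hs : s ∈ S) (hs1 : s ≠ 1)
    (hcs : centralizer ({s} : Set G) = S) (χ : Cfsg.IrrCharacter G) (h : deg (χ : G → ℂ) = 1) :
    χ = ⟨_, isIrrCharacter_one⟩ := by
  obtain ⟨f, hf⟩ := exists_hom_of_deg_one (isCharacter_of_irr χ.2) (by rw [irr_apply_one_eq_deg, h, Nat.cast_one])
  rcases f.normal_ker.eq_bot_or_eq_top with hk | hk
  · exfalso
    have hinj := (MonoidHom.ker_eq_bot_iff f).1 hk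
    have hS' : S = ⊤ := eq_top_iff.2 fun g _ => by
      rw [← hcs]
      exact mem_centralizer_singleton_iff.2 (hinj (by rw [map_mul, map_mul, mul_comm]))
    have hcomm : ∀ a b : G, a * b = b * a := fun a b => hinj (by rw [map_mul, map_mul, mul_comm])
    letI : CommGroup G := { (inferInstance : Group G) with mul_comm := hcomm }
    have hp : (Nat.card G).Prime := IsSimpleGroup.prime_card
    rw [← Subgroup.card_top, ← hS', hS] at hp
    norm_num at hp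
  · refine Subtype.ext (hf.trans (funext fun g => ?_))
    have : g ∈ f.ker := hk ▸ Subgroup.mem_top g
    simp [(MonoidHom.mem_ker).1 this]

theorem univ_three : (Finset.univ : Finset (ZMod 3)) = {0, 1, 2} := by decide

def gramTwo : Mat := [[2, 1, 1, 1], [1, 2, 1, 1], [1, 1, 2, 1], [1, 1, 1, 2]]

def solTwo : List Row := [[0, 0, 0, 1], [0, 0, 1, 0], [0, 1, 0, 0], [1, 0, 0, 0], [1, 1, 1, 1]]

def certTwo : Cert :=
  .branch [1,0,0,0] (.branch [1,1,1,1] (.branch [0,1,0,0] (.branch [0,0,1,0] (.branch [0,0,0,1] .done (.last 3 []))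
    (.last 2 [])) (.last 1 [])) (.last 0 [])) (.branch [1,1,1,1] (.last 0 []) (.last 0 [([2,-1,-1,1],8),
    ([-2,1,-1,1],8),([3,-3,1,2],32),([-3,-3,1,2],32),([1,1,-1,1],8),([-1,-1,-1,1],8)]))

theorem check_two : check 4 [solTwo] [] certTwo gramTwo [] [] = true := by decide +kernel

def gramFour : Mat := [[4, 3], [3, 4]]

def solFour : List Row := [[0, 1], [1, 0], [1, 1], [1, 1], [1, 1]]

def certFour : Cert :=
  .branch [1,0] (.branch [1,1] (.branch [1,1] (.branch [1,1] (.branch [0,1] .done (.last 1 [])) (.last 0 []))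
    (.last 0 [])) (.last 0 [])) (.branch [1,1] (.branch [1,1] (.branch [1,1] (.last 0 []) (.last 0 [])) (.last 0 []))
    (.last 0 []))

theorem check_four : check 2 [solFour] [] certFour gramFour [] [] = true := by decide +kernel

/-- The action by inversion. -/
def actTwo : Fin 2 → V → V := ![id, fun v => -v]

def wTwo : Fin 4 → V := ![(1, 0), (0, 1), (1, 1), (1, 2)]

/-- The action of a cyclic group of order four. -/
def actFour : Fin 4 → V → V := ![id, fun v => (-v.2, v.1), fun v => -v, fun v => (v.2, -v.1)]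

def wFour : Fin 2 → V := ![(1, 0), (1, 1)]

theorem gram_two : ∀ i j, gramT actTwo (wTwo i) (wTwo j) = 18 * (get gramTwo i j + 1) := by decide +kernel

theorem gram_four : ∀ i j, gramT actFour (wFour i) (wFour j) = 18 * (get gramFour i j + 1) := by decide +kernel

set_option maxHeartbeats 800000 in
theorem case_two [Fintype G] [IsSimpleGroup G] {S : Subgroup G} (P : Setup S actTwo)
    (hsyl : ∀ Q : Subgroup G, IsPGroup 3 Q → ∃ g : G, ∀ x ∈ Q, g * x * g⁻¹ ∈ S) : False := by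
  classical
  obtain ⟨n, hgram, hprin, hdeg, hmult⟩ := P.exists_mults wTwo (by decide) (by decide +kernel) (by decide +kernel)
    (by decide +kernel) (k₀ := 1) (fun v => rfl)
  obtain ⟨D, hD, hmem, hdeg', hsum⟩ := exists_rows n (fun χ : Cfsg.IrrCharacter G => (deg (χ : G → ℂ) : ℤ))
    ⟨_, isIrrCharacter_one⟩ gramTwo solTwo certTwo check_two (fun χ => (Int.natCast_pos.2 (deg_irr_pos χ)).ne')
    (fun i j => by
      have h := hgram i j
      rw [gram_two, ← Finset.mul_sum] at h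
      rw [hprin, hprin]; linarith only [h])
  simp only [solTwo, List.map_eq_cons_iff, List.map_eq_nil_iff] at hD
  obtain ⟨⟨r4, x4, χ4⟩, _, rfl, rfl, ⟨r3, x3, χ3⟩, _, rfl, rfl, ⟨r2, x2, χ2⟩, _, rfl, rfl, ⟨r1, x1, χ1⟩, _, rfl, rfl,
    ⟨ra, a, χa⟩, _, rfl, rfl, rfl⟩ := hD
  have hd1 : (deg ((⟨_, isIrrCharacter_one⟩ : Cfsg.IrrCharacter G) : G → ℂ) : ℤ) = 1 := by
    have := irr_apply_one_eq_deg (⟨_, isIrrCharacter_one⟩ : Cfsg.IrrCharacter G)
    have h1 : (deg ((⟨_, isIrrCharacter_one⟩ : Cfsg.IrrCharacter G) : G → ℂ) : ℂ) = 1 := this.symm.trans rfl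
    exact_mod_cast h1
  have g0 := (hdeg' 0).trans (hdeg 0); have g1 := (hdeg' 1).trans (hdeg 1)
  have g2 := (hdeg' 2).trans (hdeg 2); have g3 := (hdeg' 3).trans (hdeg 3)
  simp [hprin, hd1, ent, List.getD_eq_getElem?_getD] at g0 g1 g2 g3
  have hneg : ∀ (χ : Cfsg.IrrCharacter G) v, (χ : G → ℂ) (P.el (-v)) = (χ : G → ℂ) (P.el v) := fun χ v => by
    rw [show -v = actTwo 1 v from rfl, ← P.act]
    have := isClassFunction_irr χ (P.el v) (P.r 1)⁻¹
    rwa [inv_inv] at this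
  have hvals : ∀ χ : Cfsg.IrrCharacter G,
      (χ : G → ℂ) (P.el (1, 0)) = (n 0 χ + n 1 χ + n 2 χ + n 3 χ : ℤ) - 3 * (n 1 χ : ℤ) ∧
      (χ : G → ℂ) (P.el (0, 1)) = (n 0 χ + n 1 χ + n 2 χ + n 3 χ : ℤ) - 3 * (n 0 χ : ℤ) := by
    intro χ
    have h0 := hmult 0 χ; have h1 := hmult 1 χ; have h2 := hmult 2 χ; have h3 := hmult 3 χ
    simp only [wTwo, Matrix.cons_val_zero, Matrix.cons_val_one, Matrix.cons_val, Fintype.sum_prod_type, univ_three,
      Finset.mem_insert, Finset.mem_singleton, Finset.sum_insert, Finset.sum_singleton, show (0 : ZMod 3) ≠ 1 by decide,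
      show (0 : ZMod 3) ≠ 2 by decide, show (1 : ZMod 3) ≠ 2 by decide, or_self, not_false_iff] at h0 h1 h2 h3
    have e1 := hneg χ (1, 0); have e2 := hneg χ (0, 1); have e3 := hneg χ (1, 1); have e4 := hneg χ (1, 2)
    rw [show -((1, 0) : V) = (2, 0) by decide] at e1
    rw [show -((0, 1) : V) = (0, 2) by decide] at e2
    rw [show -((1, 1) : V) = (2, 2) by decide] at e3
    rw [show -((1, 2) : V) = (2, 1) by decide] at e4
    simp [dot, e1, e2, e3, e4, show (2 : ZMod 3) ≠ 0 by decide, show (1 : ZMod 3) + 1 = 2 by decide,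
      show (1 : ZMod 3) + 2 = 0 by decide, show (2 : ZMod 3) + 1 = 0 by decide, show (2 : ZMod 3) + 2 = 1 by decide,
      show (2 : ZMod 3) * 2 = 1 by decide] at h0 h1 h2 h3
    push_cast
    refine ⟨?_, ?_⟩
    · linear_combination (-1 / 18 : ℂ) * (h0 + h1 + h2 + h3) + (1 / 6 : ℂ) * h1
    · linear_combination (-1 / 18 : ℂ) * (h0 + h1 + h2 + h3) + (1 / 6 : ℂ) * h0
  have E := P.equation hsyl (a := (1, 0)) (b := (1, 0)) (c := (0, 1)) (by decide) (by decide) (by decide)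
    (by decide +kernel) (N := 0) (by decide +kernel)
  rw [Nat.cast_zero, mul_zero] at E
  have hG0 : (Nat.card G : ℂ) ≠ 0 := Nat.cast_ne_zero.2 Nat.card_pos.ne'
  have hS0 := (mul_eq_zero.1 E.symm).resolve_left hG0
  rw [hsum _ (fun χ hz => by simp [(hvals χ).1, hz])] at hS0
  have hterm : ∀ p ∈ ([([0, 0, 0, 1], x4, χ4), ([0, 0, 1, 0], x3, χ3), ([0, 1, 0, 0], x2, χ2), ([1, 0, 0, 0], x1, χ1),
      ([1, 1, 1, 1], a, χa)] : List (Row × ℤ × Cfsg.IrrCharacter G)),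
      (p.2.2 : G → ℂ) (P.el (1, 0)) * (p.2.2 : G → ℂ) (P.el (1, 0)) * conj ((p.2.2 : G → ℂ) (P.el (0, 1))) / (p.2.2 : G → ℂ) 1 =
      (((ent p.1 0 + ent p.1 1 + ent p.1 2 + ent p.1 3 - 3 * ent p.1 1) ^ 2 *
        (ent p.1 0 + ent p.1 1 + ent p.1 2 + ent p.1 3 - 3 * ent p.1 0) : ℤ) : ℂ) / (p.2.1 : ℂ) := by
    intro p hp
    obtain ⟨-, σ, hσ, he, hn⟩ := hmem p hp
    rw [(hvals p.2.2).1, (hvals p.2.2).2, irr_apply_one_eq_deg, he, hn 0, hn 1, hn 2, hn 3]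
    simp only [show ((0 : Fin 4) : ℕ) = 0 from rfl, show ((1 : Fin 4) : ℕ) = 1 from rfl,
      show ((2 : Fin 4) : ℕ) = 2 from rfl, show ((3 : Fin 4) : ℕ) = 3 from rfl]
    simp only [map_sub, map_mul, map_intCast, Complex.conj_ofNat]
    rcases mul_self_eq_one_iff.1 hσ with r | r <;> subst r <;> push_cast <;> ring
  simp only [List.map_cons, List.map_nil, List.sum_cons, List.sum_nil] at hS0
  simp only [List.forall_mem_cons] at hterm hmem
  obtain ⟨t4, t3, t2, t1, ta, -⟩ := hterm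
  rw [t4, t3, t2, t1, ta] at hS0
  simp [hprin, ent, List.getD_eq_getElem?_getD] at hS0
  obtain ⟨-, -, -, -, ⟨hao, σ, hσ, hae, -⟩, -⟩ := hmem
  obtain rfl : x2 = x1 := by omega
  obtain rfl : x3 = x2 := by omega
  obtain rfl : x4 = x3 := by omega
  have hx : x4 = -1 - a := by omega
  subst hx
  have ha0 : a ≠ 0 := by
    intro e; rw [e] at hae
    have := deg_irr_pos χa
    rcases mul_self_eq_one_iff.1 hσ with r | r <;> subst r <;> omega
  have hxne : (-1 - a : ℤ) ≠ 0 := by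
    intro e
    have : deg (χa : G → ℂ) = 1 := by rcases mul_self_eq_one_iff.1 hσ with r | r <;> subst r <;> omega
    exact hao (deg_one_eq P.cardS (P.mem (1, 0)) (P.el_ne (by decide)) (P.cent _ (P.mem _) (P.el_ne (by decide))) χa this)
  have c1 : (a : ℂ) ≠ 0 := Int.cast_ne_zero.2 ha0
  have c2 : (-1 - (a : ℂ)) ≠ 0 := by exact_mod_cast hxne
  push_cast at hS0
  field_simp at hS0
  have hz : (a - 1) * (a - 1) = 0 := by
    apply Int.cast_injective (α := ℂ); push_cast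
    linear_combination (-1 : ℂ) * hS0
  have ha1 : a = 1 := by have := mul_self_eq_zero.1 hz; omega
  refine hao (deg_one_eq P.cardS (P.mem (1, 0)) (P.el_ne (by decide)) (P.cent _ (P.mem _) (P.el_ne (by decide))) χa ?_)
  rcases mul_self_eq_one_iff.1 hσ with r | r <;> subst r <;> omega

theorem bound {p q : ℤ} (hp : 8 ≤ p) (hq : 8 ≤ q) :
    20 * (p + q) * (p + q - 6) ≤ 3 * (p * q) * (p + q - 6) + 20 * (p * q) := by
  nlinarith [mul_nonneg (sub_nonneg.2 hp) (sub_nonneg.2 hq), mul_nonneg (mul_nonneg (sub_nonneg.2 hp) (sub_nonneg.2 hq)) (add_nonneg (sub_nonneg.2 hp) (sub_nonneg.2 hq))]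

theorem recip_bound {a b c : ℤ} (ha : 8 ≤ |a|) (hb : 8 ≤ |b|) (hc : 8 ≤ |c|) (h : a + b + c = -6) :
    (-3 / 20 : ℚ) ≤ 1 / (a : ℚ) + 1 / (b : ℚ) + 1 / (c : ℚ) := by
  have neg : ∀ {z : ℤ}, 8 ≤ |z| → (z : ℚ) < 0 → (-1 / 8 : ℚ) ≤ 1 / (z : ℚ) := fun {z} hz h0 => by
    have h0' : z < 0 := by exact_mod_cast h0
    rw [abs_of_neg h0'] at hz
    rw [le_div_iff_of_neg h0]
    have : (z : ℚ) ≤ -8 := by exact_mod_cast (show z ≤ -8 by omega)
    linarith
  have pos : ∀ {z : ℤ}, 0 < z → (0 : ℚ) ≤ 1 / (z : ℚ) := fun hz => by positivity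
  have two : ∀ {x y z : ℤ}, 8 ≤ |x| → 0 < y → 0 < z → (-3 / 20 : ℚ) ≤ 1 / (x : ℚ) + 1 / (y : ℚ) + 1 / (z : ℚ) := by
    intro x y z hx hy hz
    have := pos hy; have := pos hz
    rcases lt_or_ge (x : ℚ) 0 with e | e
    · have := neg hx e; linarith
    · have : (0 : ℚ) ≤ 1 / (x : ℚ) := div_nonneg zero_le_one e
      linarith
  have one : ∀ {x y z : ℤ}, 8 ≤ |x| → 8 ≤ |y| → x < 0 → y < 0 → x + y + z = -6 →
      (-3 / 20 : ℚ) ≤ 1 / (x : ℚ) + 1 / (y : ℚ) + 1 / (z : ℚ) := by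
    intro x y z hx hy x0 y0 hs
    rw [abs_of_neg x0] at hx
    rw [abs_of_neg y0] at hy
    have hb := bound hx hy
    obtain rfl : z = -x + -y - 6 := by omega
    have hb' : (20 * ((-x : ℚ) + -y) * (-x + -y - 6)) ≤ 3 * ((-x : ℚ) * -y) * (-x + -y - 6) + 20 * ((-x : ℚ) * -y) := by
      exact_mod_cast hb
    have hX : (0 : ℚ) < -x := by exact_mod_cast (show (0 : ℤ) < -x by omega)
    have hY : (0 : ℚ) < -y := by exact_mod_cast (show (0 : ℤ) < -y by omega)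
    have hZ : (0 : ℚ) < -x + -y - 6 := by exact_mod_cast (show (0 : ℤ) < -x + -y - 6 by omega)
    have hx0 : (x : ℚ) ≠ 0 := by linarith [hX] |> ne_of_lt
    have hy0 : (y : ℚ) ≠ 0 := ne_of_lt (by linarith [hY])
    push_cast
    have key : 1 / (x : ℚ) + 1 / (y : ℚ) + 1 / (-(x : ℚ) + -y - 6) + 3 / 20 =
        (3 * ((-x : ℚ) * -y) * (-x + -y - 6) + 20 * ((-x : ℚ) * -y) - 20 * ((-x : ℚ) + -y) * (-x + -y - 6)) /
          (20 * ((-x : ℚ) * -y) * (-x + -y - 6)) := by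
      field_simp
      ring
    have : (0 : ℚ) ≤ 1 / (x : ℚ) + 1 / (y : ℚ) + 1 / (-(x : ℚ) + -y - 6) + 3 / 20 := by
      rw [key]; exact div_nonneg (by linarith) (by positivity)
    linarith
  have sgn : ∀ {z : ℤ}, 8 ≤ |z| → z < 0 ∧ z ≤ -8 ∨ 0 < z := fun {z} hz => by
    rcases abs_choice z with e | e <;> rw [e] at hz <;> omega
  rcases sgn ha with ⟨sa, sa'⟩ | sa <;> rcases sgn hb with ⟨sb, sb'⟩ | sb <;> rcases sgn hc with ⟨sc, sc'⟩ | sc <;>
    first
      | omega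
      | exact one ha hb sa sb h
      | (rw [show 1 / (a : ℚ) + 1 / (b : ℚ) + 1 / (c : ℚ) = 1 / (a : ℚ) + 1 / (c : ℚ) + 1 / (b : ℚ) by ring]
         exact one ha hc sa sc (by omega))
      | (rw [show 1 / (a : ℚ) + 1 / (b : ℚ) + 1 / (c : ℚ) = 1 / (b : ℚ) + 1 / (c : ℚ) + 1 / (a : ℚ) by ring]
         exact one hb hc sb sc (by omega))
      | exact two ha sb sc
      | (rw [show 1 / (a : ℚ) + 1 / (b : ℚ) + 1 / (c : ℚ) = 1 / (b : ℚ) + 1 / (a : ℚ) + 1 / (c : ℚ) by ring]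
         exact two hb sa sc)
      | (rw [show 1 / (a : ℚ) + 1 / (b : ℚ) + 1 / (c : ℚ) = 1 / (c : ℚ) + 1 / (a : ℚ) + 1 / (b : ℚ) by ring]
         exact two hc sa sb)

set_option maxHeartbeats 1600000 in
theorem case_four [Fintype G] [IsSimpleGroup G] {S : Subgroup G} (P : Setup S actFour)
    (hsyl : ∀ Q : Subgroup G, IsPGroup 3 Q → ∃ g : G, ∀ x ∈ Q, g * x * g⁻¹ ∈ S) (k : ℕ) (hk : 10 ≤ k)
    (hcardG : Nat.card G = 36 * k) : Nat.card G = 360 := by
  classical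
  obtain ⟨n, hgram, hprin, hdeg, hmult⟩ := P.exists_mults wFour (by decide) (by decide +kernel) (by decide +kernel)
    (by decide +kernel) (k₀ := 2) (fun v => rfl)
  obtain ⟨D, hD, hmem, hdeg', hsum⟩ := exists_rows n (fun χ : Cfsg.IrrCharacter G => (deg (χ : G → ℂ) : ℤ))
    ⟨_, isIrrCharacter_one⟩ gramFour solFour certFour check_four (fun χ => (Int.natCast_pos.2 (deg_irr_pos χ)).ne')
    (fun i j => by
      have h := hgram i j
      rw [gram_four, ← Finset.mul_sum] at h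
      rw [hprin, hprin]; linarith only [h])
  simp only [solFour, List.map_eq_cons_iff, List.map_eq_nil_iff] at hD
  obtain ⟨⟨r2, x2, χ2⟩, _, rfl, rfl, ⟨r1, x1, χ1⟩, _, rfl, rfl, ⟨ra, a, χa⟩, _, rfl, rfl, ⟨rb, b, χb⟩, _, rfl, rfl,
    ⟨rc, c, χc⟩, _, rfl, rfl, rfl⟩ := hD
  have hd1 : (deg ((⟨_, isIrrCharacter_one⟩ : Cfsg.IrrCharacter G) : G → ℂ) : ℤ) = 1 := by
    have := irr_apply_one_eq_deg (⟨_, isIrrCharacter_one⟩ : Cfsg.IrrCharacter G)
    have h1 : (deg ((⟨_, isIrrCharacter_one⟩ : Cfsg.IrrCharacter G) : G → ℂ) : ℂ) = 1 := this.symm.trans rfl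
    exact_mod_cast h1
  have g0 := (hdeg' 0).trans (hdeg 0); have g1 := (hdeg' 1).trans (hdeg 1)
  simp [hprin, hd1, ent, List.getD_eq_getElem?_getD] at g0 g1
  have horb : ∀ (χ : Cfsg.IrrCharacter G) k v, (χ : G → ℂ) (P.el (actFour k v)) = (χ : G → ℂ) (P.el v) := fun χ k v => by
    rw [← P.act]
    have := isClassFunction_irr χ (P.el v) (P.r k)⁻¹
    rwa [inv_inv] at this
  have hvals : ∀ χ : Cfsg.IrrCharacter G,
      (χ : G → ℂ) (P.el (1, 0)) = 2 * (n 1 χ : ℤ) - (n 0 χ : ℤ) ∧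
      (χ : G → ℂ) (P.el (1, 1)) = 2 * (n 0 χ : ℤ) - (n 1 χ : ℤ) ∧
      ∑ v, (χ : G → ℂ) (P.el v) = (deg (χ : G → ℂ) : ℂ) + 4 * (n 0 χ : ℤ) + 4 * (n 1 χ : ℤ) := by
    intro χ
    have h0 := hmult 0 χ; have h1 := hmult 1 χ
    simp only [wFour, Matrix.cons_val_zero, Matrix.cons_val_one, Fintype.sum_prod_type, univ_three,
      Finset.mem_insert, Finset.mem_singleton, Finset.sum_insert, Finset.sum_singleton, show (0 : ZMod 3) ≠ 1 by decide,
      show (0 : ZMod 3) ≠ 2 by decide, show (1 : ZMod 3) ≠ 2 by decide, or_self, not_false_iff] at h0 h1 ⊢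
    have e1 := horb χ 1 (1, 0); have e2 := horb χ 2 (1, 0); have e3 := horb χ 3 (1, 0)
    have f1 := horb χ 1 (1, 1); have f2 := horb χ 2 (1, 1); have f3 := horb χ 3 (1, 1)
    rw [show actFour 1 ((1, 0) : V) = (0, 1) by decide] at e1
    rw [show actFour 2 ((1, 0) : V) = (2, 0) by decide] at e2
    rw [show actFour 3 ((1, 0) : V) = (0, 2) by decide] at e3
    rw [show actFour 1 ((1, 1) : V) = (2, 1) by decide] at f1
    rw [show actFour 2 ((1, 1) : V) = (2, 2) by decide] at f2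
    rw [show actFour 3 ((1, 1) : V) = (1, 2) by decide] at f3
    have z : (χ : G → ℂ) (P.el (0, 0)) = (deg (χ : G → ℂ) : ℂ) := by
      rw [show ((0, 0) : V) = 0 from rfl, P.el_zero, irr_apply_one_eq_deg]
    simp [dot, e1, e2, e3, f1, f2, f3, z, show (2 : ZMod 3) ≠ 0 by decide, show (1 : ZMod 3) + 1 = 2 by decide,
      show (1 : ZMod 3) + 2 = 0 by decide, show (2 : ZMod 3) + 1 = 0 by decide, show (2 : ZMod 3) + 2 = 1 by decide]
      at h0 h1 ⊢
    push_cast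
    refine ⟨?_, ?_, ?_⟩
    · linear_combination (1 / 18 : ℂ) * h0 - (1 / 9 : ℂ) * h1
    · linear_combination (1 / 18 : ℂ) * h1 - (1 / 9 : ℂ) * h0
    · linear_combination (-2 / 9 : ℂ) * h0 + (-2 / 9 : ℂ) * h1
  have E := P.equation hsyl (a := (1, 0)) (b := (1, 0)) (c := (1, 1)) (by decide) (by decide) (by decide)
    (by decide +kernel) (N := 2) (by decide +kernel)
  rw [hsum _ (fun χ hz => by simp [(hvals χ).1, hz])] at E
  have hterm : ∀ p ∈ ([([0, 1], x2, χ2), ([1, 0], x1, χ1), ([1, 1], a, χa), ([1, 1], b, χb), ([1, 1], c, χc)] :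
      List (Row × ℤ × Cfsg.IrrCharacter G)),
      (p.2.2 : G → ℂ) (P.el (1, 0)) * (p.2.2 : G → ℂ) (P.el (1, 0)) * conj ((p.2.2 : G → ℂ) (P.el (1, 1))) / (p.2.2 : G → ℂ) 1 =
      (((2 * ent p.1 1 - ent p.1 0) ^ 2 * (2 * ent p.1 0 - ent p.1 1) : ℤ) : ℂ) / (p.2.1 : ℂ) := by
    intro p hp
    obtain ⟨-, σ, hσ, he, hn⟩ := hmem p hp
    rw [(hvals p.2.2).1, (hvals p.2.2).2.1, irr_apply_one_eq_deg, he, hn 0, hn 1]
    simp only [show ((0 : Fin 2) : ℕ) = 0 from rfl, show ((1 : Fin 2) : ℕ) = 1 from rfl]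
    simp only [map_sub, map_mul, map_intCast, Complex.conj_ofNat]
    rcases mul_self_eq_one_iff.1 hσ with r | r <;> subst r <;> push_cast <;> ring
  have hcong : ∀ p ∈ ([([0, 1], x2, χ2), ([1, 0], x1, χ1), ([1, 1], a, χa), ([1, 1], b, χb), ([1, 1], c, χc)] :
      List (Row × ℤ × Cfsg.IrrCharacter G)), (p.2.1 + 4 * ent p.1 0 + 4 * ent p.1 1) % 9 = 0 ∧ p.2.1 ≠ 1 ∧ p.2.1 ≠ 0 := by
    intro p hp
    obtain ⟨hpo, σ, hσ, he, hn⟩ := hmem p hp
    obtain ⟨z, hz⟩ := P.dvd_irr p.2.2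
    rw [(hvals p.2.2).2.2, hn 0, hn 1] at hz
    simp only [show ((0 : Fin 2) : ℕ) = 0 from rfl, show ((1 : Fin 2) : ℕ) = 1 from rfl] at hz
    have e : (deg (p.2.2 : G → ℂ) : ℤ) + 4 * (σ * ent p.1 0) + 4 * (σ * ent p.1 1) = 9 * z := by
      apply Int.cast_injective (α := ℂ); push_cast; push_cast at hz; linear_combination -hz
    have hpos := deg_irr_pos p.2.2
    refine ⟨?_, ?_, ?_⟩
    · rcases mul_self_eq_one_iff.1 hσ with r | r <;> subst r <;> omega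
    · intro h1
      refine hpo (deg_one_eq P.cardS (P.mem (1, 0)) (P.el_ne (by decide)) (P.cent _ (P.mem _) (P.el_ne (by decide))) _ ?_)
      rcases mul_self_eq_one_iff.1 hσ with r | r <;> subst r <;> omega
    · rcases mul_self_eq_one_iff.1 hσ with r | r <;> subst r <;> omega
  simp only [List.map_cons, List.map_nil, List.sum_cons, List.sum_nil] at E
  simp only [List.forall_mem_cons] at hterm hcong
  obtain ⟨t2, t1, ta, tb, tc, -⟩ := hterm
  obtain ⟨c2, c1, ca, cb, cc, -⟩ := hcong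
  rw [t2, t1, ta, tb, tc] at E
  simp [hprin, ent, List.getD_eq_getElem?_getD] at E c2 c1 ca cb cc
  obtain rfl : x2 = x1 := by omega
  rw [← Nat.card_eq_fintype_card, hcardG] at E
  push_cast at E
  -- pass to the rationals
  have Q : (162 : ℚ) = 36 * (k : ℚ) * (1 + 1 / (a : ℚ) + 1 / (b : ℚ) + 1 / (c : ℚ) - 2 / (x2 : ℚ)) := by
    have : ((162 : ℚ) : ℂ) = ((36 * (k : ℚ) * (1 + 1 / (a : ℚ) + 1 / (b : ℚ) + 1 / (c : ℚ) - 2 / (x2 : ℚ)) : ℚ) : ℂ) := by
      push_cast; linear_combination E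
    exact_mod_cast this
  have hk' : (10 : ℚ) ≤ k := by exact_mod_cast hk
  obtain ⟨F, hF⟩ : ∃ F : ℚ, F = 1 / (a : ℚ) + 1 / (b : ℚ) + 1 / (c : ℚ) - 2 / (x2 : ℚ) := ⟨_, rfl⟩
  have hF' : F ≤ -11 / 20 := by nlinarith only [Q, hF, hk']
  have abs8 : ∀ {z : ℤ}, z % 9 = 1 → z ≠ 1 → 8 ≤ |z| := fun {z} h1 h2 => by
    rcases le_or_gt 0 z with e | e
    · rw [abs_of_nonneg e]; omega
    · rw [abs_of_neg e]; omega
  have a8 := abs8 (z := a) (by omega) ca.2.1
  have b8 := abs8 (z := b) (by omega) cb.2.1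
  have c8 := abs8 (z := c) (by omega) cc.2.1
  have low : ∀ {z : ℤ}, 8 ≤ |z| → (-1 / 8 : ℚ) ≤ 1 / (z : ℚ) := fun {z} hz => by
    rcases lt_or_ge z 0 with h0 | h0
    · rw [abs_of_neg h0] at hz
      rw [le_div_iff_of_neg (by exact_mod_cast h0)]
      have : (z : ℚ) ≤ -8 := by exact_mod_cast (show z ≤ -8 by omega)
      linarith
    · exact le_trans (by norm_num) (div_nonneg zero_le_one (by exact_mod_cast h0 : (0 : ℚ) ≤ z))
  have hx : (7 / 40 : ℚ) ≤ 2 / (x2 : ℚ) := by linarith [low a8, low b8, low c8, hF, hF']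
  have hx0 : 0 < x2 := by
    by_contra hh
    have : 2 / (x2 : ℚ) ≤ 0 := div_nonpos_of_nonneg_of_nonpos (by norm_num) (by exact_mod_cast not_lt.1 hh)
    linarith
  have hx11 : x2 ≤ 11 := by
    have h' : (x2 : ℚ) ≤ 80 / 7 := by
      rw [le_div_iff₀ (by exact_mod_cast hx0)] at hx; linarith
    by_contra hh
    have : (12 : ℚ) ≤ x2 := by exact_mod_cast (show 12 ≤ x2 by omega)
    linarith
  obtain rfl : x2 = 5 := by omega
  have hR := recip_bound a8 b8 c8 (by omega)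
  norm_num at hF
  have : (k : ℚ) ≤ 10 := by nlinarith only [Q, hR, hk']
  have : k ≤ 10 := by exact_mod_cast this
  omega

end Cfsg.Lib.NineTI
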