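import Mathlib

/-!
The group `2 × S₄`: elements, subgroups and the finite facts used for the groups with such a
centralizer of an involution.
-/

set_option autoImplicit false
set_option linter.style.nativeDecide false

namespace Cfsg.Lib.TwoSymFour

open Equiv

/-- The model group. -/
abbrev A := Multiplicative (ZMod 2) × Perm (Fin 4)

/-- the nontrivial element of the first factor -/
def τ : Multiplicative (ZMod 2) := Multiplicative.ofAdd 1

/-- a four-cycle -/
def r₀ : Perm (Fin 4) := swap 0 1 * swap 1 2 * swap 2 3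

/-- its square -/
def z₀ : Perm (Fin 4) := r₀ * r₀

/-- a transposition inverting it -/
def u₀ : Perm (Fin 4) := swap 0 2

/-- the sign, with values in the first factor -/
def ε : Perm (Fin 4) →* Multiplicative (ZMod 2) where
  toFun s := if Perm.sign s = 1 then 1 else τ
  map_one' := by simp
  map_mul' := by decide +kernel

/-- the automorphism exchanging the two complements -/
def θ : A →* A where
  toFun x := (x.1 * ε x.2, x.2)
  map_one' := by simp
  map_mul' x y := by
    ext
    · simp only [Prod.fst_mul, Prod.snd_mul, map_mul]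
      exact congrArg _ (mul_mul_mul_comm _ _ _ _)
    · simp

theorem θ_θ (x : A) : θ (θ x) = x := by
  revert x
  decide +kernel

/-- the standard Sylow 2-subgroup -/
def sylA : Subgroup A := Subgroup.prod ⊤ (Subgroup.centralizer {z₀})

theorem mem_sylA {x : A} : x ∈ sylA ↔ x.2 * z₀ = z₀ * x.2 := by
  simp [sylA, Subgroup.mem_prod, Subgroup.mem_centralizer_singleton_iff]

instance : DecidablePred (· ∈ sylA) := fun _ => decidable_of_iff _ mem_sylA.symm

theorem card_sylA : Nat.card sylA = 16 := by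
  rw [Nat.card_eq_fintype_card]
  decide +kernel

/-- the maximal subgroup used for the transfer -/
def maxA : Subgroup A where
  carrier := {x | x.2 * z₀ = z₀ * x.2 ∧ x.1 = ε x.2}
  one_mem' := by simp
  mul_mem' {a b} ha hb := ⟨by
    have h1 : Commute a.2 z₀ := ha.1
    have h2 : Commute b.2 z₀ := hb.1
    exact (h1.mul_left h2).eq, by simp [ha.2, hb.2]⟩
  inv_mem' {a} ha := ⟨by
    have h1 : Commute a.2 z₀ := ha.1
    exact h1.inv_left.eq, by simp [ha.2]⟩

theorem mem_maxA {x : A} : x ∈ maxA ↔ x.2 * z₀ = z₀ * x.2 ∧ x.1 = ε x.2 := Iff.rfl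

instance : DecidablePred (· ∈ maxA) := fun _ => decidable_of_iff _ mem_maxA.symm

theorem card_maxA : Nat.card maxA = 8 := by
  rw [Nat.card_eq_fintype_card]
  decide +kernel

/-- the standard Sylow 2-subgroup of the complement -/
def dihA : Subgroup A := Subgroup.prod ⊥ (Subgroup.centralizer {z₀})

theorem mem_dihA {x : A} : x ∈ dihA ↔ x.1 = 1 ∧ x.2 * z₀ = z₀ * x.2 := by
  simp [dihA, Subgroup.mem_prod, Subgroup.mem_centralizer_singleton_iff]

instance : DecidablePred (· ∈ dihA) := fun _ => decidable_of_iff _ mem_dihA.symm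

theorem card_dihA : Nat.card dihA = 8 := by
  rw [Nat.card_eq_fintype_card]
  decide +kernel

theorem comm_perm : ∀ x y : Perm (Fin 4), x * z₀ = z₀ * x → y * z₀ = z₀ * y →
    x * y * x⁻¹ * y⁻¹ = 1 ∨ x * y * x⁻¹ * y⁻¹ = z₀ := by
  decide +kernel

/-- the derived group of the standard Sylow subgroup is generated by `z` -/
theorem comm_sylA (x y : A) (hx : x.2 * z₀ = z₀ * x.2) (hy : y.2 * z₀ = z₀ * y.2) :
    x * y * x⁻¹ * y⁻¹ = 1 ∨ x * y * x⁻¹ * y⁻¹ = (1, z₀) := by
  rcases comm_perm x.2 y.2 hx hy with h | h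
  · left
    refine Prod.ext ?_ (by simpa using h)
    simp [mul_comm x.1 y.1]
  · right
    refine Prod.ext ?_ (by simpa using h)
    simp [mul_comm x.1 y.1]

theorem tau_ne : τ ≠ 1 := by decide

theorem fst_cases : ∀ a : Multiplicative (ZMod 2), a = 1 ∨ a = τ := by decide

theorem invol_classes : ∀ a : A, a * a = 1 → a ≠ 1 →
    ∃ h : A, h * a * h⁻¹ = (τ, 1) ∨ h * a * h⁻¹ = (1, z₀) ∨ h * a * h⁻¹ = (τ, z₀) ∨
      h * a * h⁻¹ = (1, u₀) ∨ h * a * h⁻¹ = (τ, u₀) := by
  decide +kernel

theorem invol_maxA : ∀ a : A, (a.2 * z₀ = z₀ * a.2 ∧ a.1 = ε a.2) → a * a = 1 → a ≠ 1 →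
    ∃ h : A, h * a * h⁻¹ = (1, z₀) ∨ h * a * h⁻¹ = (τ, u₀) := by
  decide +kernel

theorem invol_dih : ∀ s : Perm (Fin 4), s * s = 1 → s ≠ 1 →
    ∃ h : Perm (Fin 4), h * s * h⁻¹ = z₀ ∨ h * s * h⁻¹ = u₀ := by
  decide +kernel

theorem conj_other : ∃ h : Perm (Fin 4), h * (u₀ * z₀) * h⁻¹ = u₀ := by decide +kernel

theorem comm_u_z : u₀ * z₀ = z₀ * u₀ := by decide +kernel

theorem even_or : ∀ s : Perm (Fin 4), Perm.sign s = 1 ∨ Perm.sign (s * u₀) = 1 := by decide +kernel

/-- even permutations are products of two elements of odd order -/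
theorem even_prod : ∀ s : Perm (Fin 4), Perm.sign s = 1 →
    ∃ a b : Perm (Fin 4), a * a * a = 1 ∧ b * b * b = 1 ∧ s = a * b := by
  decide +kernel

theorem transp_classes : ∀ s : Perm (Fin 4), s ∈ ({swap 0 1, swap 0 2, swap 0 3, swap 1 2, swap 1 3, swap 2 3} :
    Finset (Perm (Fin 4))) → ∃ h : Perm (Fin 4), h * s * h⁻¹ = u₀ := by
  decide +kernel

theorem center_trivial : ∀ s : Perm (Fin 4), (∀ h : Perm (Fin 4), s * h = h * s) → s = 1 := by
  decide +kernel

theorem card_A : Nat.card A = 48 := by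
  rw [Nat.card_eq_fintype_card]
  decide +kernel

theorem center_A : ∀ a : A, (∀ h : A, a * h = h * a) → a = 1 ∨ a = (τ, 1) := by
  decide +kernel

end Cfsg.Lib.TwoSymFour
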