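import Mathlib
import Cfsg.Agent.LocalThree.TwoSymFourModel
import Cfsg.Agent.S0111
import Cfsg.Agent.S0215

/-!
An involution `t` with centralizer `2 × S₄` and self-centralizing derived Sylow subgroups: the
Sylow centre, a subgroup of index two avoiding `t`, and the case in which `t` is isolated.
-/

set_option autoImplicit false
set_option linter.unusedSectionVars false

namespace Cfsg.Lib.TwoSymFour

open Subgroup Equiv

variable {G : Type*} [Group G] [Finite G] {t : G} {f : A →* G}

/-- The hypothesis, transported to the model. -/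
structure Hyp (f : A →* G) (t : G) : Prop where
  inj : Function.Injective f
  range : f.range = centralizer ({t} : Set G)
  htau : f (τ, 1) = t
  card16 : ∀ P : Sylow 2 G, Nat.card (P : Subgroup G) = 16
  derived : ∀ P : Sylow 2 G,
    centralizer ((⁅(P : Subgroup G), (P : Subgroup G)⁆ : Subgroup G) : Set G) = (P : Subgroup G)

theorem Hyp.twist (h : Hyp f t) : Hyp (f.comp θ) t where
  inj := h.inj.comp (fun x y e => by rw [← θ_θ x, e, θ_θ])
  range := by
    rw [← h.range]
    refine le_antisymm ?_ ?_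
    · rintro _ ⟨x, rfl⟩
      exact ⟨θ x, rfl⟩
    · rintro _ ⟨x, rfl⟩
      exact ⟨θ x, by simp [θ_θ]⟩
  htau := by
    rw [MonoidHom.comp_apply, show θ (τ, 1) = (τ, 1) by decide +kernel, h.htau]
  card16 := h.card16
  derived := h.derived

/-- the image of the standard Sylow subgroup -/
def sylT (f : A →* G) : Subgroup G := sylA.map f

/-- the central involution generating the derived group -/
def zf (f : A →* G) : G := f (1, z₀)

theorem exists_sylow (h : Hyp f t) : ∃ P : Sylow 2 G, (P : Subgroup G) = sylT f := by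
  have : Fact (Nat.Prime 2) := ⟨Nat.prime_two⟩
  have hc : Nat.card (sylT f) = 16 := by
    rw [sylT, card_map_of_injective h.inj, card_sylA]
  obtain ⟨P, hP⟩ := (IsPGroup.of_card (p := 2) (n := 4) (by rw [hc]; norm_num) :
    IsPGroup 2 (sylT f)).exists_le_sylow
  exact ⟨P, (eq_of_le_of_card_ge hP (by rw [h.card16 P, hc])).symm⟩

theorem map_mem_sylT {a : A} (ha : a.2 * z₀ = z₀ * a.2) : f a ∈ sylT f :=
  mem_map_of_mem f (mem_sylA.2 ha)

theorem cent_z (h : Hyp f t) : centralizer ({zf f} : Set G) = sylT f := by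
  obtain ⟨P, hP⟩ := exists_sylow h
  refine le_antisymm (fun g hg => ?_) ?_
  · rw [← hP, ← h.derived P]
    rw [mem_centralizer_singleton_iff] at hg
    have hle : ⁅(P : Subgroup G), (P : Subgroup G)⁆ ≤ centralizer ({g} : Set G) := by
      rw [commutator_le]
      intro x hx y hy
      rw [hP] at hx hy
      obtain ⟨a, ha, rfl⟩ := hx
      obtain ⟨b, hb, rfl⟩ := hy
      rw [mem_centralizer_singleton_iff, commutatorElement_def, ← map_inv, ← map_inv, ← map_mul, ← map_mul,
        ← map_mul]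
      rcases comm_sylA a b (mem_sylA.1 ha) (mem_sylA.1 hb) with e | e <;> rw [e]
      · rw [map_one, one_mul, mul_one]
      · exact hg.symm
    rw [mem_centralizer_iff]
    intro x hx
    exact mem_centralizer_singleton_iff.1 (hle hx)
  · rintro _ ⟨a, ha, rfl⟩
    rw [mem_centralizer_singleton_iff, zf, ← map_mul, ← map_mul]
    exact congrArg f (Prod.ext (by simp [mul_comm]) (mem_sylA.1 ha))

/-- elements central in the Sylow subgroup are conjugate only if equal -/
theorem central_conj (h : Hyp f t) {a b : A}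
    (ha : ∀ x : A, x.2 * z₀ = z₀ * x.2 → x * a = a * x) (hb : ∀ x : A, x.2 * z₀ = z₀ * x.2 → x * b = b * x)
    (hb2 : b.2 * z₀ = z₀ * b.2) (ha2 : a.2 * z₀ = z₀ * a.2) (hab : IsConj (f a) (f b)) : a = b := by
  obtain ⟨P, hP⟩ := exists_sylow h
  obtain ⟨g, hg⟩ := isConj_iff.1 hab
  have hcen : ∀ {c : A}, (∀ x : A, x.2 * z₀ = z₀ * x.2 → x * c = c * x) →
      f c ∈ centralizer ((P : Subgroup G) : Set G) := by
    intro c hc
    rw [mem_centralizer_iff]
    intro x hx
    rw [SetLike.mem_coe, hP] at hx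
    obtain ⟨y, hy, rfl⟩ := hx
    rw [← map_mul, ← map_mul, hc y (mem_sylA.1 hy)]
  obtain ⟨n, hn, he⟩ := Sylow.conj_eq_normalizer_conj_of_mem_centralizer P (f a) g⁻¹ (hcen ha)
    (by rw [inv_inv, hg]; exact hcen hb)
  rw [inv_inv, hg] at he
  -- the normalizer centralizes the derived involution, so lies in the Sylow subgroup
  have hnz : n⁻¹ * zf f * n = zf f := by
    have hz1 : zf f ∈ ⁅(P : Subgroup G), (P : Subgroup G)⁆ := by
      have hr : f (1, r₀) ∈ (P : Subgroup G) := hP.symm ▸ map_mem_sylT (by decide +kernel)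
      have hu' : f (1, u₀) ∈ (P : Subgroup G) := hP.symm ▸ map_mem_sylT (by decide +kernel)
      have := commutator_mem_commutator hr hu'
      rw [commutatorElement_def, ← map_inv, ← map_inv, ← map_mul, ← map_mul, ← map_mul] at this
      rw [zf]
      rwa [show ((1, r₀) : A) * (1, u₀) * (1, r₀)⁻¹ * (1, u₀)⁻¹ = (1, z₀) by decide +kernel] at this
    have hmem : n⁻¹ * zf f * n ∈ ⁅(P : Subgroup G), (P : Subgroup G)⁆ := by
      have h1 : ((P : Subgroup G).map (MulAut.conj n⁻¹).toMonoidHom) = P := by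
        ext x
        rw [mem_map]
        have hn' := mem_normalizer_iff.1 hn
        constructor
        · rintro ⟨y, hy, rfl⟩
          rw [MulEquiv.coe_toMonoidHom, MulAut.conj_apply, inv_inv]
          exact (hn' _).2 (by simpa [mul_assoc] using hy)
        · intro hx
          refine ⟨n * x * n⁻¹, (hn' x).1 hx, ?_⟩
          simp [MulAut.conj_apply, mul_assoc]
      have h2 := mem_map_of_mem (MulAut.conj n⁻¹).toMonoidHom hz1
      rw [map_commutator, h1, MulEquiv.coe_toMonoidHom, MulAut.conj_apply, inv_inv] at h2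
      exact h2
    have hle : ⁅(P : Subgroup G), (P : Subgroup G)⁆ ≤ (zpowers ((1 : Multiplicative (ZMod 2)), z₀)).map f := by
      rw [commutator_le]
      intro x hx y hy
      rw [hP] at hx hy
      obtain ⟨c, hc, rfl⟩ := hx
      obtain ⟨d, hd, rfl⟩ := hy
      rw [commutatorElement_def, ← map_inv, ← map_inv, ← map_mul, ← map_mul, ← map_mul]
      refine mem_map_of_mem f ?_
      rcases comm_sylA c d (mem_sylA.1 hc) (mem_sylA.1 hd) with e | e <;> rw [e]
      · exact one_mem _
      · exact mem_zpowers _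
    obtain ⟨c, hc, hce⟩ := hle hmem
    have hc' : c = 1 ∨ c = (1, z₀) := by
      obtain ⟨k, hk⟩ := mem_zpowers_iff.1 hc
      rw [← hk]
      rcases Int.even_or_odd' k with ⟨j, rfl | rfl⟩
      · left
        rw [zpow_mul, show ((1, z₀) : A) ^ (2 : ℤ) = 1 by decide +kernel, one_zpow]
      · right
        rw [zpow_add, zpow_mul, show ((1, z₀) : A) ^ (2 : ℤ) = 1 by decide +kernel, one_zpow, one_mul, zpow_one]
    rcases hc' with rfl | rfl
    · exfalso
      rw [map_one] at hce
      have : zf f = 1 := by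
        calc zf f = n * (n⁻¹ * zf f * n) * n⁻¹ := by group
          _ = 1 := by rw [← hce]; group
      have h3 := h.inj (this.trans (map_one f).symm)
      exact absurd h3 (by decide +kernel)
    · exact hce.symm
  have hnT : n ∈ sylT f := by
    rw [← cent_z h, mem_centralizer_singleton_iff]
    calc n * zf f = n * (n⁻¹ * zf f * n) := by rw [hnz]
      _ = zf f * n := by group
  obtain ⟨m, hm, hme⟩ := hnT
  rw [← hme, ← map_inv, ← map_mul, ← map_mul] at he
  have := h.inj he
  rw [this, mul_assoc, ← ha m (mem_sylA.1 hm)]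
  group

theorem t_not_z (h : Hyp f t) : ¬ IsConj t (zf f) := fun hc => by
  rw [← h.htau, zf] at hc
  exact absurd (central_conj h (by decide +kernel) (by decide +kernel) (by decide +kernel) (by decide +kernel) hc)
    (by decide +kernel)

theorem t_not_tz (h : Hyp f t) : ¬ IsConj t (f (τ, z₀)) := fun hc => by
  rw [← h.htau] at hc
  exact absurd (central_conj h (by decide +kernel) (by decide +kernel) (by decide +kernel) (by decide +kernel) hc)
    (by decide +kernel)

theorem z_not_tz (h : Hyp f t) : ¬ IsConj (zf f) (f (τ, z₀)) := fun hc => by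
  rw [zf] at hc
  exact absurd (central_conj h (by decide +kernel) (by decide +kernel) (by decide +kernel) (by decide +kernel) hc)
    (by decide +kernel)

theorem conj_image (f : A →* G) (x a : A) : IsConj (f a) (f (x * a * x⁻¹)) :=
  isConj_iff.2 ⟨f x, by simp⟩

/-- the two classes of transpositions are not both fused to `t` -/
theorem not_both (h : Hyp f t) : ¬ (IsConj t (f (1, u₀)) ∧ IsConj t (f (τ, u₀))) := by
  rintro ⟨h1, h2⟩
  obtain ⟨g, hg⟩ := isConj_iff.1 h1.symm
  set w := g * zf f * g⁻¹ with hw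
  have hwc : w ∈ f.range := by
    rw [h.range, mem_centralizer_singleton_iff, hw, ← hg, zf]
    have e : f (1, u₀) * f (1, z₀) = f (1, z₀) * f (1, u₀) := by
      rw [← map_mul, ← map_mul, show ((1, u₀) : A) * (1, z₀) = (1, z₀) * (1, u₀) by decide +kernel]
    calc g * f (1, z₀) * g⁻¹ * (g * f (1, u₀) * g⁻¹) = g * (f (1, z₀) * f (1, u₀)) * g⁻¹ := by group
      _ = g * (f (1, u₀) * f (1, z₀)) * g⁻¹ := by rw [e]
      _ = _ := by group
  obtain ⟨a, ha⟩ := hwc
  have hzw : IsConj (zf f) w := isConj_iff.2 ⟨g, rfl⟩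
  have htw : IsConj t (t * w) := by
    obtain ⟨x, hx⟩ := conj_other
    have e1 : t * w = g * f (1, u₀ * z₀) * g⁻¹ := by
      rw [hw, ← hg, zf, show ((1 : Multiplicative (ZMod 2)), u₀ * z₀) = ((1, u₀) : A) * (1, z₀) from rfl, map_mul]
      group
    rw [e1]
    refine h1.trans (IsConj.trans ?_ (isConj_iff.2 ⟨g, rfl⟩))
    have := conj_image f (1, x) (1, u₀ * z₀)
    rw [show ((1, x) : A) * (1, u₀ * z₀) * (1, x)⁻¹ = (1, u₀) from Prod.ext (by simp) (by simpa using hx)] at this
    exact this.symm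
  have ha2 : a * a = 1 := h.inj (by
    rw [map_mul, map_one, ha, hw, zf]
    calc g * f (1, z₀) * g⁻¹ * (g * f (1, z₀) * g⁻¹) = g * f ((1, z₀) * (1, z₀)) * g⁻¹ := by rw [map_mul]; group
      _ = 1 := by rw [show ((1, z₀) : A) * (1, z₀) = 1 by decide +kernel, map_one]; group)
  have ha1 : a ≠ 1 := by
    rintro rfl
    rw [map_one] at ha
    rw [← ha, isConj_one_left] at hzw
    exact absurd (h.inj (hzw.trans (map_one f).symm)) (by decide +kernel)
  obtain ⟨x, hx⟩ := invol_classes a ha2 ha1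
  have hzx : IsConj (zf f) (f (x * a * x⁻¹)) := (hzw.trans (ha ▸ IsConj.refl _)).trans (conj_image f x a)
  have htx : IsConj t (f ((τ, 1) * (x * a * x⁻¹))) := by
    refine htw.trans ?_
    have := conj_image f x ((τ, 1) * a)
    rw [map_mul f (τ, 1) a, h.htau, ha] at this
    rwa [show x * ((τ, 1) * a) * x⁻¹ = (τ, 1) * (x * a * x⁻¹) by
      rw [← mul_assoc x, show x * (τ, 1) = (τ, 1) * x from Prod.ext (mul_comm _ _) (by simp)]
      group] at this
  rcases hx with e | e | e | e | e <;> rw [e] at hzx htx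
  · exact t_not_z h (h.htau ▸ hzx.symm)
  · rw [show ((τ, 1) : A) * (1, z₀) = (τ, z₀) from rfl] at htx
    exact t_not_tz h htx
  · exact z_not_tz h hzx
  · exact t_not_z h (h1.trans hzx.symm)
  · exact t_not_z h (h2.trans hzx.symm)

theorem t_ne_one (h : Hyp f t) : t ≠ 1 := fun e =>
  absurd (h.inj (h.htau.trans (e.trans (map_one f).symm))) (by decide +kernel)

theorem t_order (h : Hyp f t) : orderOf t = 2 := by
  rw [← h.htau, orderOf_injective f h.inj]
  exact orderOf_eq_prime (by decide +kernel) (by decide +kernel)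

/-- a subgroup of index two avoiding `t` -/
theorem exists_index_two (h : Hyp f t) (hu : ¬ IsConj t (f (τ, u₀))) :
    ∃ N : Subgroup G, N.index = 2 ∧ t ∉ N := by
  have : Fact (Nat.Prime 2) := ⟨Nat.prime_two⟩
  obtain ⟨P, hP⟩ := exists_sylow h
  have hle : maxA ≤ sylA := fun x hx => mem_sylA.2 (mem_maxA.1 hx).1
  have hidx : (maxA.map f).relIndex (P : Subgroup G) = 2 := by
    rw [hP, sylT, relIndex_map_map_of_injective _ _ h.inj]
    have h1 := relIndex_mul_index hle
    have h2 := maxA.card_mul_index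
    have h3 := sylA.card_mul_index
    rw [card_maxA, card_A] at h2
    rw [card_sylA, card_A] at h3
    have e1 : sylA.index = 3 := by omega
    rw [e1] at h1
    omega
  rcases Cfsg.Agent.S0111.result P (maxA.map f) (hP ▸ map_mono hle) hidx t (t_order h)
      (hP ▸ h.htau ▸ map_mem_sylT (by simp))
      (fun ⟨a, ha, hae⟩ => by
        have := h.inj (hae.trans h.htau.symm)
        subst this
        exact absurd (mem_maxA.1 ha).2 (by decide +kernel)) with ⟨M, -, hM, htM⟩ | ⟨g, hg⟩
  · exact ⟨M, hM, htM⟩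
  · exfalso
    obtain ⟨a, ha, hae⟩ := hg
    have htc : IsConj t (f a) := isConj_iff.2 ⟨g, hae.symm⟩
    have ha2 : a * a = 1 := h.inj (by
      rw [map_mul, map_one, hae]
      calc g * t * g⁻¹ * (g * t * g⁻¹) = g * (t * t) * g⁻¹ := by group
        _ = 1 := by rw [show t * t = 1 by rw [← pow_two, ← t_order h, pow_orderOf_eq_one]]; group)
    have ha1 : a ≠ 1 := by
      rintro rfl
      rw [map_one] at htc
      exact t_ne_one h (isConj_one_left.1 htc)
    obtain ⟨x, hx⟩ := invol_maxA a (mem_maxA.1 ha) ha2 ha1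
    have := htc.trans (conj_image f x a)
    rcases hx with e | e <;> rw [e] at this
    · exact t_not_z h this
    · exact hu this

theorem cube_mem {N : Subgroup G} (hN : N.index = 2) {g : G} (hg : g * g * g = 1) : g ∈ N := by
  have h1 := mul_self_mem_of_index_two hN (g * g)
  rwa [show g * g * (g * g) = g * g * g * g by group, hg, one_mul] at h1

/-- an index two subgroup contains the image of the alternating group -/
theorem even_mem {N : Subgroup G} (hN : N.index = 2) {s : Perm (Fin 4)} (hs : Perm.sign s = 1) :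
    f (1, s) ∈ N := by
  obtain ⟨a, b, ha, hb, rfl⟩ := even_prod s hs
  rw [show ((1 : Multiplicative (ZMod 2)), a * b) = ((1, a) : A) * (1, b) from rfl, map_mul]
  refine mul_mem (cube_mem hN ?_) (cube_mem hN ?_) <;> rw [← map_mul, ← map_mul, ← map_one f] <;> congr 1
  · exact Prod.ext (by simp) (by simpa using ha)
  · exact Prod.ext (by simp) (by simpa using hb)

/-- the twisted or untwisted map puts `S₄` inside the index two subgroup -/
theorem exists_adapted (h : Hyp f t) :
    ∃ (N : Subgroup G) (f' : A →* G), Hyp f' t ∧ N.index = 2 ∧ t ∉ N ∧ ∀ s, f' (1, s) ∈ N := by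
  obtain ⟨f₁, h₁, hu⟩ : ∃ f₁ : A →* G, Hyp f₁ t ∧ ¬ IsConj t (f₁ (τ, u₀)) := by
    by_cases hu : IsConj t (f (τ, u₀))
    · refine ⟨f.comp θ, h.twist, fun hc => not_both h ⟨?_, hu⟩⟩
      rwa [MonoidHom.comp_apply, show θ (τ, u₀) = (1, u₀) by decide +kernel] at hc
    · exact ⟨f, h, hu⟩
  obtain ⟨N, hN, htN⟩ := exists_index_two h₁ hu
  have key : ∀ k : A →* G, k (1, u₀) ∈ N → ∀ s, k (1, s) ∈ N := by
    intro k hk s
    rcases even_or s with hs | hs
    · exact even_mem hN hs
    · rw [show ((1 : Multiplicative (ZMod 2)), s) = ((1, s * u₀) : A) * (1, u₀) from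
        Prod.ext (by simp) (by simp only [Prod.snd_mul]; rw [mul_assoc, show u₀ * u₀ = 1 by decide +kernel, mul_one]),
        map_mul]
      exact mul_mem (even_mem hN hs) hk
  by_cases hu1 : f₁ (1, u₀) ∈ N
  · exact ⟨N, f₁, h₁, hN, htN, key f₁ hu1⟩
  · refine ⟨N, f₁.comp θ, h₁.twist, hN, htN, key _ ?_⟩
    rw [MonoidHom.comp_apply, show θ (1, u₀) = ((τ, 1) : A) * (1, u₀) by decide +kernel, map_mul, h₁.htau,
      mul_mem_iff_of_index_two hN]
    exact iff_of_false htN hu1

variable {N : Subgroup G}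

theorem mem_N_iff (h : Hyp f t) (hN : N.index = 2) (htN : t ∉ N) (hs : ∀ s, f (1, s) ∈ N) (a : A) :
    f a ∈ N ↔ a.1 = 1 := by
  obtain ⟨x, s⟩ := a
  rcases fst_cases x with rfl | rfl
  · exact iff_of_true (hs s) rfl
  · refine iff_of_false (fun hm => htN ?_) tau_ne
    rw [← h.htau]
    have := mul_mem hm (inv_mem (hs s))
    rwa [← map_inv, ← map_mul, show ((τ, s) : A) * (1, s)⁻¹ = (τ, 1) from Prod.ext (by simp) (by simp)] at this

theorem normal_two (hN : N.index = 2) : N.Normal := normal_of_index_eq_two hN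

/-- in the adapted situation `t` is fused in the Sylow subgroup only with transposition products -/
theorem isolated (h : Hyp f t) (hN : N.index = 2) (htN : t ∉ N) (hs : ∀ s, f (1, s) ∈ N)
    (hu : ¬ IsConj t (f (τ, u₀))) (g : G) (hg : g * t * g⁻¹ ∈ sylT f) : g * t * g⁻¹ = t := by
  obtain ⟨a, ha, hae⟩ := hg
  have hnot : f a ∉ N := fun hm => htN (by
    have := (normal_two hN).conj_mem _ hm g⁻¹
    rw [hae] at this
    simpa [mul_assoc] using this)
  rw [mem_N_iff h hN htN hs] at hnot
  obtain ⟨x, s⟩ := a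
  obtain rfl : x = τ := (fst_cases x).resolve_left hnot
  have htc : IsConj t (f (τ, s)) := isConj_iff.2 ⟨g, hae.symm⟩
  have hss : s * s = 1 := by
    have h1 : ((τ, s) : A) * (τ, s) = 1 := h.inj (by
      rw [map_mul, map_one, hae]
      calc g * t * g⁻¹ * (g * t * g⁻¹) = g * (t * t) * g⁻¹ := by group
        _ = 1 := by rw [show t * t = 1 by rw [← pow_two, ← t_order h, pow_orderOf_eq_one]]; group)
    exact congrArg Prod.snd h1
  by_cases h1 : s = 1
  · rw [← hae, h1, h.htau]
  exfalso
  obtain ⟨c, hc⟩ := invol_dih s hss h1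
  have h2 := htc.trans (conj_image f (1, c) (τ, s))
  rcases hc with e | e
  · rw [show ((1, c) : A) * (τ, s) * (1, c)⁻¹ = (τ, z₀) from Prod.ext (by simp) (by simpa using e)] at h2
    exact t_not_tz h h2
  · rw [show ((1, c) : A) * (τ, s) * (1, c)⁻¹ = (τ, u₀) from Prod.ext (by simp) (by simpa using e)] at h2
    exact hu h2

/-- an isolated `t` is central -/
theorem central_of_isolated (h : Hyp f t)
    (hiso : ∀ g : G, g * t * g⁻¹ ∈ sylT f → g * t * g⁻¹ = t) : centralizer ({t} : Set G) = ⊤ := by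
  obtain ⟨P, hP⟩ := exists_sylow h
  obtain ⟨K, hK, hodd, hcom⟩ := Cfsg.Agent.S0215.result P t (t_order h)
    (by show t ∈ (P : Subgroup G); rw [hP, ← h.htau]; exact map_mem_sylT (by simp))
    (fun g hg => hiso g (by rw [← hP]; exact hg))
  have : K.Normal := hK
  -- conjugates of `z` act without fixed points on `K`
  have hfix : ∀ c : Perm (Fin 4), ∀ x ∈ K, f (1, c * z₀ * c⁻¹) * x = x * f (1, c * z₀ * c⁻¹) → x = 1 := by
    intro c x hx hcx
    set g := f (1, c) with hgdef
    have e : f (1, c * z₀ * c⁻¹) = g * zf f * g⁻¹ := by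
      rw [hgdef, zf, ← map_inv, ← map_mul, ← map_mul]
      exact congrArg f (Prod.ext (by simp) (by simp [mul_assoc]))
    rw [e] at hcx
    have hy : g⁻¹ * x * g ∈ centralizer ({zf f} : Set G) := by
      rw [mem_centralizer_singleton_iff]
      calc g⁻¹ * x * g * zf f = g⁻¹ * (x * (g * zf f * g⁻¹)) * g := by group
        _ = g⁻¹ * (g * zf f * g⁻¹ * x) * g := by rw [hcx]
        _ = zf f * (g⁻¹ * x * g) := by group
    rw [cent_z h] at hy
    have hyK : g⁻¹ * x * g ∈ K := by simpa using hK.conj_mem x hx g⁻¹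
    have hbot : (sylT f) ⊓ K = ⊥ := by
      refine inf_eq_bot_of_coprime ?_
      rw [sylT, card_map_of_injective h.inj, card_sylA]
      exact (Nat.coprime_pow_left_iff (n := 4) (by norm_num) 2 _).2 (Nat.coprime_two_left.2 hodd)
    have := mem_bot.1 (hbot ▸ mem_inf.2 ⟨hy, hyK⟩)
    calc x = g * (g⁻¹ * x * g) * g⁻¹ := by group
      _ = 1 := by rw [this]; group
  have hinv : ∀ c : Perm (Fin 4), ∀ x ∈ K,
      f (1, c * z₀ * c⁻¹) * x * (f (1, c * z₀ * c⁻¹))⁻¹ = x⁻¹ := by
    intro c x hx
    set v := f (1, c * z₀ * c⁻¹) with hv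
    let φ : K →* K := ((MulAut.conjNormal v : MulAut K) : K ≃* K).toMonoidHom
    have hfpf : MonoidHom.FixedPointFree φ := fun y hy => Subtype.ext (hfix c y y.2 (by
      have := congrArg Subtype.val hy
      simp only [φ, MulEquiv.coe_toMonoidHom, MulAut.conjNormal_apply] at this
      rw [← hv]
      calc v * (y : G) = v * (y : G) * v⁻¹ * v := by group
        _ = (y : G) * v := by rw [this]))
    have hvv : v * v = 1 := by
      rw [hv, ← map_mul, ← map_one f]
      exact congrArg f (Prod.ext (by simp) (by simp [mul_assoc, show z₀ * (z₀ * c⁻¹) = c⁻¹ by rw [← mul_assoc, show z₀ * z₀ = 1 by decide +kernel, one_mul]]))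
    have hinvol : Function.Involutive φ := fun y => Subtype.ext (by
      simp only [φ, MulEquiv.coe_toMonoidHom, MulAut.conjNormal_apply]
      calc v * (v * (y : G) * v⁻¹) * v⁻¹ = (v * v) * (y : G) * (v * v)⁻¹ := by group
        _ = y := by rw [hvv]; group)
    have := congrArg Subtype.val (congrFun (hfpf.coe_eq_inv_of_involutive hinvol) ⟨x, hx⟩)
    simpa [φ] using this
  obtain ⟨c₁, c₂, c₃, hc⟩ : ∃ c₁ c₂ c₃ : Perm (Fin 4),
      c₁ * z₀ * c₁⁻¹ * (c₂ * z₀ * c₂⁻¹) = c₃ * z₀ * c₃⁻¹ := ⟨1, swap 0 1, swap 1 2, by decide +kernel⟩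
  have hKbot : ∀ x ∈ K, x = 1 := fun x hx => by
    refine hfix c₃ x hx ?_
    have e : f (1, c₃ * z₀ * c₃⁻¹) = f (1, c₁ * z₀ * c₁⁻¹) * f (1, c₂ * z₀ * c₂⁻¹) := by
      rw [← map_mul, ← hc]
      exact congrArg f (Prod.ext (by simp) rfl)
    set v₁ := f (1, c₁ * z₀ * c₁⁻¹)
    set v₂ := f (1, c₂ * z₀ * c₂⁻¹)
    have h1 := hinv c₂ x hx
    have h2 := hinv c₁ _ (inv_mem hx)
    rw [inv_inv] at h2
    rw [e]
    calc v₁ * v₂ * x = v₁ * (v₂ * x * v₂⁻¹) * v₁⁻¹ * (v₁ * v₂) := by group
      _ = x * (v₁ * v₂) := by rw [h1, h2]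
  refine eq_top_iff.2 fun g _ => mem_centralizer_singleton_iff.2 ?_
  have := hKbot _ (hcom g)
  calc g * t = t * g * t⁻¹ * g⁻¹ * (g * t) := by rw [this, one_mul]
    _ = t * g := by group

end Cfsg.Lib.TwoSymFour
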