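import Mathlib
import Cfsg.Agent.LocalThree.TwoSymFourBase
import Cfsg.Agent.InvolCalc.DihedralEightCentralizer
import Cfsg.Agent.SolvStruct.AltAut

/-!
An involution with centralizer `2 × S₄` and self-centralizing derived Sylow subgroups: either it
is central or the group is `S₆`.
-/

set_option autoImplicit false
set_option linter.unusedSectionVars false

namespace Cfsg.Lib.TwoSymFour

open Subgroup Equiv

/-! ### Automorphisms of `A₆` fixing an element of order three -/

/-- a product of two three-cycles -/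
def x₆ : Perm (Fin 6) := swap 0 1 * swap 1 2 * (swap 3 4 * swap 4 5)

/-- an odd permutation commuting with it -/
def w₆ : Perm (Fin 6) := swap 0 3 * swap 1 4 * swap 2 5

theorem double_conj {x y : alternatingGroup (Fin 6)} (hx : orderOf x = 3) (hy : orderOf y = 3)
    (hx1 : ¬ (x : Perm (Fin 6)).IsThreeCycle) (hy1 : ¬ (y : Perm (Fin 6)).IsThreeCycle) :
    IsConj x y := by
  classical
  have hw : w₆ * x₆ * w₆⁻¹ = x₆ := by decide +kernel
  have hsw : Perm.sign w₆ = -1 := by decide +kernel
  have htype : ∀ v : alternatingGroup (Fin 6), orderOf v = 3 → ¬ (v : Perm (Fin 6)).IsThreeCycle →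
      (v : Perm (Fin 6)).cycleType = Multiset.replicate 2 3 := by
    intro v hv hv1
    have ho : orderOf (v : Perm (Fin 6)) = 3 := by rw [Subgroup.orderOf_coe, hv]
    obtain ⟨n, hn⟩ := Perm.cycleType_prime_order (σ := (v : Perm (Fin 6))) (by rw [ho]; norm_num)
    rw [ho] at hn
    have h1 := Perm.sum_cycleType (v : Perm (Fin 6))
    have h2 := Finset.card_le_univ (v : Perm (Fin 6)).support
    rw [hn, Multiset.sum_replicate, smul_eq_mul] at h1
    rw [Fintype.card_fin] at h2
    rcases Nat.eq_zero_or_pos n with rfl | hn0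
    · exact absurd hn hv1
    · rw [hn, show n + 1 = 2 by omega]
  have hx₀t : x₆.cycleType = Multiset.replicate 2 3 := by
    have h := htype ⟨x₆, Perm.mem_alternatingGroup.2 (by decide +kernel)⟩
      (orderOf_eq_prime (p := 3) (Subtype.ext (by rw [SubmonoidClass.coe_pow]; decide +kernel))
        (fun e => absurd (congrArg Subtype.val e) (by decide +kernel))) ?_
    · exact h
    · intro h3
      have := h3.card_support
      exact absurd this (by decide +kernel)
  have key : ∀ v : alternatingGroup (Fin 6), orderOf v = 3 → ¬ (v : Perm (Fin 6)).IsThreeCycle →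
      ∀ ε : ℤˣ, ∃ h : Perm (Fin 6), Perm.sign h = ε ∧ h * x₆ * h⁻¹ = v := by
    intro v hv hv1 ε
    obtain ⟨h, hh⟩ := isConj_iff.1 (Perm.isConj_iff_cycleType_eq.2 (hx₀t.trans (htype v hv hv1).symm))
    by_cases e : Perm.sign h = ε
    · exact ⟨h, e, hh⟩
    · refine ⟨h * w₆, ?_, ?_⟩
      · rw [map_mul, hsw]
        rcases Int.units_eq_one_or (Perm.sign h) with e1 | e1 <;>
          rcases Int.units_eq_one_or ε with e2 | e2 <;> simp_all
      · calc h * w₆ * x₆ * (h * w₆)⁻¹ = h * (w₆ * x₆ * w₆⁻¹) * h⁻¹ := by group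
          _ = v := by rw [hw, hh]
  obtain ⟨a, ha, hax⟩ := key x hx hx1 1
  obtain ⟨b, hb, hby⟩ := key y hy hy1 1
  refine isConj_iff.2 ⟨⟨b, Perm.mem_alternatingGroup.2 hb⟩ * ⟨a, Perm.mem_alternatingGroup.2 ha⟩⁻¹, Subtype.ext ?_⟩
  simp only [Subgroup.coe_mul, Subgroup.coe_inv]
  rw [← hax, ← hby]
  group

theorem three_of_conj {x y : alternatingGroup (Fin 6)} (h : IsConj x y)
    (hx : (x : Perm (Fin 6)).IsThreeCycle) : (y : Perm (Fin 6)).IsThreeCycle := by
  obtain ⟨c, rfl⟩ := isConj_iff.1 h
  simp only [Subgroup.coe_mul, Subgroup.coe_inv]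
  rw [Perm.IsThreeCycle, Perm.cycleType_conj]
  exact hx

/-- an automorphism fixing an element of order three preserves three-cycles -/
theorem preserves_three (α : MulAut (alternatingGroup (Fin 6))) {y : alternatingGroup (Fin 6)}
    (hy : orderOf y = 3) (hfix : α y = y) (x : alternatingGroup (Fin 6))
    (hx : (x : Perm (Fin 6)).IsThreeCycle) : (α x : Perm (Fin 6)).IsThreeCycle := by
  have hxo : orderOf x = 3 := by rw [← Subgroup.orderOf_coe]; exact hx.orderOf
  by_cases hy1 : (y : Perm (Fin 6)).IsThreeCycle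
  · have h := alternatingGroup.isThreeCycle_isConj (by simp) hy1 hx
    have h' : IsConj y (α x) := by
      have := α.toMonoidHom.map_isConj h
      rwa [MulEquiv.coe_toMonoidHom, hfix] at this
    exact three_of_conj h' hy1
  · by_contra hax
    have h := double_conj (x := y) (y := α x) hy (by rw [MulEquiv.orderOf_eq, hxo]) hy1 hax
    have h' : IsConj y x := by
      have := α.symm.toMonoidHom.map_isConj h
      rwa [MulEquiv.coe_toMonoidHom, MulEquiv.symm_apply_apply,
        show α.symm y = y from α.injective (by rw [MulEquiv.apply_symm_apply, hfix])] at this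
    exact hy1 (three_of_conj h'.symm hx)

/-! ### The dichotomy -/

variable {G : Type*} [Group G] [Finite G] {t : G} {f : A →* G} {N : Subgroup G}

theorem card_G (h : Hyp f t) : ∃ o, Odd o ∧ Nat.card G = 16 * o := by
  have : Fact (Nat.Prime 2) := ⟨Nat.prime_two⟩
  obtain ⟨P, -⟩ := exists_sylow h
  refine ⟨(P : Subgroup G).index, ?_, ?_⟩
  · rw [← Nat.not_even_iff_odd, even_iff_two_dvd]
    exact P.not_dvd_index
  · rw [← (P : Subgroup G).card_mul_index, h.card16 P]

theorem card_C (h : Hyp f t) : Nat.card (centralizer ({t} : Set G)) = 48 := by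
  rw [← h.range, ← Nat.card_congr (MonoidHom.ofInjective h.inj).toEquiv, card_A]

/-- the complement inside `N` -/
def inner (f : A →* G) (hs : ∀ s, f (1, s) ∈ N) : Perm (Fin 4) →* N :=
  (f.comp (MonoidHom.inr _ _)).codRestrict N hs

theorem inner_inj (h : Hyp f t) (hs : ∀ s, f (1, s) ∈ N) : Function.Injective (inner f hs) :=
  fun a b e => congrArg Prod.snd (h.inj (congrArg Subtype.val e))

theorem inner_even {hs : ∀ s, f (1, s) ∈ N} {M : Subgroup N} (hM : M.index = 2) {s : Perm (Fin 4)}
    (hsg : Perm.sign s = 1) : inner f hs s ∈ M := by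
  obtain ⟨a, b, ha, hb, rfl⟩ := even_prod s hsg
  rw [map_mul]
  refine mul_mem (cube_mem hM ?_) (cube_mem hM ?_) <;> rw [← map_mul, ← map_mul]
  · rw [ha, map_one]
  · rw [hb, map_one]

/-- if `N` has a subgroup of index two then `t` is central -/
theorem central_of_index_two (h : Hyp f t) (hN : N.index = 2) (htN : t ∉ N) (hs : ∀ s, f (1, s) ∈ N)
    {M : Subgroup N} (hM : M.index = 2) : centralizer ({t} : Set G) = ⊤ := by
  classical
  refine central_of_isolated h (isolated h hN htN hs ?_)
  obtain ⟨o, ho, hGo⟩ := card_G h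
  have hcN : Nat.card N * 2 = 16 * o := by rw [← hN, N.card_mul_index, hGo]
  have hcM : Nat.card M * 2 = Nat.card N := by rw [← hM, M.card_mul_index]
  have hu : inner f hs u₀ ∉ M := by
    intro hum
    have hall : ∀ s, inner f hs s ∈ M := fun s => by
      rcases even_or s with e | e
      · exact inner_even hM e
      · rw [show s = s * u₀ * u₀ by rw [mul_assoc, show u₀ * u₀ = 1 by decide +kernel, mul_one], map_mul]
        exact mul_mem (inner_even hM e) hum
    have hd : Nat.card (Perm (Fin 4)) ∣ Nat.card M := by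
      let φ : Perm (Fin 4) →* M := (inner f hs).codRestrict M hall
      exact Subgroup.card_dvd_of_injective φ fun a b e => inner_inj h hs (congrArg Subtype.val e)
    rw [Nat.card_perm, Nat.card_fin] at hd
    obtain ⟨k, hk⟩ := hd
    rw [hk, show Nat.factorial 4 = 24 from rfl] at hcM
    obtain ⟨i, rfl⟩ := ho
    omega
  have hNn := normal_two hN
  set φt : MulAut N := MulAut.conjNormal t with hφt
  have hMt : M.map φt.toMonoidHom = M := by
    set M' := M.map φt.toMonoidHom with hM'
    have hM'i : M'.index = 2 := by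
      rw [hM', index_map_of_injective (f := φt.toMonoidHom) M φt.injective,
        show φt.toMonoidHom.range = ⊤ from MonoidHom.range_eq_top.2 φt.surjective, index_top, mul_one, hM]
    have := normal_of_index_eq_two hM'i
    by_contra hne
    have h1 := relIndex_dvd_index_of_normal M' M
    rw [hM'i] at h1
    rcases (Nat.dvd_prime Nat.prime_two).1 h1 with e | e
    · refine hne (eq_of_le_of_card_ge (relIndex_eq_one.1 e) ?_).symm
      rw [hM', card_map_of_injective (f := φt.toMonoidHom) φt.injective]
    · have h4 : (M ⊓ M').index = 4 := by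
        rw [← relIndex_mul_index (inf_le_left : M ⊓ M' ≤ M), inf_relIndex_left, e, hM]
      have hd : Nat.card (alternatingGroup (Fin 4)) ∣ Nat.card (M ⊓ M' : Subgroup N) := by
        let φ : alternatingGroup (Fin 4) →* (M ⊓ M' : Subgroup N) :=
          ((inner f hs).comp (alternatingGroup (Fin 4)).subtype).codRestrict _ fun s =>
            mem_inf.2 ⟨inner_even hM (Perm.mem_alternatingGroup.1 s.2), inner_even hM'i (Perm.mem_alternatingGroup.1 s.2)⟩
        exact Subgroup.card_dvd_of_injective φ fun a b e => Subtype.ext (inner_inj h hs (congrArg Subtype.val e))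
      have hA4 : Nat.card (alternatingGroup (Fin 4)) = 12 := by
        rw [nat_card_alternatingGroup, Nat.card_fin]; rfl
      rw [hA4] at hd
      obtain ⟨k, hk⟩ := hd
      have h5 := (M ⊓ M').card_mul_index
      rw [hk, h4] at h5
      obtain ⟨i, rfl⟩ := ho
      omega
  intro hc
  obtain ⟨g, hg⟩ := isConj_iff.1 hc
  -- write `g` as an element of `M` times an element commuting with `t`
  obtain ⟨m, hm⟩ : ∃ m : M, (((m : N) : G)) * t * (((m : N) : G))⁻¹ = f (τ, u₀) := by
    have hn : ∃ n : N, (n : G) * t * (n : G)⁻¹ = f (τ, u₀) := by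
      by_cases hgN : g ∈ N
      · exact ⟨⟨g, hgN⟩, hg⟩
      · refine ⟨⟨g * t, (mul_mem_iff_of_index_two hN).2 (iff_of_false hgN htN)⟩, ?_⟩
        rw [← hg]
        group
    obtain ⟨n, hn⟩ := hn
    by_cases hnM : n ∈ M
    · exact ⟨⟨n, hnM⟩, hn⟩
    · refine ⟨⟨n * inner f hs u₀, (mul_mem_iff_of_index_two hM).2 (iff_of_false hnM hu)⟩, ?_⟩
      rw [← hn]
      have hcu : f (1, u₀) * t = t * f (1, u₀) := by
        rw [← h.htau, ← map_mul, ← map_mul]
        exact congrArg f (Prod.ext (mul_comm _ _) (by simp))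
      show (n : G) * f (1, u₀) * t * ((n : G) * f (1, u₀))⁻¹ = _
      calc (n : G) * f (1, u₀) * t * ((n : G) * f (1, u₀))⁻¹
          = (n : G) * (f (1, u₀) * t) * (f (1, u₀))⁻¹ * (n : G)⁻¹ := by group
        _ = (n : G) * t * (n : G)⁻¹ := by rw [hcu]; group
  have hmt : φt (m : N) ∈ M := hMt.le (mem_map_of_mem φt.toMonoidHom m.2)
  refine hu ?_
  have e : inner f hs u₀ = (φt (m : N))⁻¹⁻¹ * ((m : N))⁻¹ := by
    refine Subtype.ext ?_
    rw [inv_inv, Subgroup.coe_mul, hφt, MulAut.conjNormal_apply, Subgroup.coe_inv]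
    show f (1, u₀) = _
    have e2 : f (τ, u₀) = t * f (1, u₀) := by
      rw [← h.htau, ← map_mul]
      exact congrArg f (Prod.ext (by simp) (by simp))
    have ht2 : t * t = 1 := by rw [← pow_two, ← t_order h, pow_orderOf_eq_one]
    have ht' : t⁻¹ = t := inv_eq_of_mul_eq_one_left ht2
    calc f (1, u₀) = t * (t * f (1, u₀)) := by rw [← mul_assoc, ht2, one_mul]
      _ = t * (((m : N) : G) * t * (((m : N) : G))⁻¹) := by rw [← e2, hm]
      _ = t * ((m : N) : G) * t⁻¹ * (((m : N) : G))⁻¹ := by rw [ht']; group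
  rw [e, inv_inv]
  exact mul_mem hmt (inv_mem m.2)

theorem setup (h : Hyp f t) (hN : N.index = 2) (htN : t ∉ N) (hs : ∀ s, f (1, s) ∈ N)
    (hidx : ∀ M : Subgroup N, M.index ≠ 2) :
    Cfsg.Lib.DihedralCent.Setup (inner f hs z₀) (inner f hs r₀) (inner f hs u₀) := by
  have : Fact (Nat.Prime 2) := ⟨Nat.prime_two⟩
  have hC8 : centralizer ({inner f hs z₀} : Set N) = (dihA.map f).subgroupOf N := by
    ext n
    rw [mem_centralizer_singleton_iff, mem_subgroupOf]
    constructor
    · intro hn
      have h1 : (n : G) ∈ centralizer ({zf f} : Set G) :=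
        mem_centralizer_singleton_iff.2 (congrArg Subtype.val hn)
      rw [cent_z h] at h1
      obtain ⟨a, ha, hae⟩ := h1
      refine ⟨a, mem_dihA.2 ⟨(mem_N_iff h hN htN hs a).1 (hae ▸ n.2), mem_sylA.1 ha⟩, hae⟩
    · rintro ⟨a, ha, hae⟩
      refine Subtype.ext ?_
      show (n : G) * f (1, z₀) = f (1, z₀) * (n : G)
      rw [← hae, ← map_mul, ← map_mul]
      exact congrArg f (Prod.ext (by simp [mul_comm]) (mem_dihA.1 ha).2)
  have hle : dihA.map f ≤ N := by
    rintro _ ⟨a, ha, rfl⟩
    exact (mem_N_iff h hN htN hs a).2 (mem_dihA.1 ha).1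
  have h8 : Nat.card (centralizer ({inner f hs z₀} : Set N)) = 8 := by
    rw [hC8, Nat.card_congr (subgroupOfEquivOfLe hle).toEquiv, card_map_of_injective h.inj, card_dihA]
  refine ⟨hidx, ?_, h8, ?_, ?_, ?_, ?_, ?_⟩
  · rw [orderOf_injective _ (inner_inj h hs)]
    exact orderOf_eq_prime (by decide +kernel) (by decide +kernel)
  · obtain ⟨o, ho, hGo⟩ := card_G h
    have hcN : Nat.card N = 8 * o := by
      have := N.card_mul_index
      rw [hN, hGo] at this
      omega
    obtain ⟨S, hS⟩ := (IsPGroup.of_card (p := 2) (n := 3) (by rw [h8]; norm_num) :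
      IsPGroup 2 (centralizer ({inner f hs z₀} : Set N))).exists_le_sylow
    refine ⟨S, (eq_of_le_of_card_ge hS ?_).symm⟩
    obtain ⟨k, hk⟩ := S.isPGroup'.exists_card_eq
    have hd := card_subgroup_dvd_card (S : Subgroup N)
    rw [hk, hcN] at hd
    have h2 : 2 ^ k ∣ 8 :=
      ((Nat.coprime_two_left.2 ho).pow_left k).dvd_of_dvd_mul_right hd
    rw [hk, h8]
    exact Nat.le_of_dvd (by norm_num) h2
  · rw [← map_mul]; rfl
  · rw [orderOf_injective _ (inner_inj h hs)]
    exact orderOf_eq_prime (by decide +kernel) (by decide +kernel)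
  · rw [← map_mul, ← map_mul]; exact congrArg _ comm_u_z
  · rw [← map_inv, ← map_mul, ← map_mul]; exact congrArg _ (by decide +kernel)

/-- without such subgroups the normal subgroup has order 360 -/
theorem card_N (h : Hyp f t) (hN : N.index = 2) (htN : t ∉ N) (hs : ∀ s, f (1, s) ∈ N)
    (hidx : ∀ M : Subgroup N, M.index ≠ 2) : Nat.card N = 360 := by
  classical
  have hGN : Nat.card G = Nat.card N * 2 := by rw [← hN, N.card_mul_index]
  rcases Cfsg.Lib.DihedralCent.order_cases (setup h hN htN hs hidx) with e | e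
  swap
  · exact e
  exfalso
  have hidx7 : (centralizer ({t} : Set G)).index = 7 := by
    have := (centralizer ({t} : Set G)).card_mul_index
    rw [card_C h, hGN, e] at this
    omega
  by_cases hu : IsConj t (f (τ, u₀))
  swap
  · have htop := central_of_isolated h (isolated h hN htN hs hu)
    rw [htop, index_top] at hidx7
    omega
  -- seven conjugates inside the centralizer and one outside
  let S : Finset A := {(τ, 1), (τ, swap 0 1), (τ, swap 0 2), (τ, swap 0 3), (τ, swap 1 2), (τ, swap 1 3),
    (τ, swap 2 3)}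
  have hS7 : S.card = 7 := by decide +kernel
  have hconj : ∀ a ∈ S, IsConj t (f a) := by
    intro a ha
    have ha' : a = (τ, 1) ∨ ∃ s : Perm (Fin 4), (∃ c : Perm (Fin 4), c * s * c⁻¹ = u₀) ∧ a = (τ, s) := by
      simp only [S, Finset.mem_insert, Finset.mem_singleton] at ha
      rcases ha with e | e | e | e | e | e | e <;>
        first
          | exact Or.inl e
          | exact Or.inr ⟨_, transp_classes _ (by simp), e⟩
    rcases ha' with rfl | ⟨s, ⟨c, hc⟩, rfl⟩
    · rw [h.htau]
    · refine hu.trans (IsConj.symm ?_)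
      have := conj_image f (1, c) (τ, s)
      rwa [show ((1, c) : A) * (τ, s) * (1, c)⁻¹ = (τ, u₀) from Prod.ext (by simp) (by simpa using hc)] at this
  obtain ⟨g, hg⟩ := isConj_iff.1 (hconj (τ, swap 0 1) (by simp [S]))
  set y := g⁻¹ * f (τ, swap 0 2) * g with hy
  have hyt : IsConj t y := (hconj (τ, swap 0 2) (by simp [S])).trans (isConj_iff.2 ⟨g⁻¹, by rw [hy, inv_inv]⟩)
  have hyC : y ∉ centralizer ({t} : Set G) := by
    intro hc
    rw [mem_centralizer_singleton_iff] at hc
    have e : f (τ, swap 0 2) * f (τ, swap 0 1) = f (τ, swap 0 1) * f (τ, swap 0 2) := by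
      calc f (τ, swap 0 2) * f (τ, swap 0 1) = g * (y * t) * g⁻¹ := by rw [hy, ← hg]; group
        _ = g * (t * y) * g⁻¹ := by rw [hc]
        _ = f (τ, swap 0 1) * f (τ, swap 0 2) := by rw [hy, ← hg]; group
    rw [← map_mul, ← map_mul] at e
    exact absurd (h.inj e) (by decide +kernel)
  have hynot : y ∉ S.image f := fun hm => by
    obtain ⟨a, -, hae⟩ := Finset.mem_image.1 hm
    exact hyC (h.range ▸ ⟨a, hae⟩)
  set K := insert y (S.image f) with hK
  have hK8 : K.card = 8 := by
    rw [hK, Finset.card_insert_of_notMem hynot, Finset.card_image_of_injective _ h.inj, hS7]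
  have hKc : ∀ x ∈ K, IsConj t x := by
    intro x hx
    rcases Finset.mem_insert.1 hx with rfl | hx
    · exact hyt
    · obtain ⟨a, ha, rfl⟩ := Finset.mem_image.1 hx
      exact hconj a ha
  choose c hc using fun x : K => isConj_iff.1 (hKc x.1 x.2)
  have hinj : Function.Injective fun x : K => (QuotientGroup.mk (c x) : G ⧸ centralizer ({t} : Set G)) := by
    intro a b e
    have := mem_centralizer_singleton_iff.1 (QuotientGroup.eq.1 e)
    refine Subtype.ext ?_
    rw [← hc a, ← hc b]
    calc c a * t * (c a)⁻¹ = c a * (t * ((c a)⁻¹ * c b)) * (c b)⁻¹ := by group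
      _ = c a * ((c a)⁻¹ * c b * t) * (c b)⁻¹ := by rw [this]
      _ = _ := by group
  have h8 := Nat.card_le_card_of_injective _ hinj
  rw [Nat.card_eq_fintype_card, Fintype.card_coe, hK8, ← index_eq_card, hidx7] at h8
  omega

theorem sym_six (h : Hyp f t) (hN : N.index = 2) (htN : t ∉ N) (hs : ∀ s, f (1, s) ∈ N)
    (hidx : ∀ M : Subgroup N, M.index ≠ 2) : Nonempty (G ≃* Perm (Fin 6)) := by
  classical
  have hst := setup h hN htN hs hidx
  have := Cfsg.Lib.DihedralCent.simple hst
  have h360 := card_N h hN htN hs hidx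
  obtain ⟨φ⟩ := Cfsg.Agent.S0497.result h360
  have := normal_two hN
  let Ψ : G →* MulAut (alternatingGroup (Fin 6)) := (MulAut.congr φ).toMonoidHom.comp MulAut.conjNormal
  have hΨ : ∀ (g : G) (n : N), Ψ g (φ n) = φ (MulAut.conjNormal g n) := fun g n => by
    show φ (MulAut.conjNormal g (φ.symm (φ n))) = _
    rw [MulEquiv.symm_apply_apply]
  have hinj : Function.Injective Ψ := by
    refine (injective_iff_map_eq_one _).2 fun g hg => ?_
    have hc : ∀ n : N, g * (n : G) = (n : G) * g := fun n => by
      have := hΨ g n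
      rw [hg, MulAut.one_apply] at this
      have := congrArg Subtype.val (φ.injective this)
      rw [MulAut.conjNormal_apply] at this
      calc g * (n : G) = g * (n : G) * g⁻¹ * g := by group
        _ = (n : G) * g := by rw [← this]
    have hgT : g ∈ centralizer ({zf f} : Set G) :=
      mem_centralizer_singleton_iff.2 (hc (inner f hs z₀))
    rw [cent_z h] at hgT
    obtain ⟨a, -, rfl⟩ := hgT
    have ha : ∀ b : A, a * b = b * a := by
      rintro ⟨x, s⟩
      have e := hc (inner f hs s)
      change f a * f (1, s) = f (1, s) * f a at e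
      rw [← map_mul, ← map_mul] at e
      have e' := congrArg Prod.snd (h.inj e)
      exact Prod.ext (mul_comm _ _) (by simpa using e')
    rcases center_A a ha with rfl | rfl
    · exact map_one f
    · exfalso
      have hle : N ≤ centralizer ({t} : Set G) := fun n hn => by
        have := hc ⟨n, hn⟩
        rw [h.htau] at this
        exact mem_centralizer_singleton_iff.2 this.symm
      have h1 := card_le_of_le hle
      rw [h360, card_C h] at h1
      omega
  have hrange : ∀ g : G, Ψ g ∈ (MulAut.conjNormal : Perm (Fin 6) →* MulAut (alternatingGroup (Fin 6))).range := by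
    have hn : ∀ n : N, Ψ (n : G) ∈ (MulAut.conjNormal : Perm (Fin 6) →* MulAut (alternatingGroup (Fin 6))).range := by
      refine fun n => ⟨(φ n : Perm (Fin 6)), MulEquiv.ext fun x => ?_⟩
      obtain ⟨m, rfl⟩ := φ.surjective x
      rw [hΨ]
      refine Subtype.ext ?_
      rw [MulAut.conjNormal_apply, show MulAut.conjNormal (n : G) m = n * m * n⁻¹ from
        Subtype.ext (by rw [MulAut.conjNormal_apply]; rfl), map_mul, map_mul, map_inv]
      rfl
    have ht : Ψ t ∈ (MulAut.conjNormal : Perm (Fin 6) →* MulAut (alternatingGroup (Fin 6))).range := by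
      refine Cfsg.Lib.SolvStruct.AltAut.exists_conjNormal_eq (by norm_num) _ ?_
      refine preserves_three (Ψ t) (y := φ (inner f hs (swap 0 1 * swap 1 2))) ?_ ?_
      · rw [MulEquiv.orderOf_eq, orderOf_injective _ (inner_inj h hs)]
        exact orderOf_eq_prime (by decide +kernel) (by decide +kernel)
      · rw [hΨ]
        refine congrArg φ (Subtype.ext ?_)
        rw [MulAut.conjNormal_apply]
        show t * f (1, swap 0 1 * swap 1 2) * t⁻¹ = f (1, swap 0 1 * swap 1 2)
        rw [← h.htau, ← map_inv, ← map_mul, ← map_mul]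
        exact congrArg f (Prod.ext (by simp) (by simp))
    intro g
    by_cases hg : g ∈ N
    · exact hn ⟨g, hg⟩
    · have hgt : g * t ∈ N := (mul_mem_iff_of_index_two hN).2 (iff_of_false hg htN)
      have h2 : t * t = 1 := by rw [← pow_two, ← t_order h, pow_orderOf_eq_one]
      rw [show g = g * t * t by rw [mul_assoc, h2, mul_one], map_mul]
      exact mul_mem (hn ⟨_, hgt⟩) ht
  have hci := Cfsg.Lib.SolvStruct.AltAut.conjNormal_injective (n := 6) (by norm_num)
  let e := MonoidHom.ofInjective hci
  let F : G →* Perm (Fin 6) := e.symm.toMonoidHom.comp (Ψ.codRestrict _ hrange)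
  have hFinj : Function.Injective F :=
    e.symm.injective.comp fun a b hab => hinj (congrArg Subtype.val hab)
  have hGc : Nat.card G = Nat.card (Perm (Fin 6)) := by
    rw [← N.card_mul_index, hN, h360, Nat.card_perm, Nat.card_fin]; rfl
  exact ⟨MulEquiv.ofBijective F (hFinj.bijective_of_nat_card_le hGc.ge)⟩

theorem main (h : Hyp f t) : centralizer ({t} : Set G) = ⊤ ∨
    (Nonempty (G ≃* Perm (Fin 6)) ∧ ¬ Group.IsSolvable G) := by
  obtain ⟨N, f', h', hN, htN, hs⟩ := exists_adapted h
  by_cases hM : ∃ M : Subgroup N, M.index = 2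
  · obtain ⟨M, hM⟩ := hM
    exact Or.inl (central_of_index_two h' hN htN hs hM)
  · push Not at hM
    refine Or.inr ?_
    obtain ⟨e⟩ := sym_six h' hN htN hs hM
    refine ⟨⟨e⟩, fun hsol => Equiv.Perm.not_isSolvable (Fin 6) (by rw [Cardinal.mk_fintype, Fintype.card_fin]; norm_num) ?_⟩
    exact Group.isSolvable_of_surjective (f := e.toMonoidHom) e.surjective

end Cfsg.Lib.TwoSymFour
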