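import Mathlib

/-!
# Counting involutions that move a point

A class of involutions, each fixing exactly one coset of `N`: the involutions of the class
outside `N` are spread over `|G : N| - 1` cosets, so one coset receives at least as many as
there are in `N`, and two of them differ by an element of `N` inverted by both.
-/

namespace Cfsg.Lib.SwapCount

open MulAction

variable {G : Type*} [Group G] [Finite G]

theorem exists_inverted (N : Subgroup G) {i : G} (hi : i * i = 1) (hiN : i ∈ N)
    (huniq : ∀ g : G, g⁻¹ * i * g ∈ N → g ∈ N) (hne : N ≠ ⊤) :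
    ∃ x : G, IsConj i x ∧ x ∉ N ∧
      {u : G | IsConj i u ∧ u ∈ N}.ncard ≤
        {d : G | d ∈ N ∧ x * d * x = d⁻¹ ∧ IsConj i (x * d)}.ncard := by
  classical
  have := Fintype.ofFinite G
  have := Fintype.ofFinite (G ⧸ N)
  have hsq : ∀ x : G, IsConj i x → x * x = 1 := by
    intro x hx
    obtain ⟨c, rfl⟩ := isConj_iff.1 hx
    calc c * i * c⁻¹ * (c * i * c⁻¹) = c * (i * i) * c⁻¹ := by group
      _ = 1 := by rw [hi]; group
  have hex : ∀ x : G, IsConj i x → ∃ p : G ⧸ N, x • p = p ∧ ∀ q : G ⧸ N, x • q = q → q = p := by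
    intro x hx
    obtain ⟨c, rfl⟩ := isConj_iff.1 hx
    refine ⟨((c : G) : G ⧸ N), ?_, ?_⟩
    · rw [MulAction.Quotient.smul_coe, QuotientGroup.eq, smul_eq_mul,
        show (c * i * c⁻¹ * c)⁻¹ * c = i⁻¹ by group]
      exact inv_mem hiN
    · intro q hq
      induction q using QuotientGroup.induction_on with
      | _ g =>
        rw [MulAction.Quotient.smul_coe, QuotientGroup.eq, smul_eq_mul] at hq
        rw [QuotientGroup.eq]
        have h : c⁻¹ * g ∈ N := by
          apply huniq
          have h2 := inv_mem hq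
          rwa [show ((c * i * c⁻¹ * g)⁻¹ * g)⁻¹ = (c⁻¹ * g)⁻¹ * i * (c⁻¹ * g) by group] at h2
        rw [show g⁻¹ * c = (c⁻¹ * g)⁻¹ by group]
        exact inv_mem h
  choose f hf hf' using hex
  let base : G ⧸ N := ((1 : G) : G ⧸ N)
  have hbase : ∀ x : G, x • base = base ↔ x ∈ N := by
    intro x
    rw [MulAction.Quotient.smul_coe, QuotientGroup.eq, smul_eq_mul, mul_one, mul_one]
    exact inv_mem_iff
  let C : Finset G := Finset.univ.filter fun x => IsConj i x
  let U : Finset G := C.filter fun x => x ∈ N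
  have hfib : ∀ p : G ⧸ N, (C.filter fun x => x • p = p).card = U.card := by
    intro p
    induction p using QuotientGroup.induction_on with
    | _ g =>
      refine Finset.card_bij' (fun x _ => g⁻¹ * x * g) (fun u _ => g * u * g⁻¹) ?_ ?_ ?_ ?_
      · intro x hx
        simp only [U, C, Finset.mem_filter, Finset.mem_univ, true_and] at hx ⊢
        refine ⟨hx.1.trans (isConj_iff.2 ⟨g⁻¹, by group⟩), ?_⟩
        have h := hx.2
        rw [MulAction.Quotient.smul_coe, QuotientGroup.eq, smul_eq_mul] at h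
        have h2 := inv_mem h
        rwa [show ((x * g)⁻¹ * g)⁻¹ = g⁻¹ * x * g by group] at h2
      · intro u hu
        simp only [U, C, Finset.mem_filter, Finset.mem_univ, true_and] at hu ⊢
        refine ⟨hu.1.trans (isConj_iff.2 ⟨g, by group⟩), ?_⟩
        rw [MulAction.Quotient.smul_coe, QuotientGroup.eq, smul_eq_mul,
          show (g * u * g⁻¹ * g)⁻¹ * g = u⁻¹ by group]
        exact inv_mem hu.2
      · intro x _; group
      · intro u _; group
  have hC : C.card = Fintype.card (G ⧸ N) * U.card := by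
    let F : G → G ⧸ N := fun x => if h : IsConj i x then f x h else base
    rw [Finset.card_eq_sum_card_fiberwise (f := F) (t := Finset.univ) (fun x _ => Finset.mem_univ _),
      ← Finset.card_univ, Finset.sum_const_nat]
    intro p _
    rw [← hfib p]
    congr 1
    apply Finset.filter_congr
    intro x hx
    have hx' : IsConj i x := (Finset.mem_filter.1 hx).2
    simp only [F, dif_pos hx']
    exact ⟨fun h => h ▸ hf x hx', fun h => (hf' x hx' p h).symm⟩
  have hU0 : i ∈ U := Finset.mem_filter.2 ⟨Finset.mem_filter.2 ⟨Finset.mem_univ _, IsConj.refl i⟩, hiN⟩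
  have hn : 2 ≤ Fintype.card (G ⧸ N) := by
    rw [← Nat.card_eq_fintype_card, ← Subgroup.index_eq_card]
    have h1 : N.index ≠ 1 := fun h => hne (Subgroup.index_eq_one.1 h)
    have h0 : N.index ≠ 0 := Subgroup.index_ne_zero_of_finite
    omega
  let M : Finset G := C.filter fun x => x ∉ N
  have hM : M.card + U.card = C.card := by
    rw [add_comm]
    exact Finset.card_filter_add_card_filter_not _
  obtain ⟨q, hq, hle⟩ := Finset.exists_le_card_fiber_of_mul_le_card_of_maps_to
    (s := M) (t := Finset.univ.erase base) (f := fun x => x • base) (n := U.card)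
    (fun x hx => Finset.mem_erase.2 ⟨fun h => (Finset.mem_filter.1 hx).2 ((hbase x).1 h),
      Finset.mem_univ _⟩)
    (by
      rw [Finset.erase_nonempty (Finset.mem_univ _)]
      exact Finset.one_lt_card_iff_nontrivial.1 (by rw [Finset.card_univ]; omega))
    (by
      rw [Finset.card_erase_of_mem (Finset.mem_univ _), Finset.card_univ, Nat.sub_mul, one_mul]
      omega)
  obtain ⟨x, hx⟩ := Finset.card_pos.1 (lt_of_lt_of_le (Finset.card_pos.2 ⟨i, hU0⟩) hle)
  simp only [M, C, Finset.mem_filter, Finset.mem_univ, true_and] at hx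
  obtain ⟨⟨hxc, hxN⟩, hxq⟩ := hx
  refine ⟨x, hxc, hxN, ?_⟩
  have hsetU : {u : G | IsConj i u ∧ u ∈ N} = ↑U := by ext u; simp [U, C]
  rw [hsetU, Set.ncard_coe_finset]
  refine hle.trans ?_
  rw [← Set.ncard_coe_finset]
  refine Set.ncard_le_ncard_of_injOn (fun y => x * y) ?_ (mul_right_injective x).injOn
    (Set.toFinite _)
  intro y hy
  simp only [M, C, Finset.coe_filter, Finset.mem_filter, Finset.mem_univ, true_and,
    Set.mem_ofPred_eq] at hy
  obtain ⟨⟨hyc, -⟩, hyq⟩ := hy
  have hmem : x * y ∈ N := by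
    apply (hbase _).1
    rw [mul_smul, hyq, ← hxq, ← mul_smul, hsq x hxc, one_smul]
  have hxy : x * (x * y) = y := by rw [← mul_assoc, hsq x hxc, one_mul]
  refine ⟨hmem, ?_, by rwa [hxy]⟩
  rw [← mul_assoc x x y, hsq x hxc, one_mul, mul_inv_rev,
    inv_eq_of_mul_eq_one_right (hsq x hxc), inv_eq_of_mul_eq_one_right (hsq y hyc)]

theorem eq_top (N : Subgroup G) {i : G} (hi : i * i = 1) (hiN : i ∈ N)
    (huniq : ∀ g : G, g⁻¹ * i * g ∈ N → g ∈ N)
    (hsmall : ∀ x : G, IsConj i x → x ∉ N →
      {d : G | d ∈ N ∧ x * d * x = d⁻¹ ∧ IsConj i (x * d)}.ncard <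
        {u : G | IsConj i u ∧ u ∈ N}.ncard) :
    N = ⊤ := by
  by_contra hne
  obtain ⟨x, hx, hxN, hle⟩ := exists_inverted N hi hiN huniq hne
  exact absurd hle (not_le.2 (hsmall x hx hxN))

end Cfsg.Lib.SwapCount
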